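import Cfsg.Agent.Lib.CharTheory
import Cfsg.Agent.Lib.Blocks.Principal

/-!
The two configurations of the Janko–Thompson theorem: the class functions of `PSL₂(q)` and the local
structure of a group with an involution centraliser `2 × PSL₂(q)`, `q = 4 y + δ`.
See `blueprint/S0343.md`.
-/

set_option autoImplicit false

namespace CfsgLib.JankoThompson

open Cfsg CfsgLib CfsgLib.CharTheory

universe u v

/-- The involutions inverting `x`. -/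
noncomputable def invCount {L : Type v} [Group L] (x : L) : ℕ :=
  Nat.card {u : L // orderOf u = 2 ∧ u * x * u⁻¹ = x⁻¹}

/-- The class functions of `L = PSL₂(q)` vanishing on elements of even order. -/
structure LData (L : Type v) [Group L] [Fintype L] where
  q : ℕ
  y : ℕ
  z : ℕ
  δ : ℤ
  hδ : δ = 1 ∨ δ = -1
  hy : Odd y
  hq : (q : ℤ) = 4 * y + δ
  hz : (z : ℤ) = 2 * y + δ
  card : 2 * (Nat.card L : ℤ) = q * ((q : ℤ) ^ 2 - 1)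
  Y : Subgroup L
  cardY : Nat.card Y = y
  cycY : IsCyclic Y
  Z : Subgroup L
  cardZ : Nat.card Z = z
  cycZ : IsCyclic Z
  φa : L → ℂ
  φb : Fin 2 → L → ℂ
  gen_a : IsGeneralizedCharacter L φa
  gen_b : ∀ i, IsGeneralizedCharacter L (φb i)
  even_a : ∀ x : L, Even (orderOf x) → φa x = 0
  even_b : ∀ i, ∀ x : L, Even (orderOf x) → φb i x = 0
  aa : classInner φa φa = 2
  ab : ∀ i, classInner φa (φb i) = -(δ : ℂ)
  bb : ∀ i, classInner (φb i) (φb i) = 2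
  b01 : classInner (φb 0) (φb 1) = 1
  a_one : classInner φa (fun _ => 1) = 1
  b_one : ∀ i, classInner (φb i) (fun _ => 1) = 0
  a_deg : φa 1 = 1 - (δ : ℂ) * q
  b_deg : ∀ i, 2 * φb i 1 = 3 * (q : ℂ) + δ
  a_Y : ∀ x ∈ Y, x ≠ 1 → φa x = 0
  b_Y : ∀ i, ∀ x ∈ Y, x ≠ 1 → φb i x = 2 * (δ : ℂ)
  ident : ∀ x : L, φa x + (δ : ℂ) * (φb 0 x + φb 1 x) - indFun Y (fun _ => 1) x =
    2 * (φa x - indFun Z (fun _ => 1) x)
  inv_Y : ∀ x ∈ Y, x ≠ 1 → invCount x = 2 * y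
  wt_a : ∑ x : L, φa x * (2 * invCount x : ℕ) = ((q : ℂ) + δ) * Nat.card L
  wt_b : ∀ i, ((q : ℂ) - δ) * ∑ x : L, φb i x * (2 * invCount x : ℕ) =
    (3 * (q : ℂ) + δ) * Nat.card L
  ll : ∀ θ : Z →* ℂˣ, θ ≠ 1 →
    classInner (fun x => φa x + indFun Z (fun h => (θ h : ℂ) - 1) x)
      (fun x => φa x + indFun Z (fun h => (θ h : ℂ) - 1) x) = 1
  la : ∀ θ : Z →* ℂˣ, θ ≠ 1 →
    classInner φa (fun x => φa x + indFun Z (fun h => (θ h : ℂ) - 1) x) = 0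
  lb : ∀ i, ∀ θ : Z →* ℂˣ, θ ≠ 1 →
    classInner (φb i) (fun x => φa x + indFun Z (fun h => (θ h : ℂ) - 1) x) = 0
  lY : ∀ θ : Z →* ℂˣ, ∀ x ∈ Y, x ≠ 1 → indFun Z (fun h => (θ h : ℂ) - 1) x = 0

variable {G : Type u} [Group G]

/-- The element `t ^ i · (v ^ j y)` of `A = ⟨t, v⟩ × Y`. -/
def aElt {L : Type v} [Group L] (t : G) (E : L →* G) (v : L) (i j : Fin 2) (y : L) : G :=
  t ^ (i : ℕ) * E (v ^ (j : ℕ) * y)

/-- The local configuration. -/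
structure Cfg (G : Type u) [Group G] [Fintype G] (L : Type v) [Group L] [Fintype L] where
  D : LData L
  seven_le : 7 ≤ D.y
  t : G
  t_ord : orderOf t = 2
  E : L →* G
  E_inj : Function.Injective E
  E_comm : ∀ l, Commute t (E l)
  t_not : ∀ l, E l ≠ t
  cent : ∀ g : G, Commute g t → ∃ l, g = E l ∨ g = t * E l
  all_conj : ∀ u : G, orderOf u = 2 → ∃ g : G, g * t * g⁻¹ = u
  linear : ∀ χ : IrrCharacter G, (χ : G → ℂ) 1 = 1 → χ = Blocks.oneIrr G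
  v : L
  v_ord : orderOf v = 2
  v_comm : ∀ y ∈ D.Y, Commute v y
  σ : G
  w : G
  σ_t : σ * t * σ⁻¹ = E v
  σ_v : σ * E v * σ⁻¹ = t * E v
  σ_tv : σ * (t * E v) * σ⁻¹ = t
  α : D.Y ≃* D.Y
  σ_Y : ∀ y : D.Y, σ * E y * σ⁻¹ = E (α y)
  α_cube : ∀ y, α (α (α y)) = y
  α_fpf : ∀ y, y ≠ 1 → α y ≠ y ∧ α y ≠ y⁻¹
  w_t : Commute w t
  w_v : Commute w (E v)
  w_Y : ∀ y ∈ D.Y, w * E y * w⁻¹ = E y⁻¹
  transporter : ∀ g : G, ∀ i j i' j' : Fin 2, ∀ y ∈ D.Y, ∀ y' ∈ D.Y, y ≠ 1 →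
    g * aElt t E v i j y * g⁻¹ = aElt t E v i' j' y' →
    ∃ (k : Fin 3) (e i₀ j₀ : Fin 2), ∃ y₀ ∈ D.Y,
      g = σ ^ (k : ℕ) * w ^ (e : ℕ) * aElt t E v i₀ j₀ y₀
  inverting : ∀ y ∈ D.Y, y ≠ 1 →
    Nat.card {u : G // orderOf u = 2 ∧ u * E y * u⁻¹ = (E y)⁻¹} = 4 * D.y

end CfsgLib.JankoThompson
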