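import Cfsg.Agent.Lib.JankoThompson.LocalT
import Cfsg.Agent.Lib.JankoThompson.Interface
import Cfsg.Agent.Lib.E8Solv.Main

/-!
The local configuration of `blueprint/S0343.md`, section 1, from the hypotheses with `q ≥ 11`.
-/

set_option autoImplicit false
set_option linter.unusedSectionVars false
set_option linter.style.haveILetI false
set_option maxHeartbeats 1600000

namespace CfsgLib.JankoThompson

universe u v

namespace Hyp

variable {G : Type u} [Group G] [Finite G] {L : Type v} [Group L] {H : Hyp G L}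

namespace Rot

variable (R : H.Rot)

include R in
/-- The centraliser of a non-trivial element of `Y` is `A`. -/
theorem cent_Y {b : L} (hb : b ∈ H.Y) (h1 : b ≠ 1) {g : G} (hg : Commute g (H.E b)) : H.InA g :=
  R.cent_not hb h1 (R.not_comm hb h1) hg

/-- A conjugation of an element of `A` outside `V` to another one moves `V` to itself. -/
theorem norm_of_conj {g : G} {c c' : L} (hc : c ∈ H.Y) (hc' : c' ∈ H.Y) (hc1 : c ≠ 1)
    (hg : g * H.E c * g⁻¹ = H.E c') :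
    ∃ (k : Fin 3) (e : Fin 2) (a : G), H.InA a ∧ g = R.σ ^ (k : ℕ) * R.w ^ (e : ℕ) * a := by
  have hc'1 : c' ≠ 1 := fun e => hc1 (iota_inj H.e (by
    rw [map_one]; exact conj_eq_one_iff.mp (by rw [hg, e, map_one])))
  have key : ∀ {w : G}, H.InV w → H.InV (g * w * g⁻¹) := by
    intro w hw
    have hA : H.InA (g * w * g⁻¹) :=
      R.cent_Y hc' hc'1 (hg ▸ commute_conj (H.inA_comm (H.inV_inA hw) (H.inA_E hc)) g)
    have hsq : g * w * g⁻¹ * (g * w * g⁻¹) = 1 := by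
      rw [show g * w * g⁻¹ * (g * w * g⁻¹) = g * (w * w) * g⁻¹ by group, H.inV_sq hw, mul_one, mul_inv_cancel]
    rcases H.inA_sq hA hsq with e | e
    · exact absurd (conj_eq_one_iff.mp e) (H.inV_ne hw)
    · exact e
  exact R.norm_V (key (Or.inl rfl)) (key (Or.inr (Or.inl rfl)))

/-- An element of `w A` is an involution. -/
theorem wA_sq {a : G} (ha : H.InA a) : R.w * a * (R.w * a) = 1 := by
  obtain ⟨i, j, b, hb, rfl⟩ := ha
  have hcb : Commute (H.t ^ (i : ℕ) * H.tv ^ (j : ℕ)) (H.E b) :=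
    ((H.E_comm b).pow_left _).mul_left (((H.F.v_Y b hb).map H.E).pow_left _)
  have hcw : Commute R.w (H.t ^ (i : ℕ) * H.tv ^ (j : ℕ)) := (R.w_t.pow_right _).mul_right (R.w_v.pow_right _)
  have e : aElt H.t H.E H.F.v i j b = H.t ^ (i : ℕ) * H.tv ^ (j : ℕ) * H.E b := by
    simp [aElt, map_mul, map_pow, mul_assoc]
  set P := H.t ^ (i : ℕ) * H.tv ^ (j : ℕ) with hP
  have hPP : P * P = 1 := by
    rw [hP, ((H.E_comm _).pow_pow _ _).symm.mul_mul_mul_comm, ← ((Commute.refl H.t).mul_pow), H.tt, one_pow,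
      ← ((Commute.refl H.tv).mul_pow), H.vv, one_pow, one_mul]
  have hwb : R.w * H.E b = (H.E b)⁻¹ * R.w := by
    rw [← mul_inv_eq_iff_eq_mul, R.w_Y b hb, map_inv]
  rw [e]
  calc R.w * (P * H.E b) * (R.w * (P * H.E b))
      = R.w * (H.E b * P) * (R.w * (P * H.E b)) := by rw [hcb.eq]
    _ = (R.w * H.E b) * P * R.w * P * H.E b := by simp only [mul_assoc]
    _ = (H.E b)⁻¹ * (R.w * P) * (R.w * P) * H.E b := by rw [hwb]; simp only [mul_assoc]
    _ = (H.E b)⁻¹ * (P * P) * (R.w * R.w) * H.E b := by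
        rw [hcw.eq]
        calc (H.E b)⁻¹ * (P * R.w) * (P * R.w) * H.E b = (H.E b)⁻¹ * P * (R.w * P) * R.w * H.E b := by
              simp only [mul_assoc]
          _ = (H.E b)⁻¹ * (P * P) * (R.w * R.w) * H.E b := by rw [hcw.eq]; simp only [mul_assoc]
    _ = 1 := by rw [hPP, R.ww, mul_one, mul_one, inv_mul_cancel]

end Rot

end Hyp

/-- **The local configuration.** -/
theorem exists_cfg {G : Type u} [Group G] [Fintype G] [IsSimpleGroup G] {F : Type v} [Field F] [Fintype F]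
    [Fintype (Matrix.ProjectiveSpecialLinearGroup (Fin 2) F)] (hab : ∀ P : Sylow 2 G, ∀ a b : P, a * b = b * a)
    (t : G) (ht : orderOf t = 2)
    (e : Subgroup.centralizer ({t} : Set G) ≃* Multiplicative (ZMod 2) × Matrix.ProjectiveSpecialLinearGroup (Fin 2) F)
    (h11 : 11 ≤ Fintype.card F) (hq : Fintype.card F % 8 = 3 ∨ Fintype.card F % 8 = 5)
    (D : LData (Matrix.ProjectiveSpecialLinearGroup (Fin 2) F)) (hD : D.q = Fintype.card F) :
    ∃ C : Cfg G (Matrix.ProjectiveSpecialLinearGroup (Fin 2) F), C.D = D := by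
  classical
  obtain ⟨Fc⟩ := D.exists_lFacts hq h11 hD
  have hG : ¬ IsMulCommutative G := nonabelian e psl_two_nonabelian
  have hy3 : 3 ≤ D.y := by
    have h1 := D.hq
    rw [hD] at h1
    rcases D.hδ with d | d <;> rw [d] at h1 <;> omega
  let H : Hyp G (Matrix.ProjectiveSpecialLinearGroup (Fin 2) F) :=
    { t := t, ht := ht, e := e, hZ := psl_two_center (by omega), hab := hab, no2 := index_ne_two hG
      q := D.q, y := D.y, z := D.z, δ := D.δ, hδ := D.hδ, hy := D.hy, hy3 := hy3, hq := D.hq, hz := D.hz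
      Y := D.Y, cycY := D.cycY, cardY := D.cardY, F := Fc }
  obtain ⟨R⟩ := H.exists_rot
  -- the automorphism of `Y`
  let f : D.Y → D.Y := fun b => ⟨(R.σ_Y b.2).choose, (R.σ_Y b.2).choose_spec.1⟩
  have hf : ∀ b : D.Y, R.σ * H.E b * R.σ⁻¹ = H.E (f b) := fun b => (R.σ_Y b.2).choose_spec.2
  have hf_mul : ∀ a b : D.Y, f (a * b) = f a * f b := fun a b => Subtype.ext (iota_inj H.e (by
    show H.E (f (a * b)) = H.E ((f a : Matrix.ProjectiveSpecialLinearGroup (Fin 2) F) * f b)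
    rw [map_mul, ← hf, ← hf, ← hf, Subgroup.coe_mul, map_mul]; group))
  let φ : D.Y →* D.Y := MonoidHom.mk' f hf_mul
  have hφi : Function.Injective φ := fun a b h => Subtype.ext (iota_inj H.e (by
    have h' : H.E (f a) = H.E (f b) := congrArg (fun x : D.Y => H.E x) h
    rw [← hf, ← hf] at h'
    exact mul_left_cancel (mul_right_cancel h')))
  let α : D.Y ≃* D.Y := MulEquiv.ofBijective φ (Finite.injective_iff_bijective.mp hφi)
  have hα : ∀ b : D.Y, R.σ * H.E b * R.σ⁻¹ = H.E (α b) := hf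
  have hcube : ∀ b : D.Y, α (α (α b)) = b := fun b => Subtype.ext (iota_inj H.e (by
    show H.E _ = H.E _
    rw [← hα, ← hα, ← hα,
      show R.σ * (R.σ * (R.σ * H.E b * R.σ⁻¹) * R.σ⁻¹) * R.σ⁻¹ = (R.σ * R.σ * R.σ) * H.E b * (R.σ * R.σ * R.σ)⁻¹ by group,
      show R.σ * R.σ * R.σ = 1 by rw [← R.σ3, pow_succ, pow_two], one_mul, inv_one, mul_one]))
  have hne : ∀ b : D.Y, b ≠ 1 → α b ≠ b := fun b hb h => R.not_comm b.2 (fun e => hb (Subtype.ext e)) (by
    have h' := hα b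
    rw [h] at h'
    exact mul_inv_eq_iff_eq_mul.mp h')
  have hfpf : ∀ b : D.Y, b ≠ 1 → α b ≠ b ∧ α b ≠ b⁻¹ := by
    refine fun b hb => ⟨hne b hb, fun h => hb ?_⟩
    have h3 := hcube b
    rw [h, map_inv, h, inv_inv, h] at h3
    refine Subtype.ext (H.Y_sq b.2 ?_)
    exact mul_eq_one_iff_eq_inv.mpr (congrArg Subtype.val h3).symm
  -- at least seven
  have h7 : 7 ≤ D.y := by
    by_contra h
    haveI := D.cycY
    obtain ⟨γ, hγ⟩ := IsCyclic.exists_monoid_generator (α := D.Y)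
    obtain ⟨r, hr⟩ := hγ (α γ)
    have hγo : orderOf γ = D.y := by
      rw [← D.cardY]
      exact orderOf_eq_card_of_forall_mem_zpowers fun x => by
        obtain ⟨i, hi⟩ := hγ x
        exact hi ▸ Subgroup.npow_mem_zpowers γ i
    have h3 := hcube γ
    simp only at hr
    rw [← hr, map_pow, ← hr, map_pow, map_pow, ← hr, ← pow_mul, ← pow_mul] at h3
    nth_rewrite 2 [← pow_one γ] at h3
    rw [pow_eq_pow_iff_modEq, hγo, Nat.ModEq] at h3
    have hγ1 : γ ≠ 1 := fun e => by rw [e, orderOf_one] at hγo; omega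
    refine hne γ hγ1 ?_
    rw [← hr]
    nth_rewrite 2 [← pow_one γ]
    rw [pow_eq_pow_iff_modEq, hγo, Nat.ModEq]
    have hy := Nat.odd_iff.mp D.hy
    have hy35 : D.y = 3 ∨ D.y = 5 := by omega
    rcases hy35 with hy' | hy' <;> rw [hy'] at h3 ⊢
    · rw [Nat.mul_mod, Nat.mul_mod r r] at h3
      have : r % 3 < 3 := Nat.mod_lt _ (by norm_num)
      interval_cases h4 : r % 3 <;> simp_all
    · rw [Nat.mul_mod, Nat.mul_mod r r] at h3
      have : r % 5 < 5 := Nat.mod_lt _ (by norm_num)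
      interval_cases h4 : r % 5 <;> simp_all
  have hsq_aElt : ∀ (i j : Fin 2) {b : Matrix.ProjectiveSpecialLinearGroup (Fin 2) F}, b ∈ D.Y →
      aElt t H.E Fc.v i j b ^ 2 = H.E (b * b) := by
    intro i j b hb
    unfold aElt
    rw [((H.E_comm _).pow_left _).mul_pow, ← map_pow, ((Fc.v_Y b hb).pow_left _).mul_pow, ← pow_mul, ← pow_mul,
      mul_comm (i : ℕ), mul_comm (j : ℕ), pow_mul, pow_mul, pow_two H.t, H.tt, one_pow, one_mul, pow_two Fc.v,
      two_sq Fc.hv, one_pow, one_mul, pow_two]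
  refine ⟨
    { D := D, seven_le := h7, t := t, t_ord := ht, E := H.E, E_inj := iota_inj H.e, E_comm := H.E_comm
      t_not := H.t_not, cent := fun g hg => H.cent hg, all_conj := H.all_conj
      linear := fun χ h => E8Solv.Data.eq_one_of_degree_one hG χ h
      v := Fc.v, v_ord := Fc.hv, v_comm := Fc.v_Y, σ := R.σ, w := R.w, σ_t := R.σ_t, σ_v := R.σ_v
      σ_tv := R.σ_tv, α := α, σ_Y := hα, α_cube := hcube, α_fpf := hfpf, w_t := R.w_t, w_v := R.w_v
      w_Y := R.w_Y, transporter := ?_, inverting := ?_ }, rfl⟩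
  · intro g i j i' j' b hb b' hb' hb1 hg
    have h2 : g * H.E (b * b) * g⁻¹ = H.E (b' * b') := by
      rw [← hsq_aElt i j hb, ← hsq_aElt i' j' hb', ← hg, conj_pow]
    obtain ⟨k, e', a, ha, hge⟩ := R.norm_of_conj (mul_mem hb hb) (mul_mem hb' hb') (fun h => hb1 (H.Y_sq hb h)) h2
    obtain ⟨i₀, j₀, y₀, hy₀, rfl⟩ := ha
    exact ⟨k, e', i₀, j₀, y₀, hy₀, hge⟩
  · intro b hb hb1
    have hbne : b⁻¹ ≠ b := fun h => hb1 (H.Y_sq hb (mul_eq_one_iff_eq_inv.mpr h.symm))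
    rw [← H.card_A]
    refine (Nat.card_eq_of_bijective (fun a : H.Asub => (⟨R.w * a, order_two (fun h => R.w_not (by
        rw [eq_inv_of_mul_eq_one_left h]; exact H.inA_inv a.2)) (R.wA_sq a.2), by
      rw [show R.w * (a : G) * H.E b * (R.w * (a : G))⁻¹ = R.w * ((a : G) * H.E b * (a : G)⁻¹) * R.w⁻¹ by group,
        H.inA_conj_inA (H.inA_E hb) a.2, R.w_Y b hb, map_inv]⟩ :
      {u : G // orderOf u = 2 ∧ u * H.E b * u⁻¹ = (H.E b)⁻¹})) ⟨fun a a' h => Subtype.ext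
        (mul_left_cancel (congrArg Subtype.val h)), ?_⟩).symm
    rintro ⟨u, hu, hub⟩
    rw [← map_inv] at hub
    obtain ⟨k, e', a, ha, hue⟩ := R.norm_of_conj hb (inv_mem hb) hb1 hub
    have h2 : R.σ ^ (k : ℕ) * (R.w ^ (e' : ℕ) * H.E b * (R.w ^ (e' : ℕ))⁻¹) * (R.σ ^ (k : ℕ))⁻¹ = H.E b⁻¹ := by
      rw [← hub, hue]
      rw [show R.σ ^ (k : ℕ) * R.w ^ (e' : ℕ) * a * H.E b * (R.σ ^ (k : ℕ) * R.w ^ (e' : ℕ) * a)⁻¹ =
        R.σ ^ (k : ℕ) * (R.w ^ (e' : ℕ) * (a * H.E b * a⁻¹) * (R.w ^ (e' : ℕ))⁻¹) * (R.σ ^ (k : ℕ))⁻¹ by group,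
        H.inA_conj_inA (H.inA_E hb) ha]
    obtain ⟨d, hd, hw⟩ : ∃ d : D.Y, ((e' = 0 ∧ d = ⟨b, hb⟩) ∨ (e' = 1 ∧ d = ⟨b, hb⟩⁻¹)) ∧
        R.w ^ (e' : ℕ) * H.E b * (R.w ^ (e' : ℕ))⁻¹ = H.E d := by
      fin_cases e'
      · exact ⟨_, Or.inl ⟨rfl, rfl⟩, by simp⟩
      · exact ⟨_, Or.inr ⟨rfl, rfl⟩, by simpa using R.w_Y b hb⟩
    rw [hw] at h2
    set b0 : D.Y := ⟨b, hb⟩ with hb0
    have hb0ne : b0 ≠ 1 := fun h => hb1 (congrArg Subtype.val h)
    have hk0 : k = 0 := by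
      fin_cases k
      · rfl
      · exfalso
        simp only [Fin.mk_one, Fin.isValue, Fin.val_one, pow_one] at h2
        rw [hα] at h2
        have h' : α d = b0⁻¹ := Subtype.ext (iota_inj H.e h2)
        rcases hd with ⟨-, rfl⟩ | ⟨-, rfl⟩
        · exact (hfpf b0 hb0ne).2 h'
        · exact (hfpf b0 hb0ne).1 (inv_injective (by rw [← map_inv]; exact h'))
      · exfalso
        rw [show ((⟨2, by norm_num⟩ : Fin 3) : ℕ) = 2 from rfl, pow_two,
          show R.σ * R.σ * H.E (d : Matrix.ProjectiveSpecialLinearGroup (Fin 2) F) * (R.σ * R.σ)⁻¹ =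
            R.σ * (R.σ * H.E d * R.σ⁻¹) * R.σ⁻¹ by group, hα, hα] at h2
        have h' : α (α d) = b0⁻¹ := Subtype.ext (iota_inj H.e h2)
        have h'' : d = (α b0)⁻¹ := by rw [← hcube d, h', map_inv]
        rcases hd with ⟨-, rfl⟩ | ⟨-, rfl⟩
        · exact (hfpf b0 hb0ne).2 (by nth_rewrite 2 [h'']; rw [inv_inv])
        · exact (hfpf b0 hb0ne).1 (inv_injective h'').symm
    subst hk0
    rcases hd with ⟨-, rfl⟩ | ⟨he1, -⟩
    · simp only [Fin.isValue, Fin.val_zero, pow_zero, one_mul, inv_one, mul_one] at h2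
      exact absurd (iota_inj H.e h2).symm hbne
    · subst he1
      refine ⟨⟨a, ha⟩, Subtype.ext ?_⟩
      show R.w * a = u
      rw [hue]; simp

end CfsgLib.JankoThompson
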