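import Cfsg.Agent.Lib.JankoThompson.Frob

/-!
A transitive group of automorphisms of an elementary abelian group of order `2^(n+1)` whose point stabiliser has
order `2^n - 1` and is semiregular on the other points: `n ≤ 2`.
-/

set_option autoImplicit false
set_option linter.unusedSectionVars false
set_option linter.style.haveILetI false

namespace CfsgLib.JankoThompson

universe u

/-- A semiregular action: the order of the group divides the number of points. -/
theorem card_dvd_of_free {H : Type*} {X : Type*} [Group H] [MulAction H X] [Finite X] [Finite H]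
    (h : ∀ (a : H) (x : X), a • x = x → a = 1) : Nat.card H ∣ Nat.card X := by
  classical
  haveI : Fintype (Quotient (MulAction.orbitRel H X)) := Fintype.ofFinite _
  rw [Nat.card_congr (MulAction.selfEquivSigmaOrbitsQuotientStabilizer H X), Nat.card_sigma]
  refine Finset.dvd_sum fun ω _ => ?_
  have hs : MulAction.stabilizer H (Quotient.out ω) = ⊥ :=
    (Subgroup.eq_bot_iff_forall _).2 fun a ha => h a _ ha
  rw [hs, ← Subgroup.index_eq_card, Subgroup.index_bot]

/-- The number of solutions of `x ^ p = 1` is a multiple of `p`. -/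
theorem prime_dvd_card_pow_eq_one {A : Type*} [Group A] [Finite A] {p : ℕ} [hp : Fact p.Prime] {k : A}
    (hk : orderOf k = p) : p ∣ Nat.card {x : A // x ^ p = 1} := by
  classical
  have hcard : Nat.card (Subgroup.zpowers k) = p := by rw [Nat.card_zpowers, hk]
  have hpg : IsPGroup p (Subgroup.zpowers k) := IsPGroup.of_card (n := 1) (by rw [hcard, pow_one])
  let X := {x : A // x ^ p = 1}
  letI : MulAction (Subgroup.zpowers k) X :=
    { smul := fun a x => ⟨(a : A) * x.1 * (a : A)⁻¹, by rw [conj_pow, x.2]; group⟩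
      one_smul := fun x => Subtype.ext (show ((1 : Subgroup.zpowers k) : A) * x.1 * ((1 : Subgroup.zpowers k) : A)⁻¹ = x.1 by simp)
      mul_smul := fun a b x => Subtype.ext (show ((a * b : Subgroup.zpowers k) : A) * x.1 * ((a * b : Subgroup.zpowers k) : A)⁻¹ =
        (a : A) * ((b : A) * x.1 * (b : A)⁻¹) * (a : A)⁻¹ by rw [Subgroup.coe_mul]; group) }
  have h1 := hpg.card_modEq_card_fixedPoints X
  let Y := MulAction.fixedPoints (Subgroup.zpowers k) X
  have hcomm : ∀ x : Y, ∀ a : Subgroup.zpowers k, Commute (a : A) x.1.1 := fun x a => by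
    have h2 : (a : A) * x.1.1 * (a : A)⁻¹ = x.1.1 := congrArg Subtype.val (x.2 a)
    exact mul_inv_eq_iff_eq_mul.1 h2
  letI : MulAction (Subgroup.zpowers k) Y :=
    { smul := fun a x => ⟨⟨(a : A) * x.1.1, by
        rw [(hcomm x a).mul_pow, x.1.2, mul_one, ← Subgroup.coe_pow, ← hcard, pow_card_eq_one', Subgroup.coe_one]⟩,
        fun b => Subtype.ext (show (b : A) * ((a : A) * x.1.1) * (b : A)⁻¹ = (a : A) * x.1.1 by
          obtain ⟨i, hi⟩ := a.2
          obtain ⟨j, hj⟩ := b.2
          have hab : Commute (b : A) (a : A) := by rw [← hi, ← hj]; exact (Commute.refl k).zpow_zpow j i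
          rw [(hab.mul_right (hcomm x b)).eq, mul_inv_cancel_right])⟩
      one_smul := fun x => Subtype.ext (Subtype.ext (show ((1 : Subgroup.zpowers k) : A) * x.1.1 = x.1.1 by simp))
      mul_smul := fun a b x => Subtype.ext (Subtype.ext (show ((a * b : Subgroup.zpowers k) : A) * x.1.1 =
        (a : A) * ((b : A) * x.1.1) by rw [Subgroup.coe_mul, mul_assoc])) }
  have h2 : p ∣ Nat.card Y := by
    rw [← hcard]
    refine card_dvd_of_free fun a x e => Subtype.ext ?_
    have e' : (a : A) * x.1.1 = x.1.1 := congrArg (fun z : Y => z.1.1) e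
    rw [Subgroup.coe_one]
    exact mul_eq_right.1 e'
  exact Nat.modEq_zero_iff_dvd.1 (h1.trans (Nat.modEq_zero_iff_dvd.2 h2))

/-- The bound. -/
theorem frobenius_bound {P : Type u} [Group P] [Finite P] (hsq : ∀ a : P, a * a = 1)
    (A : Subgroup (MulAut P)) {n : ℕ} (hn : 1 ≤ n) (hcard : Nat.card P = 2 ^ (n + 1))
    {t : P} (ht : t ≠ 1) (htrans : ∀ s : P, s ≠ 1 → ∃ a ∈ A, a t = s)
    (hstab : Nat.card {a : A // (a : MulAut P) t = t} = 2 ^ n - 1)
    (hsemi : ∀ a ∈ A, a t = t → ∀ s, s ≠ 1 → s ≠ t → a s = s → a = 1) : n ≤ 2 := by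
  classical
  haveI : Fintype P := Fintype.ofFinite P
  haveI : Finite (MulAut P) := Finite.of_injective (fun e : MulAut P => (e : P → P)) fun e e' h =>
    MulEquiv.ext fun x => congrFun h x
  set q := 2 ^ n with hq
  have hq2 : 2 ≤ q := by
    calc 2 = 2 ^ 1 := rfl
      _ ≤ q := Nat.pow_le_pow_right (by norm_num) hn
  set H : Subgroup A :=
    { carrier := {a | (a : MulAut P) t = t}
      one_mem' := rfl
      mul_mem' := fun {a b} (ha : (a : MulAut P) t = t) (hb : (b : MulAut P) t = t) => by
        show (a : MulAut P) ((b : MulAut P) t) = t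
        rw [hb]; exact ha
      inv_mem' := fun {a} (ha : (a : MulAut P) t = t) => by
        show ((a : MulAut P)⁻¹) t = t
        conv_lhs => rw [← ha]
        exact MulEquiv.symm_apply_apply _ _ } with hH
  have hHc : Nat.card H = q - 1 := hstab
  have hmemH : ∀ a : A, a ∈ H ↔ (a : MulAut P) t = t := fun a => Iff.rfl
  -- a non-trivial element fixes at most one point
  have hone : ∀ a : A, a ≠ 1 → ∀ s s' : P, s ≠ 1 → s' ≠ 1 → (a : MulAut P) s = s → (a : MulAut P) s' = s' → s = s' := by
    intro a ha s s' hs hs' e e'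
    by_contra hne
    obtain ⟨c, hc, hct⟩ := htrans s hs
    apply ha
    have hfix : ∀ x, (a : MulAut P) x = x → (c⁻¹ * (a : MulAut P) * c) (c⁻¹ x) = c⁻¹ x := fun x hx => by
      simp [MulAut.mul_apply, hx]
    have hcs : c⁻¹ s = t := by rw [← hct]; exact MulEquiv.symm_apply_apply _ _
    have h1 : (c⁻¹ * (a : MulAut P) * c) t = t := hcs ▸ hfix s e
    have h2 := hsemi _ (mul_mem (mul_mem (inv_mem hc) a.2) hc) h1 (c⁻¹ s')
      (fun h => hs' (by simpa using congrArg c h))
      (fun h => hne (by rw [← hct, ← h]; exact MulEquiv.apply_symm_apply _ _)) (hfix s' e')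
    exact Subtype.ext (show (a : MulAut P) = 1 from (conj_eq_one_iff (a := c⁻¹)).1 (by rw [inv_inv]; exact h2))
  -- orbit and stabiliser
  letI : MulAction A {s : P // s ≠ 1} :=
    { smul := fun a s => ⟨(a : MulAut P) s.1, fun h => s.2 (by simpa using h)⟩
      one_smul := fun s => Subtype.ext rfl
      mul_smul := fun a b s => Subtype.ext rfl }
  have hpts : Nat.card {s : P // s ≠ 1} = 2 * q - 1 := by
    have e : Nat.card P = 2 * q := by rw [hcard, hq, pow_succ, mul_comm]
    rw [Nat.card_eq_fintype_card, Fintype.card_subtype_compl, Fintype.card_subtype_eq, ← Nat.card_eq_fintype_card, e]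
  let t' : {s : P // s ≠ 1} := ⟨t, ht⟩
  have horb : ∀ s : {s : P // s ≠ 1}, Nat.card (MulAction.stabilizer A s) = q - 1 := by
    intro s
    obtain ⟨c, hc, hct⟩ := htrans s.1 s.2
    have e : MulAction.stabilizer A t' = H := by
      ext a
      rw [MulAction.mem_stabilizer_iff, hmemH]
      exact ⟨fun h => congrArg Subtype.val h, fun h => Subtype.ext h⟩
    have hs : (⟨c, hc⟩ : A) • t' = s := Subtype.ext hct
    rw [← hs, MulAction.stabilizer_smul_eq_stabilizer_map_conj, Subgroup.card_map_of_injective (MulEquiv.injective _),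
      e, hHc]
  have hA : Nat.card A = (2 * q - 1) * (q - 1) := by
    haveI : MulAction.IsPretransitive A {s : P // s ≠ 1} := ⟨fun s s' => by
      obtain ⟨c, hc, hct⟩ := htrans s.1 s.2
      obtain ⟨d, hd, hdt⟩ := htrans s'.1 s'.2
      refine ⟨⟨d, hd⟩ * ⟨c, hc⟩⁻¹, Subtype.ext ?_⟩
      show d (c⁻¹ s.1) = s'.1
      rw [show c⁻¹ s.1 = t by rw [← hct]; exact MulEquiv.symm_apply_apply _ _, hdt]⟩
    have h := MulAction.index_stabilizer_of_transitive A t'
    rw [hpts] at h
    rw [← Subgroup.card_mul_index (MulAction.stabilizer A t'), h, horb, mul_comm]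
  -- the free elements
  haveI : Fintype A := Fintype.ofFinite A
  set Fix := fun s : {s : P // s ≠ 1} => (Finset.univ.filter fun a : A => a • s = s).erase 1
  set Fr : Finset A := (Finset.univ.filter fun a : A => ∀ s : {s : P // s ≠ 1}, a • s ≠ s)
  have hFr : Fr.card = 2 * q - 2 := by
    have hsplit : (Finset.univ : Finset A) = insert 1 (Fr ∪ Finset.univ.biUnion Fix) := by
      ext a
      simp only [Finset.mem_univ, Finset.mem_insert, Finset.mem_union, Finset.mem_biUnion, true_iff, Fr, Fix,
        Finset.mem_filter, Finset.mem_erase, true_and]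
      by_cases h1 : a = 1
      · exact Or.inl h1
      · by_cases h2 : ∃ s : {s : P // s ≠ 1}, a • s = s
        · obtain ⟨s, hs⟩ := h2
          exact Or.inr (Or.inr ⟨s, h1, hs⟩)
        · exact Or.inr (Or.inl fun s hs => h2 ⟨s, hs⟩)
    have hcardFix : ∀ s, (Fix s).card = q - 2 := fun s => by
      have hst : (Finset.univ.filter fun a : A => a • s = s).card = q - 1 := by
        rw [← horb s, Nat.card_eq_fintype_card, Fintype.card_of_subtype]
        intro a
        simp
      rw [Finset.card_erase_of_mem (by simp), hst]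
      omega
    have h1 := congrArg Finset.card hsplit
    rw [Finset.card_univ, ← Nat.card_eq_fintype_card, hA, Finset.card_insert_of_notMem,
      Finset.card_union_of_disjoint, Finset.card_biUnion, Finset.sum_congr rfl fun s _ => hcardFix s,
      Finset.sum_const, Finset.card_univ, ← Nat.card_eq_fintype_card, hpts, smul_eq_mul] at h1
    · have e : (2 * q - 1) * (q - 1) = (2 * q - 1) * (q - 2) + (2 * q - 1) := by
        obtain ⟨r, hr⟩ : ∃ r, q = r + 2 := ⟨q - 2, by omega⟩
        rw [hr]
        simp only [Nat.add_sub_cancel, show r + 2 - 1 = r + 1 by omega]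
        ring
      omega
    · intro s _ s' _ hne
      rw [Function.onFun, Finset.disjoint_left]
      intro a ha ha'
      simp only [Fix, Finset.mem_erase, Finset.mem_filter, Finset.mem_univ, true_and] at ha ha'
      exact hne (Subtype.ext (hone a ha.1 _ _ s.2 s'.2 (congrArg Subtype.val ha.2) (congrArg Subtype.val ha'.2)))
    · rw [Finset.disjoint_left]
      intro a ha ha'
      simp only [Fix, Fr, Finset.mem_biUnion, Finset.mem_erase, Finset.mem_filter, Finset.mem_univ, true_and] at ha ha'
      obtain ⟨s, -, hs⟩ := ha'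
      exact ha s hs
    · simp only [Fix, Fr, Finset.mem_union, Finset.mem_biUnion, Finset.mem_erase, Finset.mem_filter, Finset.mem_univ,
        true_and]
      rintro (h | ⟨s, h, -⟩)
      · exact h t' (one_smul A t')
      · exact h rfl
  -- elements of prime order among them
  have hfree : ∀ a : A, a ∈ Fr ↔ ∀ s : {s : P // s ≠ 1}, a • s ≠ s := fun a => by simp [Fr]
  have hfix_ord : ∀ a : A, a ≠ 1 → a ∉ Fr → orderOf a ∣ q - 1 := by
    intro a ha hnot
    rw [hfree] at hnot
    push Not at hnot
    obtain ⟨s, hs⟩ := hnot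
    rw [← horb s]
    exact Subgroup.orderOf_dvd_natCard _ (MulAction.mem_stabilizer_iff.2 hs)
  have hconj : ∀ a b : A, a ∈ Fr → b * a * b⁻¹ ∈ Fr := fun a b ha => by
    rw [hfree] at ha ⊢
    intro s hs
    apply ha (b⁻¹ • s)
    have := congrArg (b⁻¹ • ·) hs
    simpa [mul_smul] using this
  have hcommFr : ∀ k ∈ Fr, ∀ a : A, a • t' = t' → Commute a k → a = 1 := by
    intro k hk a ha hc
    by_contra hne
    rw [hfree] at hk
    apply hk t'
    refine Subtype.ext (hone a hne _ _ (k • t').2 t'.2 ?_ (congrArg Subtype.val ha))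
    show ((a * k) • t').1 = (k • t').1
    rw [hc.eq, mul_smul, ha]
  have key : ∀ p : ℕ, p.Prime → p ∣ 2 * q - 1 → ∀ a ∈ Fr, orderOf a = p := by
    intro p hp hdvd
    haveI : Fact p.Prime := ⟨hp⟩
    have hpq : ¬ p ∣ q - 1 := fun h => by
      have h' : p ∣ (2 * q - 1) - 2 * (q - 1) := Nat.dvd_sub hdvd (dvd_mul_of_dvd_right h 2)
      rw [show (2 * q - 1) - 2 * (q - 1) = 1 by omega] at h'
      exact hp.one_lt.ne' (Nat.dvd_one.1 h')
    obtain ⟨k, hk⟩ := exists_prime_orderOf_dvd_card' (G := A) p (hA ▸ dvd_mul_of_dvd_left hdvd _)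
    have hmem : ∀ a : A, orderOf a = p → a ∈ Fr := fun a ha => by
      by_contra hnot
      refine hpq (ha ▸ hfix_ord a (fun e => ?_) hnot)
      rw [e, orderOf_one] at ha
      exact hp.ne_one ha.symm
    set X : Finset A := Fr.filter fun a => orderOf a = p
    have hX : Nat.card {x : A // x ^ p = 1} = X.card + 1 := by
      rw [Nat.card_eq_fintype_card, Fintype.card_subtype,
        show (Finset.univ.filter fun x : A => x ^ p = 1) = insert 1 X from ?_]
      · rw [Finset.card_insert_of_notMem]
        simp [X, hp.ne_one.symm]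
      · ext x
        simp only [X, Finset.mem_filter, Finset.mem_univ, true_and, Finset.mem_insert]
        constructor
        · intro hx
          rcases eq_or_ne x 1 with h | h
          · exact Or.inl h
          · exact Or.inr ⟨hmem x (orderOf_eq_prime hx h), orderOf_eq_prime hx h⟩
        · rintro (rfl | ⟨-, h⟩)
          · exact one_pow p
          · rw [← h]; exact pow_orderOf_eq_one x
    have hp1 := prime_dvd_card_pow_eq_one hk
    rw [hX] at hp1
    letI : MulAction H X :=
      { smul := fun b x => ⟨(b : A) * x.1 * (b : A)⁻¹, by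
          have hx := Finset.mem_filter.1 x.2
          exact Finset.mem_filter.2 ⟨hconj _ _ hx.1, by rw [← hx.2]; exact (MulEquiv.orderOf_eq (MulAut.conj (b : A)) x.1)⟩⟩
        one_smul := fun x => Subtype.ext (show ((1 : H) : A) * x.1 * ((1 : H) : A)⁻¹ = x.1 by simp)
        mul_smul := fun a b x => Subtype.ext (show ((a * b : H) : A) * x.1 * ((a * b : H) : A)⁻¹ =
          (a : A) * ((b : A) * x.1 * (b : A)⁻¹) * (a : A)⁻¹ by rw [Subgroup.coe_mul]; group) }
    have hdv : q - 1 ∣ X.card := by
      rw [← hHc, ← Nat.card_eq_finsetCard]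
      refine card_dvd_of_free fun b x e => Subtype.ext ?_
      have e' : (b : A) * x.1 * (b : A)⁻¹ = x.1 := congrArg Subtype.val e
      exact hcommFr x.1 (Finset.mem_filter.1 x.2).1 b (Subtype.ext b.2) (mul_inv_eq_iff_eq_mul.1 e')
    have hle : X.card ≤ 2 * q - 2 := hFr ▸ Finset.card_filter_le _ _
    have hpos : 0 < X.card := Finset.card_pos.2 ⟨k, Finset.mem_filter.2 ⟨hmem k hk, hk⟩⟩
    have heq : X.card = 2 * q - 2 := by
      obtain ⟨m, hm⟩ := hdv
      rcases m with _ | _ | _ | m
      · rw [mul_zero] at hm; omega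
      · exfalso
        rw [zero_add, mul_one] at hm
        rw [hm, show q - 1 + 1 = q by omega] at hp1
        have h2 := (Nat.prime_dvd_prime_iff_eq hp Nat.prime_two).1 (hp.dvd_of_dvd_pow (hq ▸ hp1))
        rw [h2] at hdvd
        omega
      · omega
      · have h1 : (q - 1) * 3 ≤ (q - 1) * (m + 1 + 1 + 1) := Nat.mul_le_mul_left _ (by omega)
        omega
    intro a ha
    have hXF : X = Fr := Finset.eq_of_subset_of_card_le (Finset.filter_subset _ _) (by rw [heq, hFr])
    rw [← hXF] at ha
    exact (Finset.mem_filter.1 ha).2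
  obtain ⟨p, hp, hpd⟩ := Nat.exists_prime_and_dvd (show 2 * q - 1 ≠ 1 by omega)
  haveI : Fact p.Prime := ⟨hp⟩
  obtain ⟨k, hk⟩ := Finset.card_pos.1 (show 0 < Fr.card by omega)
  have hord := key p hp hpd
  -- `2 q - 1` is a power of `p`, hence equal to `p`
  have hpow : 2 * q - 1 = p := by
    have hq4 : 2 * q - 1 + 1 = 2 ^ (n + 1) := by rw [pow_succ, ← hq]; omega
    have honly : ∀ r : ℕ, r.Prime → r ∣ 2 * q - 1 → r = p := fun r hr hrd =>
      (key r hr hrd k hk).symm.trans (hord k hk)
    obtain ⟨e, he⟩ : ∃ e, 2 * q - 1 = p ^ e := ⟨_, Nat.eq_prime_pow_of_unique_prime_dvd (by omega) (fun {r} hr hrd => honly r hr hrd)⟩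
    rcases e with _ | _ | e
    · rw [pow_zero] at he; omega
    · rw [he, zero_add, pow_one]
    · exfalso
      have hpodd : Odd p := hp.odd_of_ne_two (fun e2 => by rw [e2] at hpd; omega)
      rcases Nat.even_or_odd e with ⟨i, hi⟩ | ⟨i, hi⟩
      · have h4 : 4 ∣ p ^ (e + 1 + 1) + 1 := by
          rw [← he, hq4]
          exact ⟨2 ^ (n - 1), by rw [show n + 1 = 2 + (n - 1) by omega, pow_add]; norm_num⟩
        rw [show e + 1 + 1 = (i + 1) + (i + 1) by omega, pow_add] at h4
        obtain ⟨o, ho⟩ := hpodd.pow (n := i + 1)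
        rw [ho] at h4
        obtain ⟨w, hw⟩ := h4
        ring_nf at hw
        omega
      · have hd : (p + 1 : ℤ) ∣ (p : ℤ) ^ (e + 1 + 1) + 1 := by
          have ho2 : Odd (e + 1 + 1) := ⟨i + 1, by omega⟩
          simpa using ho2.add_dvd_pow_add_pow (p : ℤ) 1
        obtain ⟨c, hc⟩ := hd
        have hsum : (∑ j ∈ Finset.range (e + 1 + 1), (-(p : ℤ)) ^ j) = c := by
          apply mul_left_cancel₀ (show (p + 1 : ℤ) ≠ 0 by positivity)
          rw [← hc]
          have h := geom_sum_mul (-(p : ℤ)) (e + 1 + 1)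
          rw [Odd.neg_pow ⟨i + 1, by omega⟩] at h
          linarith
        have hcodd : Odd c := by
          rw [← hsum, Int.odd_iff, Finset.sum_int_mod, Finset.sum_congr rfl fun j _ => show (-(p : ℤ)) ^ j % 2 = 1 from
            Int.odd_iff.1 (Odd.pow (by simpa using hpodd))]
          simp only [Finset.sum_const, Finset.card_range, nsmul_eq_mul, mul_one]
          omega
        have hc2 : c.natAbs ∣ 2 ^ (n + 1) := by
          have : (c.natAbs : ℕ) ∣ ((p : ℤ) ^ (e + 1 + 1) + 1).natAbs := by rw [hc, Int.natAbs_mul]; exact dvd_mul_left _ _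
          rwa [show ((p : ℤ) ^ (e + 1 + 1) + 1).natAbs = p ^ (e + 1 + 1) + 1 by norm_cast, ← he, hq4] at this
        obtain ⟨j, -, hj⟩ := (Nat.dvd_prime_pow Nat.prime_two).1 hc2
        have hj0 : j = 0 := by
          by_contra hne
          have h2 : 2 ∣ c.natAbs := hj ▸ dvd_pow_self 2 hne
          obtain ⟨w, hw⟩ := h2
          obtain ⟨o, ho⟩ := hcodd
          omega
        rw [hj0, pow_zero] at hj
        have hp3 : 3 ≤ p := by
          rcases hp.two_le.eq_or_lt with e2 | e2
          · rw [← e2] at hpd; omega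
          · exact e2
        have hbig : (p : ℤ) + 1 < (p : ℤ) ^ (e + 1 + 1) + 1 := by
          have h2 : p ^ 1 < p ^ (e + 1 + 1) := Nat.pow_lt_pow_right (by omega) (by omega)
          rw [pow_one] at h2
          have h3 : (p : ℤ) < ((p ^ (e + 1 + 1) : ℕ) : ℤ) := by exact_mod_cast h2
          push_cast at h3
          linarith
        rcases Int.natAbs_eq c with h | h <;> rw [hj] at h <;> rw [h] at hc <;> push_cast at hc <;> linarith
  -- the linear representation
  letI : CommGroup P := { (inferInstance : Group P) with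
    mul_comm := fun a b => by
      have hi : ∀ x : P, x⁻¹ = x := fun x => inv_eq_of_mul_eq_one_right (hsq x)
      calc a * b = (a * b)⁻¹ := (hi _).symm
        _ = b * a := by rw [mul_inv_rev, hi, hi] }
  letI : Module (ZMod 2) (Additive P) := AddCommGroup.zmodModule fun x => by
    rw [two_nsmul]
    exact congrArg Additive.ofMul (hsq (Additive.toMul x))
  haveI : Module.Finite (ZMod 2) (Additive P) := Module.Finite.of_finite
  haveI : Nontrivial (Additive P) := ⟨⟨Additive.ofMul t, 0, fun e => ht (congrArg Additive.toMul e)⟩⟩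
  let ρ : A →* Module.End (ZMod 2) (Additive P) :=
    { toFun := fun a => (MonoidHom.toAdditive (a : MulAut P).toMonoidHom).toZModLinearMap 2
      map_one' := rfl
      map_mul' := fun a b => rfl }
  have hρ : ∀ (a : A) (x : P), ρ a (Additive.ofMul x) = Additive.ofMul ((a : MulAut P) x) := fun a x => rfl
  have hkp : orderOf k = p := hord k hk
  have hpk : ∀ i j, i < p → j < p → (k ^ i) • t' = (k ^ j) • t' → i = j := by
    intro i j hi hj e
    wlog hij : i ≤ j generalizing i j
    · exact (this j i hj hi e.symm (by omega)).symm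
    by_contra hne
    have h1 : k ^ (j - i) • t' = t' := by
      rw [show j = i + (j - i) by omega, pow_add, mul_smul] at e
      exact ((MulAction.injective (k ^ i)) e).symm
    have h2 : k ^ (j - i) ∈ Fr := by
      have hne1 : k ^ (j - i) ≠ 1 := fun e1 => by
        have := Nat.le_of_dvd (by omega) (hkp ▸ orderOf_dvd_of_pow_eq_one e1)
        omega
      by_contra hnot
      have hd := hfix_ord _ hne1 hnot
      rw [orderOf_eq_prime (p := p) (by rw [← pow_mul, mul_comm, pow_mul, ← hkp, pow_orderOf_eq_one, one_pow]) hne1] at hd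
      have h' : p ∣ (2 * q - 1) - 2 * (q - 1) := Nat.dvd_sub hpd (dvd_mul_of_dvd_right hd 2)
      rw [show (2 * q - 1) - 2 * (q - 1) = 1 by omega] at h'
      exact hp.one_lt.ne' (Nat.dvd_one.1 h')
    exact (hfree _).1 h2 t' h1
  have hall : ∀ s : {s : P // s ≠ 1}, ∃ i < p, (k ^ i) • t' = s := by
    haveI : Fintype {s : P // s ≠ 1} := Fintype.ofFinite _
    intro s
    have hinj : Function.Injective fun i : Fin p => (k ^ (i : ℕ)) • t' := fun i j e => Fin.ext (hpk i j i.2 j.2 e)
    have hbij := (Fintype.bijective_iff_injective_and_card _).2 ⟨hinj, by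
      rw [Fintype.card_fin, ← Nat.card_eq_fintype_card, hpts, hpow]⟩
    obtain ⟨i, hi⟩ := hbij.2 s
    exact ⟨i, i.2, hi⟩
  have hirr : ∀ W : Submodule (ZMod 2) (Additive P), (∀ w ∈ W, ρ k w ∈ W) → W = ⊥ ∨ W = ⊤ := by
    intro W hW
    rcases eq_or_ne W ⊥ with h | h
    · exact Or.inl h
    refine Or.inr (Submodule.eq_top_iff'.2 fun x => ?_)
    obtain ⟨w, hw, hw0⟩ := (Submodule.ne_bot_iff W).1 h
    have hWp : ∀ i : ℕ, ∀ w ∈ W, ρ (k ^ i) w ∈ W := by
      intro i
      induction i with
      | zero => intro w hw; rw [pow_zero, map_one]; exact hw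
      | succ i ih => intro w hw; rw [pow_succ', map_mul]; exact hW _ (ih w hw)
    rcases eq_or_ne (Additive.toMul x) 1 with hx | hx
    · rw [show x = 0 from congrArg Additive.ofMul hx]; exact zero_mem W
    obtain ⟨i, -, hi⟩ := hall ⟨Additive.toMul w, fun e => hw0 (congrArg Additive.ofMul e)⟩
    obtain ⟨j, -, hj⟩ := hall ⟨Additive.toMul x, hx⟩
    have e : ρ (k ^ (j + (p - 1) * i)) w = x := by
      rw [← ofMul_toMul w, hρ]
      apply Additive.toMul.injective
      rw [toMul_ofMul]
      have h1 : (k ^ (j + (p - 1) * i)) • (⟨Additive.toMul w, fun e => hw0 (congrArg Additive.ofMul e)⟩ : {s : P // s ≠ 1}) =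
          ⟨Additive.toMul x, hx⟩ := by
        rw [← hi, ← hj, ← mul_smul, ← pow_add, show j + (p - 1) * i + i = j + p * i by
          obtain ⟨r, hr⟩ : ∃ r, p = r + 1 := ⟨p - 1, by have := hp.pos; omega⟩
          rw [hr, Nat.add_sub_cancel]; ring,
          pow_add, pow_mul, ← hkp, pow_orderOf_eq_one, one_pow, mul_one]
      exact congrArg Subtype.val h1
    rw [← e]
    exact hWp _ w hw
  -- the exponents of the conjugates
  have hzpow : ∀ a : A, a ∈ Fr → ∃ i < p, k ^ i = a := by
    intro a ha
    have hset : (Finset.range p).image (fun i => k ^ i) ⊆ insert 1 Fr := fun x hx => by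
      obtain ⟨i, hi, rfl⟩ := Finset.mem_image.1 hx
      rcases eq_or_ne (k ^ i) 1 with h | h
      · simp [h]
      refine Finset.mem_insert_of_mem ?_
      by_contra hnot
      have hd := hfix_ord _ h hnot
      rw [orderOf_eq_prime (p := p) (by rw [← pow_mul, mul_comm, pow_mul, ← hkp, pow_orderOf_eq_one, one_pow]) h] at hd
      have h' : p ∣ (2 * q - 1) - 2 * (q - 1) := Nat.dvd_sub hpd (dvd_mul_of_dvd_right hd 2)
      rw [show (2 * q - 1) - 2 * (q - 1) = 1 by omega] at h'
      exact hp.one_lt.ne' (Nat.dvd_one.1 h')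
    -- only `p` elements satisfy `x ^ p = 1`
    have hc : ((Finset.range p).image (fun i => k ^ i)).card = p := by
      rw [Finset.card_image_of_injOn, Finset.card_range]
      intro i hi j hj e
      exact hpk i j (Finset.mem_range.1 hi) (Finset.mem_range.1 hj) (congrArg (· • t') e)
    have heq := Finset.eq_of_subset_of_card_le hset (by rw [hc]; exact (Finset.card_insert_le _ _).trans (by omega))
    obtain ⟨i, hi, e⟩ := Finset.mem_image.1 (heq ▸ Finset.mem_insert_of_mem ha)
    exact ⟨i, Finset.mem_range.1 hi, e⟩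
  choose jj hjp hjk using fun h : H => hzpow _ (hconj k h hk)
  have hinj : Function.Injective jj := by
    intro a b e
    have h1 : (a : A) * k * (a : A)⁻¹ = (b : A) * k * (b : A)⁻¹ := by rw [← hjk, ← hjk, e]
    have h2 : Commute ((b⁻¹ * a : H) : A) k := by
      show ((b⁻¹ * a : H) : A) * k = k * ((b⁻¹ * a : H) : A)
      rw [Subgroup.coe_mul, Subgroup.coe_inv]
      calc (b : A)⁻¹ * (a : A) * k = (b : A)⁻¹ * ((a : A) * k * (a : A)⁻¹) * a := by group
        _ = (b : A)⁻¹ * ((b : A) * k * (b : A)⁻¹) * a := by rw [h1]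
        _ = k * ((b : A)⁻¹ * a) := by group
    have h3 := hcommFr k hk _ (Subtype.ext (b⁻¹ * a).2) h2
    exact (inv_mul_eq_one.1 (Subtype.ext h3)).symm
  haveI : Fintype H := Fintype.ofFinite H
  have hbound := card_conj_pow_le (ρ k) hp (by rw [← map_pow, ← hkp, pow_orderOf_eq_one, map_one])
    (fun e => by
      obtain ⟨i, -, hi⟩ := hall t'
      have h1 : ρ k (Additive.ofMul t) = Additive.ofMul t := by rw [e]; rfl
      exact (hfree k).1 hk t' (Subtype.ext h1))
    hirr (Finset.univ.image jj) (fun j hj => by obtain ⟨h, -, rfl⟩ := Finset.mem_image.1 hj; exact hjp h)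
    (fun j hj => by
      obtain ⟨h, -, rfl⟩ := Finset.mem_image.1 hj
      refine ⟨Units.map ρ (toUnits (h : A)), ?_⟩
      rw [Units.coe_map_inv]
      show ρ (h : A) * ρ k * ρ (h : A)⁻¹ = _
      rw [← map_mul, ← map_mul, ← hjk, map_pow])
  rw [Finset.card_image_of_injective _ hinj, Finset.card_univ, ← Nat.card_eq_fintype_card, hHc] at hbound
  have hfin : Module.finrank (ZMod 2) (Additive P) = n + 1 := by
    have h := Module.natCard_eq_pow_finrank (K := ZMod 2) (V := Additive P)
    rw [Nat.card_congr Additive.toMul, hcard, Nat.card_zmod] at h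
    exact (Nat.pow_right_injective (le_refl 2) h).symm
  rw [hfin] at hbound
  by_contra hn3
  push Not at hn3
  have key2 : ∀ m : ℕ, 3 ≤ m → m + 3 ≤ 2 ^ m := fun m hm => by
    induction m, hm using Nat.le_induction with
    | base => norm_num
    | succ m hm ih => rw [pow_succ]; omega
  have := key2 n (by omega)
  rw [hq] at hbound
  omega

end CfsgLib.JankoThompson
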