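import Cfsg.Agent.Lib.JankoThompson.Setting
import Cfsg.Agent.Lib.JankoThompson.EvenAbs
import Cfsg.Agent.Lib.PSL2.Aut
import Cfsg.Agent.Lib.AbelianSylowInvolutions
import Mathlib.FieldTheory.Finite.Basic

/-!
An involution centraliser `2 × PSL₂(q)` with `q` even forces `q = 4`.
-/

set_option autoImplicit false
set_option linter.unusedSectionVars false
set_option linter.style.haveILetI false

namespace CfsgLib.JankoThompson

open Subgroup CfsgLib.PSL2

universe u v

variable {F : Type v} [Field F] [Fintype F]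

local notation "PSL" => Matrix.ProjectiveSpecialLinearGroup (Fin 2) F

theorem normalizes_uRange (l : PSL) (hl : l * uu 1 * l⁻¹ ∈ (uHom : Multiplicative F →* PSL).range) :
    ∃ a : Fˣ, ∀ s : F, l * uu s * l⁻¹ = uu ((a : F) ^ 2 * s) := by
  obtain ⟨g, rfl⟩ := QuotientGroup.mk'_surjective _ l
  have h10 := upper_of_normalizes g hl
  have hdet := g.2
  rw [Matrix.det_fin_two, h10, mul_zero, sub_zero] at hdet
  have ha : g.1 0 0 ≠ 0 := fun h => by simp [h] at hdet
  have hg : g = dSL (g.1 0 0) ha * uSL ((g.1 0 0)⁻¹ * g.1 0 1) := by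
    apply Subtype.ext
    rw [Matrix.SpecialLinearGroup.coe_mul, coe_dSL, coe_uSL]
    have h11 : g.1 1 1 = (g.1 0 0)⁻¹ := eq_inv_of_mul_eq_one_right hdet
    ext i j
    fin_cases i <;> fin_cases j <;> simp [Matrix.mul_apply, Fin.sum_univ_two, h10, h11, ha]
  refine ⟨Units.mk0 _ ha, fun s => ?_⟩
  conv_lhs => rw [hg]
  show QuotientGroup.mk' _ (dSL (g.1 0 0) ha * uSL _) * uu s *
    (QuotientGroup.mk' _ (dSL (g.1 0 0) ha * uSL _))⁻¹ = uu ((g.1 0 0) ^ 2 * s)
  set x : F := (g.1 0 0)⁻¹ * g.1 0 1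
  rw [map_mul, show QuotientGroup.mk' _ (uSL x) = (uu x : PSL) from rfl]
  have hc : uu x * uu s * (uu x)⁻¹ = (uu s : PSL) := by
    rw [← map_inv, ← map_mul, ← map_mul, mul_inv_cancel_comm]
  rw [show QuotientGroup.mk' _ (dSL (g.1 0 0) ha) * uu x * uu s * (QuotientGroup.mk' _ (dSL (g.1 0 0) ha) * uu x)⁻¹ =
    QuotientGroup.mk' _ (dSL (g.1 0 0) ha) * (uu x * uu s * (uu x)⁻¹) * (QuotientGroup.mk' _ (dSL (g.1 0 0) ha))⁻¹ by
    group, hc]
  exact mk_diag_conj_u _ ha s

theorem even_eq_four {G : Type u} [Group G] [Finite G] [IsSimpleGroup G]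
    (hab : ∀ P : Sylow 2 G, ∀ a b : P, a * b = b * a) {t : G} (ht : orderOf t = 2)
    (e : Subgroup.centralizer ({t} : Set G) ≃* Multiplicative (ZMod 2) × PSL)
    (heven : Even (Fintype.card F)) (h3 : 3 ≤ Fintype.card F) : Fintype.card F = 4 := by
  classical
  haveI : Fact (Nat.Prime 2) := ⟨Nat.prime_two⟩
  haveI hF : CharP F 2 := by
    have h := FiniteField.even_card_iff_char_two.2 (Nat.even_iff.1 heven)
    exact h ▸ ringChar.charP F
  obtain ⟨n, -, hqn⟩ := FiniteField.card F 2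
  set q := Fintype.card F with hq
  have hn2 : 2 ≤ (n : ℕ) := by
    by_contra h
    have := n.pos
    rw [hqn, show (n : ℕ) = 1 by omega] at h3
    omega
  have hq4 : 4 ≤ q := hqn ▸ le_trans (show 4 ≤ 2 ^ 2 by norm_num) (Nat.pow_le_pow_right (by norm_num) hn2)
  have hZ := psl_two_center (F := F) hq4
  obtain ⟨P, htP, hP, hPc⟩ := exists_sylow_prod e hab ht hZ (uSylow 2)
  have hE : ∀ l : PSL, l ∈ ((uSylow 2 : Sylow 2 PSL) : Subgroup PSL) ↔ ∃ s : F, l = uu s := fun l =>
    ⟨fun ⟨s, hs⟩ => ⟨s.toAdd, hs.symm⟩, fun ⟨s, hs⟩ => hs ▸ ⟨_, rfl⟩⟩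
  have hEc : Nat.card ((uSylow 2 : Sylow 2 PSL) : Subgroup PSL) = q := by
    rw [hq, ← Nat.card_eq_fintype_card]
    refine (Nat.card_congr (Equiv.ofBijective (fun s : F => (⟨uu s, (hE _).2 ⟨s, rfl⟩⟩ :
      ((uSylow 2 : Sylow 2 PSL) : Subgroup PSL))) ⟨fun a b h => uu_injective (congrArg Subtype.val h), ?_⟩)).symm
    rintro ⟨l, hl⟩
    obtain ⟨s, rfl⟩ := (hE l).1 hl
    exact ⟨s, rfl⟩
  rw [hEc] at hPc
  haveI : IsMulCommutative (P : Subgroup G) := ⟨⟨hab P⟩⟩
  have ht1 : t ≠ 1 := fun h => by simp [h] at ht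
  have ht2 : t * t = 1 := by rw [← pow_two, ← ht, pow_orderOf_eq_one]
  have huu : ∀ r s : F, (uu r : PSL) * uu s = uu (r + s) := fun r s => by rw [← map_mul]; rfl
  have hu0 : ∀ s : F, s ≠ 0 → (uu s : PSL) ≠ 1 := fun s hs h => hs (uu_injective (h.trans (map_one uHom).symm))
  -- the points
  have htu : ∀ s, iota e (uu s) ≠ t := fun s => t_ne_iota e ht hZ _
  have hsep : ∀ l l' : PSL, iota e l ≠ t * iota e l' := fun l l' h => t_ne_iota e ht hZ (l * l'⁻¹) (by
    rw [map_mul, map_inv, h, mul_inv_cancel_right])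
  have hPmem : ∀ g ∈ (P : Subgroup G), ∃ s : F, g = iota e (uu s) ∨ g = t * iota e (uu s) := fun g hg => by
    obtain ⟨l, hl, hgl⟩ := (hP g).1 hg
    obtain ⟨s, rfl⟩ := (hE l).1 hl
    exact ⟨s, hgl⟩
  have hIP : ∀ s, iota e (uu s) ∈ (P : Subgroup G) := fun s => (hP _).2 ⟨_, (hE _).2 ⟨s, rfl⟩, Or.inl rfl⟩
  have htIP : ∀ s, t * iota e (uu s) ∈ (P : Subgroup G) := fun s => mul_mem htP (hIP s)
  have hsqG : ∀ g ∈ (P : Subgroup G), g * g = 1 := by
    intro g hg
    obtain ⟨s, hs⟩ := hPmem g hg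
    have h2 : iota e (uu s) * iota e (uu s) = 1 := by
      rw [← map_mul, huu, CharTwo.add_self_eq_zero, show uu (0 : F) = (1 : PSL) from map_one uHom, map_one]
    rcases hs with rfl | rfl
    · exact h2
    · rw [show t * iota e (uu s) * (t * iota e (uu s)) = t * (iota e (uu s) * t) * iota e (uu s) by group,
        ← (iota_comm e (uu s)).eq, show t * (t * iota e (uu s)) * iota e (uu s) =
          (t * t) * (iota e (uu s) * iota e (uu s)) by group, ht2, one_mul, h2]
  set N := Subgroup.normalizer ((P : Subgroup G) : Set G) with hN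
  set φ := Subgroup.normalizerMonoidHom (P : Subgroup G) with hφ
  have hφv : ∀ (g : N) (x : (P : Subgroup G)), ((φ g x : (P : Subgroup G)) : G) = (g : G) * x * (g : G)⁻¹ :=
    fun g x => rfl
  set A := φ.range with hA
  let t' : (P : Subgroup G) := ⟨t, htP⟩
  -- the diagonal elements normalise
  have hdiag : ∀ (a : Fˣ), iota e (QuotientGroup.mk' _ (dSL (a : F) a.ne_zero)) ∈ N ∧
      ∀ s, iota e (QuotientGroup.mk' _ (dSL (a : F) a.ne_zero)) * iota e (uu s) *
        (iota e (QuotientGroup.mk' _ (dSL (a : F) a.ne_zero)))⁻¹ = iota e (uu ((a : F) ^ 2 * s)) := by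
    intro a
    set d := iota e (QuotientGroup.mk' _ (dSL (a : F) a.ne_zero))
    have hc : ∀ s, d * iota e (uu s) * d⁻¹ = iota e (uu ((a : F) ^ 2 * s)) := fun s => by
      rw [← map_inv, ← map_mul, ← map_mul]
      exact congrArg _ (mk_diag_conj_u _ a.ne_zero s)
    refine ⟨mem_normalizer_of_conj fun g hg => ?_, hc⟩
    obtain ⟨s, rfl | rfl⟩ := hPmem g hg
    · rw [hc]; exact hIP _
    · rw [show d * (t * iota e (uu s)) * d⁻¹ = (d * t) * iota e (uu s) * d⁻¹ by group,
        ← (iota_comm e _).eq, show t * d * iota e (uu s) * d⁻¹ = t * (d * iota e (uu s) * d⁻¹) by group, hc]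
      exact htIP _
  let δ : Fˣ → A := fun a => ⟨φ ⟨_, (hdiag a).1⟩, _, rfl⟩
  have hδt : ∀ a, (δ a : MulAut (P : Subgroup G)) t' = t' := fun a => Subtype.ext (by
    rw [hφv]
    show iota e _ * t * (iota e _)⁻¹ = t
    rw [← (iota_comm e _).eq, mul_inv_cancel_right])
  -- the stabiliser of `t`
  have hstab : ∀ a : A, (a : MulAut (P : Subgroup G)) t' = t' → ∃ b : Fˣ, a = δ b := by
    rintro ⟨_, g, rfl⟩ hgt
    have hgt' : (g : G) * t * (g : G)⁻¹ = t := congrArg Subtype.val hgt
    obtain ⟨l, hl⟩ := cent_cases e ht hZ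
      (Subgroup.mem_centralizer_singleton_iff.2 (mul_inv_eq_iff_eq_mul.1 hgt') : (g : G) ∈ _)
    have hconj : ∀ s, (g : G) * iota e (uu s) * (g : G)⁻¹ = iota e (l * uu s * l⁻¹) := by
      intro s
      rw [map_mul, map_mul, map_inv]
      rcases hl with h | h
      · rw [h]
      · rw [h, show t * iota e l * iota e (uu s) * (t * iota e l)⁻¹ =
          t * (iota e l * iota e (uu s) * (iota e l)⁻¹) * t⁻¹ by group, ← map_inv (iota e), ← map_mul, ← map_mul,
          (iota_comm e _).eq, mul_inv_cancel_right]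
    obtain ⟨b, hb⟩ := normalizes_uRange l (by
      obtain ⟨s, hs | hs⟩ := hPmem _ ((Subgroup.mem_normalizer_iff.1 g.2 _).1 (hIP 1)) <;> rw [hconj] at hs
      · exact ⟨Multiplicative.ofAdd s, (iota_inj e hs).symm⟩
      · exact absurd hs (hsep _ _))
    refine ⟨b, Subtype.ext (MulEquiv.ext fun x => Subtype.ext ?_)⟩
    show (g : G) * x * (g : G)⁻¹ = iota e _ * x * (iota e _)⁻¹
    obtain ⟨s, hs | hs⟩ := hPmem x x.2 <;> rw [hs]
    · rw [hconj, hb, (hdiag b).2]
    · rw [show (g : G) * (t * iota e (uu s)) * (g : G)⁻¹ =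
        ((g : G) * t * (g : G)⁻¹) * ((g : G) * iota e (uu s) * (g : G)⁻¹) by group, hgt', hconj, hb,
        show iota e (QuotientGroup.mk' _ (dSL (b : F) b.ne_zero)) * (t * iota e (uu s)) *
          (iota e (QuotientGroup.mk' _ (dSL (b : F) b.ne_zero)))⁻¹ =
          (iota e (QuotientGroup.mk' _ (dSL (b : F) b.ne_zero)) * t) * iota e (uu s) *
          (iota e (QuotientGroup.mk' _ (dSL (b : F) b.ne_zero)))⁻¹ by group, ← (iota_comm e _).eq,
        show ∀ d : G, t * d * iota e (uu s) * d⁻¹ = t * (d * iota e (uu s) * d⁻¹) from fun d => by group,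
        (hdiag b).2]
  have hsq_surj : ∀ c : F, ∃ b : F, b ^ 2 = c := fun c => by
    obtain ⟨b, hb⟩ := FiniteField.isSquare_of_char_two (ringChar.eq F 2) c
    exact ⟨b, by rw [hb, pow_two]⟩
  have hδinj : Function.Injective δ := by
    intro a b hab'
    have h : (φ ⟨_, (hdiag a).1⟩ ⟨_, hIP 1⟩ : (P : Subgroup G)) = φ ⟨_, (hdiag b).1⟩ ⟨_, hIP 1⟩ :=
      congrArg (fun f : A => (f : MulAut (P : Subgroup G)) ⟨_, hIP 1⟩) hab'
    have h' := congrArg Subtype.val h
    rw [hφv, hφv] at h'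
    change iota e _ * iota e (uu 1) * (iota e _)⁻¹ = iota e _ * iota e (uu 1) * (iota e _)⁻¹ at h'
    rw [(hdiag a).2, (hdiag b).2, mul_one, mul_one] at h'
    exact Units.ext (CharTwo.sq_injective (uu_injective (iota_inj e h')))
  have hstab_card : Nat.card {a : A // (a : MulAut (P : Subgroup G)) t' = t'} = 2 ^ (n : ℕ) - 1 := by
    rw [← hqn, ← Fintype.card_units, ← Nat.card_eq_fintype_card]
    refine (Nat.card_congr (Equiv.ofBijective (fun a : Fˣ =>
      (⟨δ a, hδt a⟩ : {a : A // (a : MulAut (P : Subgroup G)) t' = t'}))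
      ⟨fun a b h => hδinj (congrArg Subtype.val h), ?_⟩)).symm
    rintro ⟨a, ha⟩
    obtain ⟨b, rfl⟩ := hstab a ha
    exact ⟨b, rfl⟩
  -- the orbit of `t` has odd length
  haveI : Finite A := Finite.of_surjective _ φ.rangeRestrict_surjective
  have hAodd : Odd (Nat.card A) := by
    rw [← Nat.not_even_iff_odd, even_iff_two_dvd]
    intro h2
    obtain ⟨a, ha⟩ := exists_prime_orderOf_dvd_card' 2 h2
    obtain ⟨g, hg⟩ := φ.rangeRestrict_surjective a
    have hle : ((P : Subgroup G).subgroupOf N) ≤ φ.ker := by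
      intro x hx
      rw [MonoidHom.mem_ker]
      refine MulEquiv.ext fun y => Subtype.ext ?_
      rw [hφv, MulAut.one_apply]
      exact mul_inv_eq_iff_eq_mul.2 (congrArg Subtype.val (hab P ⟨x, hx⟩ y))
    have hodd' : ¬ 2 ∣ ((P : Subgroup G).subgroupOf N).index := fun h =>
      P.not_dvd_index (h.trans (Dvd.intro _ (Subgroup.relIndex_mul_index (Subgroup.le_normalizer : (P : Subgroup G) ≤ N))))
    refine hodd' ((?_ : 2 ∣ φ.ker.index).trans (Subgroup.index_dvd_of_le hle))
    rw [Subgroup.index_ker]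
    exact h2
  set O : Set (P : Subgroup G) := {s | ∃ a ∈ A, a t' = s} with hO
  have hOodd : Odd (Nat.card O) := by
    have hd : Nat.card O ∣ Nat.card A := by
      have e' : MulAction.orbit A t' = O := by
        ext s
        exact ⟨fun ⟨a, ha⟩ => ⟨a.1, a.2, ha⟩, fun ⟨a, ha, e'⟩ => ⟨⟨a, ha⟩, e'⟩⟩
      rw [← e', Nat.card_congr (MulAction.orbitEquivQuotientStabilizer A t'), ← Subgroup.index_eq_card]
      exact Subgroup.index_dvd_card _
    exact hAodd.of_dvd_nat hd
  have ht'1 : t' ≠ 1 := fun h => ht1 (congrArg Subtype.val h)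
  have hmoved : ∃ s ∈ O, s ≠ t' := by
    by_contra hcon
    push Not at hcon
    obtain ⟨H, hH⟩ := CfsgLib.AbelianInvolutions.exists_index_two_of_fixed P htP ht1 fun g hg => by
      have h := congrArg Subtype.val (hcon (φ ⟨g, hg⟩ t') ⟨_, ⟨_, rfl⟩, rfl⟩)
      rw [hφv] at h
      exact mul_inv_eq_iff_eq_mul.1 h
    exact index_ne_two (nonabelian e psl_two_nonabelian) H hH
  -- the two other orbits of the stabiliser
  have hOne : ∀ s ∈ O, s ≠ 1 := by
    rintro s ⟨a, -, rfl⟩ h
    exact ht'1 (a.injective (h.trans (map_one a).symm))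
  have hclosed : ∀ s ∈ O, ∀ b : Fˣ, (δ b : MulAut (P : Subgroup G)) s ∈ O := by
    rintro s ⟨a, ha, rfl⟩ b
    exact ⟨(δ b : MulAut _) * a, mul_mem (δ b).2 ha, rfl⟩
  have hE_all : ∀ r : F, r ≠ 0 → (⟨_, hIP r⟩ : (P : Subgroup G)) ∈ O → ∀ s : F, s ≠ 0 →
      (⟨_, hIP s⟩ : (P : Subgroup G)) ∈ O := by
    intro r hr h s hs
    obtain ⟨b, hb⟩ := hsq_surj (s / r)
    have hb0 : b ≠ 0 := fun h0 => by
      rw [h0, zero_pow two_ne_zero] at hb
      exact div_ne_zero hs hr hb.symm
    have h2 := hclosed _ h (Units.mk0 b hb0)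
    convert h2 using 1
    refine Subtype.ext ?_
    show iota e (uu s) = iota e _ * iota e (uu r) * (iota e _)⁻¹
    rw [(hdiag _).2, Units.val_mk0, hb, div_mul_cancel₀ s hr]
  have htE_all : ∀ r : F, r ≠ 0 → (⟨_, htIP r⟩ : (P : Subgroup G)) ∈ O → ∀ s : F, s ≠ 0 →
      (⟨_, htIP s⟩ : (P : Subgroup G)) ∈ O := by
    intro r hr h s hs
    obtain ⟨b, hb⟩ := hsq_surj (s / r)
    have hb0 : b ≠ 0 := fun h0 => by
      rw [h0, zero_pow two_ne_zero] at hb
      exact div_ne_zero hs hr hb.symm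
    have h2 := hclosed _ h (Units.mk0 b hb0)
    convert h2 using 1
    refine Subtype.ext ?_
    show t * iota e (uu s) = iota e _ * (t * iota e (uu r)) * (iota e _)⁻¹
    rw [← mul_assoc (iota e _) t, ← (iota_comm e _).eq, mul_assoc t, mul_assoc t, (hdiag _).2, Units.val_mk0, hb,
      div_mul_cancel₀ s hr]
  have hcases : ∀ x : (P : Subgroup G), x ≠ 1 → x = t' ∨ (∃ s : F, s ≠ 0 ∧ x = ⟨_, hIP s⟩) ∨
      (∃ s : F, s ≠ 0 ∧ x = ⟨_, htIP s⟩) := by
    intro x hx
    obtain ⟨s, hs⟩ := hPmem x x.2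
    by_cases hs0 : s = 0
    · rw [hs0, show uu (0 : F) = (1 : PSL) from map_one uHom, map_one, mul_one] at hs
      rcases hs with hs | hs
      · exact absurd (Subtype.ext hs) hx
      · exact Or.inl (Subtype.ext hs)
    · rcases hs with hs | hs
      · exact Or.inr (Or.inl ⟨s, hs0, Subtype.ext hs⟩)
      · exact Or.inr (Or.inr ⟨s, hs0, Subtype.ext hs⟩)
  have htO : t' ∈ O := ⟨1, one_mem _, rfl⟩
  have heven_false : ∀ f : F → (P : Subgroup G), Function.Injective f → Set.range f = O → False := by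
    intro f hf hr
    have h : Nat.card O = q := by
      rw [← hr, Nat.card_congr (Equiv.ofInjective f hf).symm, Nat.card_eq_fintype_card]
    rw [h] at hOodd
    exact Nat.not_even_iff_odd.2 hOodd heven
  have htrans : ∀ x : (P : Subgroup G), x ≠ 1 → ∃ a ∈ A, a t' = x := by
    have hEO : ∃ r : F, r ≠ 0 ∧ (⟨_, hIP r⟩ : (P : Subgroup G)) ∈ O := by
      by_contra hcon
      push Not at hcon
      obtain ⟨x, hx, hxt⟩ := hmoved
      obtain ⟨r, hr, rfl⟩ : ∃ r : F, r ≠ 0 ∧ x = ⟨_, htIP r⟩ := by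
        rcases hcases x (hOne x hx) with h | ⟨r, hr, rfl⟩ | h
        · exact absurd h hxt
        · exact absurd hx (hcon r hr)
        · exact h
      refine heven_false (fun s => if s = 0 then t' else ⟨_, htIP s⟩) ?_ ?_
      · intro a b h
        have h' : t * iota e (uu a) = t * iota e (uu b) := by
          have h'' := congrArg Subtype.val h
          by_cases ha : a = 0 <;> by_cases hb : b = 0 <;>
            simp [ha, hb, t', show uu (0 : F) = (1 : PSL) from map_one uHom] at h'' ⊢ <;> exact h''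
        exact uu_injective (iota_inj e (mul_left_cancel h'))
      · ext y
        constructor
        · rintro ⟨s, rfl⟩
          by_cases hs : s = 0
          · simpa [hs] using htO
          · simpa [hs] using htE_all r hr hx s hs
        · intro hy
          rcases hcases y (hOne y hy) with rfl | ⟨s, hs, rfl⟩ | ⟨s, hs, rfl⟩
          · exact ⟨0, if_pos rfl⟩
          · exact absurd hy (hcon s hs)
          · exact ⟨s, if_neg hs⟩
    have htEO : ∃ r : F, r ≠ 0 ∧ (⟨_, htIP r⟩ : (P : Subgroup G)) ∈ O := by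
      by_contra hcon
      push Not at hcon
      obtain ⟨r, hr, hrO⟩ := hEO
      refine heven_false (fun s => if s = 0 then t' else ⟨_, hIP s⟩) ?_ ?_
      · intro a b h
        by_cases ha : a = 0 <;> by_cases hb : b = 0
        · rw [ha, hb]
        · exfalso
          simp only [ha, hb, if_true, if_false] at h
          exact htu b (congrArg Subtype.val h).symm
        · exfalso
          simp only [ha, hb, if_true, if_false] at h
          exact htu a (congrArg Subtype.val h)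
        · simp only [ha, hb, if_false] at h
          have h' : iota e (uu a) = iota e (uu b) := congrArg (fun x : (P : Subgroup G) => (x : G)) h
          exact uu_injective (iota_inj e h')
      · ext y
        constructor
        · rintro ⟨s, rfl⟩
          by_cases hs : s = 0
          · simpa [hs] using htO
          · simpa [hs] using hE_all r hr hrO s hs
        · intro hy
          rcases hcases y (hOne y hy) with rfl | ⟨s, hs, rfl⟩ | ⟨s, hs, rfl⟩
          · exact ⟨0, if_pos rfl⟩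
          · exact ⟨s, if_neg hs⟩
          · exact absurd hy (hcon s hs)
    obtain ⟨r, hr, hrO⟩ := hEO
    obtain ⟨r', hr', hrO'⟩ := htEO
    intro x hx
    rcases hcases x hx with rfl | ⟨s, hs, rfl⟩ | ⟨s, hs, rfl⟩
    exacts [htO, hE_all r hr hrO s hs, htE_all r' hr' hrO' s hs]
  have hsemi : ∀ a ∈ A, a t' = t' → ∀ s, s ≠ 1 → s ≠ t' → a s = s → a = 1 := by
    intro a ha hat s hs1 hst has
    obtain ⟨b, hb⟩ := hstab ⟨a, ha⟩ hat
    have hab' : a = (δ b : MulAut _) := congrArg Subtype.val hb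
    obtain ⟨r, hr, hbr⟩ : ∃ r : F, r ≠ 0 ∧ uu ((b : F) ^ 2 * r) = (uu r : PSL) := by
      rw [hab'] at has
      have has' := congrArg Subtype.val has
      rcases hcases s hs1 with h | ⟨r, hr, rfl⟩ | ⟨r, hr, rfl⟩
      · exact absurd h hst
      · change iota e _ * iota e (uu r) * (iota e _)⁻¹ = iota e (uu r) at has'
        rw [(hdiag b).2] at has'
        exact ⟨r, hr, iota_inj e has'⟩
      · change iota e _ * (t * iota e (uu r)) * (iota e _)⁻¹ = t * iota e (uu r) at has'
        rw [← mul_assoc (iota e _) t, ← (iota_comm e _).eq, mul_assoc t, mul_assoc t, (hdiag b).2] at has'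
        exact ⟨r, hr, iota_inj e (mul_left_cancel has')⟩
    have h1 : (b : F) ^ 2 = 1 := mul_right_cancel₀ hr ((uu_injective hbr).trans (one_mul r).symm)
    have hb1 : b = 1 := Units.ext (CharTwo.sq_injective (show (b : F) ^ 2 = (1 : F) ^ 2 by rw [h1, one_pow]))
    rw [hab', hb1]
    refine MulEquiv.ext fun x => Subtype.ext ?_
    show iota e _ * x * (iota e _)⁻¹ = x
    have h11 : (QuotientGroup.mk' _ (dSL ((1 : Fˣ) : F) (1 : Fˣ).ne_zero) : PSL) = 1 := by
      rw [show dSL ((1 : Fˣ) : F) (1 : Fˣ).ne_zero = 1 from Subtype.ext (by simp [coe_dSL, Matrix.one_fin_two]),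
        map_one]
    rw [h11, map_one]
    group
  have hcard : Nat.card (P : Subgroup G) = 2 ^ ((n : ℕ) + 1) := by rw [hPc, hqn, pow_succ, mul_comm]
  have hle := frobenius_bound (fun a => Subtype.ext (hsqG a a.2)) A (by omega) hcard ht'1 htrans hstab_card hsemi
  rw [hqn, show (n : ℕ) = 2 by omega]
  norm_num

end CfsgLib.JankoThompson
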