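import Cfsg.Agent.Lib.JankoThompson.PSLTable
import Cfsg.Agent.Lib.CharTheory.Linear

/-!
The class functions of `PSL₂(q)`, `q ≡ 3, 5 (mod 8)`, vanishing on elements of even order.
-/

set_option autoImplicit false
set_option linter.unusedSectionVars false
set_option linter.style.haveILetI false

namespace CfsgLib.JankoThompson

open Matrix Cfsg CfsgLib.CharTheory CfsgLib.SL2Char CfsgLib.SL2Tori
open scoped ComplexConjugate Classical

/-- Pairs of involutions: the weighted sum of a class function against the inverting involutions. -/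
theorem sum_invCount {L : Type*} [Group L] [Fintype L] {v : L} (hv : orderOf v = 2)
    (hconj : ∀ u : L, orderOf u = 2 → IsConj v u) {φ : L → ℂ} (hφv : ∀ u : L, orderOf u = 2 → φ u = 0) :
    (Nat.card (Subgroup.centralizer ({v} : Set L)) : ℂ) ^ 2 * ∑ x : L, φ x * (invCount x : ℂ) =
      ∑ a : L, ∑ b : L, φ (a * v * a⁻¹ * (b * v * b⁻¹)) := by
  set I : Finset L := Finset.univ.filter fun u => orderOf u = 2 with hI
  set c : ℂ := (Nat.card (Subgroup.centralizer ({v} : Set L)) : ℂ) with hc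
  have hmem : ∀ a : L, a * v * a⁻¹ ∈ I := fun a => Finset.mem_filter.mpr
    ⟨Finset.mem_univ _, (MulEquiv.orderOf_eq (MulAut.conj a) v).trans hv⟩
  have hfib : ∀ f : L → ℂ, ∑ a : L, f (a * v * a⁻¹) = c * ∑ u ∈ I, f u := by
    intro f
    rw [← Finset.sum_fiberwise_of_maps_to (fun a _ => hmem a) (fun a => f (a * v * a⁻¹)), Finset.mul_sum]
    refine Finset.sum_congr rfl fun u hu => ?_
    rw [Finset.sum_congr rfl fun a ha => by rw [(Finset.mem_filter.mp ha).2], Finset.sum_const, nsmul_eq_mul, hc]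
    congr 2
    obtain ⟨k, hk⟩ := isConj_iff.mp (hconj u (Finset.mem_filter.mp hu).2)
    rw [← Fintype.card_subtype, ← Nat.card_eq_fintype_card]
    refine Nat.card_congr (Equiv.subtypeEquiv (Equiv.mulLeft k⁻¹) fun a => ?_)
    rw [Equiv.coe_mulLeft, Subgroup.mem_centralizer_singleton_iff, ← hk]
    constructor
    · intro h
      calc k⁻¹ * a * v = k⁻¹ * (a * v * a⁻¹) * a := by group
        _ = k⁻¹ * (k * v * k⁻¹) * a := by rw [h]
        _ = v * (k⁻¹ * a) := by group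
    · intro h
      calc a * v * a⁻¹ = k * (k⁻¹ * a * v) * a⁻¹ := by group
        _ = k * (v * (k⁻¹ * a)) * a⁻¹ := by rw [h]
        _ = k * v * k⁻¹ := by group
  have hsum : ∑ x : L, φ x * (invCount x : ℂ) = ∑ u ∈ I, ∑ w ∈ I, φ (u * w) := by
    have h1 : ∀ x : L, φ x * (invCount x : ℂ) = ∑ u ∈ I, if u * x * u⁻¹ = x⁻¹ then φ x else 0 := by
      intro x
      rw [← Finset.sum_filter, Finset.sum_const, nsmul_eq_mul, mul_comm (φ x), invCount,
        Nat.card_eq_fintype_card, Fintype.card_subtype, hI, Finset.filter_filter]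
    rw [Finset.sum_congr rfl fun x _ => h1 x, Finset.sum_comm]
    refine Finset.sum_congr rfl fun u hu => ?_
    have huo := (Finset.mem_filter.mp hu).2
    have huu : u * u = 1 := by rw [← pow_two]; exact orderOf_dvd_iff_pow_eq_one.mp huo.dvd
    have hui : u⁻¹ = u := inv_eq_of_mul_eq_one_right huu
    rw [← Fintype.sum_equiv (Equiv.mulLeft u) (fun w => if u * (u * w) * u⁻¹ = (u * w)⁻¹ then φ (u * w) else 0)
      (fun x => if u * x * u⁻¹ = x⁻¹ then φ x else 0) (fun w => rfl), ← Finset.sum_filter]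
    have he : (Finset.univ.filter fun w => u * (u * w) * u⁻¹ = (u * w)⁻¹) = insert 1 I := by
      ext w
      rw [Finset.mem_filter, Finset.mem_insert, hI, Finset.mem_filter]
      simp only [Finset.mem_univ, true_and]
      rw [← mul_assoc, huu, one_mul, _root_.mul_inv_rev, mul_left_inj]
      constructor
      · intro h
        by_cases h1 : w = 1
        · exact Or.inl h1
        · exact Or.inr (orderOf_eq_prime (by rw [pow_two]; exact mul_eq_one_iff_eq_inv.mpr h) h1)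
      · rintro (rfl | h)
        · simp
        · exact mul_eq_one_iff_eq_inv.mp (by rw [← pow_two]; exact orderOf_dvd_iff_pow_eq_one.mp h.dvd)
    rw [he, Finset.sum_insert (fun h => by simp [hI] at h), mul_one, hφv u huo, zero_add]
  rw [hsum, hfib fun u => ∑ b : L, φ (u * (b * v * b⁻¹)), Finset.sum_congr rfl fun u _ => hfib fun w => φ (u * w),
    ← Finset.mul_sum]
  ring

/-- The same for an irreducible character. -/
theorem sum_pairs_irr {L : Type*} [Group L] [Fintype L] {χ : L → ℂ} (hχ : IsIrrCharacter L χ) (v : L) :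
    ∑ a : L, ∑ b : L, χ (a * v * a⁻¹ * (b * v * b⁻¹)) = (Nat.card L : ℂ) ^ 2 * χ v ^ 2 / χ 1 := by
  rw [Finset.sum_comm, Finset.sum_congr rfl fun b _ => sum_conj_mul_char hχ v (b * v * b⁻¹)]
  simp only [isClassFunction_irr hχ v, Finset.sum_const, Finset.card_univ, nsmul_eq_mul, Nat.card_eq_fintype_card]
  ring

variable {F : Type*} [Field F] [Fintype F] [DecidableEq F]

local notation "SL2" => Matrix.SpecialLinearGroup (Fin 2) F
local notation "PSL" => Matrix.ProjectiveSpecialLinearGroup (Fin 2) F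
local notation "qC" => (Fintype.card F : ℂ)
local notation "π" => (PSL2.mk : SL2 →* PSL)

theorem exists_desc {χ : SL2 → ℂ} (hχ : IsIrrCharacter SL2 χ)
    (hk : ∀ e : Fˣ, e ^ 2 = 1 → χ (bor e 0) = χ 1) :
    ∃ ψ : PSL → ℂ, IsIrrCharacter PSL ψ ∧ ∀ g, χ g = ψ (π g) := by
  obtain ⟨ψ, hψ, e⟩ := exists_quotient_irr (Subgroup.center SL2) hχ fun n hn => by
    obtain ⟨e, he, rfl⟩ := mk_eq_one.mp ((QuotientGroup.eq_one_iff n).mpr hn : π n = 1)
    exact hk e he
  exact ⟨ψ, hψ, fun g => congrFun e g⟩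

theorem eq_one_of_pow_coprime {G : Type*} [Monoid G] {x : G} {m n : ℕ} (hm : x ^ m = 1) (hn : x ^ n = 1)
    (h : m.Coprime n) : x = 1 := by
  have h1 : x ^ m.gcd n = 1 := pow_gcd_eq_one.mpr ⟨hm, hn⟩
  rwa [h, pow_one] at h1

theorem isConj_pow_eq_one {G : Type*} [Group G] {x y : G} (h : IsConj x y) {n : ℕ} (hx : x ^ n = 1) :
    y ^ n = 1 := by
  obtain ⟨k, rfl⟩ := isConj_iff.mp h
  rw [conj_pow, hx, mul_one, mul_inv_cancel]

theorem indFun_eq_zero_of_pow {G : Type*} [Group G] [Fintype G] (H : Subgroup G) (θ : H → ℂ) {g : G} {m : ℕ}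
    (hH : ∀ h : H, (h : G) ^ m = 1) (hg : g ^ m ≠ 1) : indFun H θ g = 0 := by
  simp only [indFun]
  refine mul_eq_zero_of_right _ (Finset.sum_eq_zero fun x _ => ?_)
  rw [extendByZero_of_not_mem]
  intro hmem
  exact hg (isConj_pow_eq_one (isConj_iff.mpr ⟨x, by group⟩) (hH ⟨_, hmem⟩))

theorem bor_one_pow (x : F) (n : ℕ) : bor (1 : Fˣ) x ^ n = bor 1 ((n : F) * x) := by
  induction n with
  | zero => simp [bor_one]
  | succ n ih => rw [pow_succ, ih, bor_mul]; congr 1 <;> simp; ring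

namespace Tbl

variable (T : Tbl F)
include T

theorem odd_card : Odd (Fintype.card F) := by
  have h := T.hq
  have := T.hy.pos
  rcases T.hδ with e | e <;> rw [e] at h
  · exact ⟨2 * T.y, by omega⟩
  · exact ⟨2 * T.y - 1, by omega⟩

theorem two_ne : (2 : F) ≠ 0 := SL2Orders.two_ne_zero_of_odd T.odd_card

/-- The image of `A`. -/
noncomputable abbrev tT : Subgroup PSL := T.A.map π

/-- The image of `B`. -/
noncomputable abbrev tZ : Subgroup PSL := T.B.map π

theorem card_tT : Nat.card T.tT = 2 * T.y := by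
  have h : 2 * Nat.card T.tT = Nat.card T.A := T.torA.card_map T.odd_card
  rw [T.cardA] at h
  omega

theorem card_tZ : Nat.card T.tZ = T.z := by
  have h : 2 * Nat.card T.tZ = Nat.card T.B := T.torB.card_map T.odd_card
  rw [T.cardB] at h
  omega

/-- The kinds of elements of the quotient. -/
theorem kinds (g : PSL) : g = 1 ∨ (∃ (e : Fˣ) (x : F), e ^ 2 = 1 ∧ x ≠ 0 ∧ IsConj g (π (bor e x))) ∨
    (∃ a ∈ T.A, π a ≠ 1 ∧ IsConj g (π a)) ∨ (∃ b ∈ T.B, π b ≠ 1 ∧ IsConj g (π b)) := by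
  obtain ⟨g, rfl⟩ := mk_surj g
  rcases T.cases g with ⟨e, he, rfl⟩ | ⟨e, x, he, hx, h⟩ | ⟨a, ha, h1, h⟩ | ⟨a, ha, h1, h⟩
  · exact Or.inl (mk_bor_scalar he)
  · exact Or.inr (Or.inl ⟨e, x, he, hx, MonoidHom.map_isConj π h⟩)
  · exact Or.inr (Or.inr (Or.inl ⟨a, ha, h1, MonoidHom.map_isConj π h⟩))
  · exact Or.inr (Or.inr (Or.inr ⟨a, ha, h1, MonoidHom.map_isConj π h⟩))

theorem pow_unip {e : Fˣ} (he : e ^ 2 = 1) (x : F) : π (bor e x) ^ Fintype.card F = 1 := by
  have h : bor e x = bor e 0 * bor 1 (((e⁻¹ : Fˣ) : F) * x) := by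
    rw [bor_mul, mul_one]; congr 1; simp
  rw [h, map_mul, mk_bor_scalar he, one_mul, ← map_pow, bor_one_pow, FiniteField.cast_card_eq_zero,
    zero_mul, bor_one, map_one]

theorem unip_ne {e : Fˣ} {x : F} (hx : x ≠ 0) : π (bor e x) ≠ 1 := fun h => by
  obtain ⟨e', -, h'⟩ := mk_eq_one.mp h
  exact hx (bor_injective h').2

theorem pow_A {a : SL2} (ha : a ∈ T.A) : π a ^ (2 * T.y) = 1 := by
  rw [← T.card_tT]
  exact congrArg Subtype.val (pow_card_eq_one' (G := T.tT) (x := ⟨π a, Subgroup.mem_map_of_mem _ ha⟩))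

theorem pow_B {b : SL2} (hb : b ∈ T.B) : π b ^ T.z = 1 := by
  rw [← T.card_tZ]
  exact congrArg Subtype.val (pow_card_eq_one' (G := T.tZ) (x := ⟨π b, Subgroup.mem_map_of_mem _ hb⟩))

theorem coprimes : (Fintype.card F).Coprime (2 * T.y) ∧ (Fintype.card F).Coprime T.z ∧
    (2 * T.y).Coprime T.z ∧ Odd T.z := by
  have hq := T.hq
  have hz := T.hz
  have key : ∀ (m n : ℕ) (u w : ℤ), u * m + w * n = T.δ → m.Coprime n := by
    intro m n u w h
    refine Nat.isCoprime_iff_coprime.mp ⟨u * T.δ, w * T.δ, ?_⟩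
    rcases T.hδ with e | e <;> rw [e] at h ⊢
    · linear_combination h
    · linear_combination -h
  refine ⟨key _ _ 1 (-2) (by push_cast; linear_combination hq),
    key _ _ (-1) 2 (by linear_combination -hq + 2 * hz),
    key _ _ (-1) 1 (by push_cast; linear_combination hz), ?_⟩
  rw [← Int.odd_coe_nat, hz]
  rcases T.hδ with e | e <;> rw [e]
  exacts [⟨T.y, rfl⟩, ⟨(T.y : ℤ) - 1, by ring⟩]

theorem invol_cases {u : PSL} (hu : Even (orderOf u)) :
    ∃ a ∈ T.A, π a ^ T.y ≠ 1 ∧ IsConj u (π a) := by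
  obtain ⟨c1, c2, c3, hzo⟩ := T.coprimes
  have hne : ∀ n, Odd n → u ^ n ≠ 1 := fun n hn h =>
    Nat.not_even_iff_odd.mpr hn (hu.trans_dvd (orderOf_dvd_of_pow_eq_one h))
  rcases T.kinds u with rfl | ⟨e, x, he, -, h⟩ | ⟨a, ha, -, h⟩ | ⟨b, hb, -, h⟩
  · exact absurd (one_pow 1) (hne 1 odd_one)
  · exact absurd (isConj_pow_eq_one h.symm (T.pow_unip he x)) (hne _ T.odd_card)
  · exact ⟨a, ha, fun e => hne _ T.hy (isConj_pow_eq_one h.symm e), h⟩
  · exact absurd (isConj_pow_eq_one h.symm (T.pow_B hb)) (hne _ hzo)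

theorem card_cast : (T.y : ℂ) * 4 = qC - T.δ ∧ (T.z : ℂ) * 2 = qC + T.δ := by
  have hq := T.hq
  have hz := T.hz
  have h1 : (T.y : ℤ) * 4 = (Fintype.card F : ℤ) - T.δ := by linear_combination -hq
  have h2 : (T.z : ℤ) * 2 = (Fintype.card F : ℤ) + T.δ := by linear_combination 2 * hz - hq
  constructor
  · exact_mod_cast h1
  · exact_mod_cast h2

theorem δ_sq : (T.δ : ℂ) * T.δ = 1 := by
  rcases T.hδ with e | e <;> rw [e] <;> norm_num

theorem card_psl : (Nat.card PSL : ℂ) = 4 * T.y * T.z * qC ∧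
    2 * (Nat.card PSL : ℤ) = Fintype.card F * ((Fintype.card F : ℤ) ^ 2 - 1) := by
  have h := SCNonCyclic.card_comap_mk T.odd_card (⊤ : Subgroup PSL)
  rw [Subgroup.comap_top, Subgroup.card_top, Subgroup.card_top] at h
  have h3 : 2 * (Nat.card PSL : ℂ) = qC * (qC - 1) * (qC + 1) := by
    rw [← card_SL (F := F), h]; push_cast; ring
  refine ⟨?_, ?_⟩
  · obtain ⟨e1, e2⟩ := T.card_cast
    have hd := T.δ_sq
    linear_combination h3 / 2 - (qC * (T.z : ℂ) * 2 / 2) * e1 - (qC * (qC - T.δ) / 2) * e2 + (qC / 2) * hd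
  · have h4 : ((2 * (Nat.card PSL : ℤ) : ℤ) : ℂ) =
        ((Fintype.card F * ((Fintype.card F : ℤ) ^ 2 - 1) : ℤ) : ℂ) := by
      push_cast; linear_combination h3
    exact_mod_cast h4

/-- Functions written in the basis, with all the fields of the interface. -/
theorem nonempty_lData : ∃ D : LData PSL, D.q = Fintype.card F ∧ D.δ = T.δ ∧ D.y = T.y := by
  have h2 := T.two_ne
  obtain ⟨c1, c2, c3, hzo⟩ := T.coprimes
  have hy0 := T.hy.pos
  have hz0 := hzo.pos
  -- the irreducible characters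
  obtain ⟨sb, hsb, hst⟩ := exists_desc (isIrr_st (F := F)) fun e he => by rw [st_bor_scalar he, st_one]
  choose fb hfb hf using fun i => exists_desc (T.f_irr i) (T.f_scalar i)
  have hone : IsIrrCharacter PSL (fun _ => 1) := Blocks.oneIrr PSL |>.2
  have hne1 : sb ≠ fun _ => 1 := fun e => by
    have h : st (1 : SL2) = (1 : ℂ) := (hst 1).trans (congrFun e _)
    rw [st_one] at h
    have h' : Fintype.card F = 1 := by exact_mod_cast h
    have := Fintype.one_lt_card (α := F)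
    omega
  have hf1 : ∀ i, fb i ≠ fun _ => 1 := fun i e => (T.f_base i).1 (funext fun g => by rw [hf, e])
  have hfs : ∀ i, fb i ≠ sb := fun i e => (T.f_base i).2 (funext fun g => by rw [hf, e, hst])
  have hf01 : fb 0 ≠ fb 1 := fun e => T.f_ne (funext fun g => by rw [hf, hf, e])
  -- values
  set φa : PSL → ℂ := (fun _ => 1) - (T.δ : ℂ) • sb with hφa
  set φb : Fin 2 → PSL → ℂ := fun i => fb i + sb with hφb
  have hcl_a : IsClassFunction PSL φa :=
    isClassFunction_sub isClassFunction_one (isClassFunction_smul _ (isClassFunction_irr hsb))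
  have hcl_b : ∀ i, IsClassFunction PSL (φb i) := fun i =>
    isClassFunction_add (isClassFunction_irr (hfb i)) (isClassFunction_irr hsb)
  have va : ∀ g, φa (π g) = 1 - (T.δ : ℂ) * st g := fun g => by
    show (1 : ℂ) - (T.δ : ℂ) * sb (π g) = _
    rw [hst]
  have vb : ∀ i g, φb i (π g) = T.f i g + st g := fun i g => by
    show fb i (π g) + sb (π g) = _
    rw [hf, hst]
  have hd := T.δ_sq
  have a1 : φa 1 = 1 - (T.δ : ℂ) * qC := by rw [← map_one π, va, st_one]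
  have b1 : ∀ i, 2 * φb i 1 = 3 * qC + T.δ := fun i => by
    rw [← map_one π, vb, st_one]; linear_combination T.f_deg i
  have aA : ∀ a ∈ T.A, π a ≠ 1 → φa (π a) = 0 := fun a ha h1 => by
    rw [va, T.st_A a ha h1, hd, sub_self]
  have bA : ∀ i, ∀ a ∈ T.A, π a ≠ 1 → φb i (π a) = if π a ^ T.y = 1 then 2 * (T.δ : ℂ) else 0 := by
    intro i a ha h1
    rw [vb, T.f_A i a ha h1, T.st_A a ha h1]
    split <;> ring
  have aB : ∀ b ∈ T.B, π b ≠ 1 → φa (π b) = 2 := fun b hb h1 => by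
    rw [va, T.st_B b hb h1]; linear_combination hd
  have bB : ∀ i, ∀ b ∈ T.B, π b ≠ 1 → φb i (π b) = -(T.δ : ℂ) := fun i b hb h1 => by
    rw [vb, T.f_B i b hb h1, T.st_B b hb h1, zero_add]
  -- even order
  have heven : ∀ x : PSL, Even (orderOf x) → φa x = 0 ∧ ∀ i, φb i x = 0 := by
    intro x hx
    obtain ⟨a, ha, hay, h⟩ := T.invol_cases hx
    have h1 : π a ≠ 1 := fun e => hay (by rw [e, one_pow])
    refine ⟨by rw [cl_eq hcl_a h, aA a ha h1], fun i => ?_⟩
    rw [cl_eq (hcl_b i) h, bA i a ha h1, if_neg hay]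
  -- the subgroups
  haveI := T.torA.isCyclic_map
  obtain ⟨⟨γ, hγ⟩, hgen⟩ := IsCyclic.exists_generator (α := T.tT)
  have hγo : orderOf γ = 2 * T.y := by
    rw [← T.card_tT, ← Subgroup.orderOf_mk γ hγ, orderOf_eq_card_of_forall_mem_zpowers hgen]
  set Y : Subgroup PSL := Subgroup.zpowers (γ ^ 2) with hYdef
  have hYT : Y ≤ T.tT := Subgroup.zpowers_le.mpr (pow_mem hγ 2)
  have hYc : Nat.card Y = T.y := by
    rw [hYdef, Nat.card_zpowers, orderOf_pow' γ two_ne_zero, hγo, Nat.gcd_eq_right (dvd_mul_right 2 T.y),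
      Nat.mul_div_cancel_left _ two_pos]
  have hYpow : ∀ h : Y, (h : PSL) ^ T.y = 1 := fun h => by
    rw [← hYc]
    exact congrArg Subtype.val (pow_card_eq_one' (G := Y) (x := h))
  have hYmem : ∀ x ∈ T.tT, x ^ T.y = 1 → x ∈ Y := by
    intro x hx hxy
    obtain ⟨k, hk⟩ := Subgroup.mem_zpowers_iff.mp (hgen ⟨x, hx⟩)
    have hk' : γ ^ k = x := by simpa using congrArg Subtype.val hk
    rw [← hk', ← zpow_natCast, ← _root_.zpow_mul, ← orderOf_dvd_iff_zpow_eq_one, hγo] at hxy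
    push_cast at hxy
    obtain ⟨j, rfl⟩ : (2 : ℤ) ∣ k := Int.dvd_of_mul_dvd_mul_right (by exact_mod_cast hy0.ne') hxy
    rw [← hk', _root_.zpow_mul, zpow_ofNat]
    exact Subgroup.zpow_mem_zpowers _ _
  have hYsq : ∀ h : Y, (h : PSL) ≠ 1 → (h : PSL) * h ≠ 1 := fun h h1 e =>
    h1 (eq_one_of_pow_coprime (m := 2) (by rw [pow_two]; exact e) (hYpow h) (Nat.coprime_two_left.mpr T.hy))
  have hTpow : ∀ h : T.tZ, (h : PSL) ^ T.z = 1 := fun h => by
    obtain ⟨b, hb, e⟩ := h.2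
    rw [← e]; exact T.pow_B hb
  have hZsq : ∀ h : T.tZ, (h : PSL) ≠ 1 → (h : PSL) * h ≠ 1 := fun h h1 e =>
    h1 (eq_one_of_pow_coprime (m := 2) (by rw [pow_two]; exact e) (hTpow h) (Nat.coprime_two_left.mpr hzo))
  -- induced functions
  obtain ⟨hcardC, hcard2⟩ := T.card_psl
  have hyC : (T.y : ℂ) ≠ 0 := Nat.cast_ne_zero.mpr hy0.ne'
  have hzC : (T.z : ℂ) ≠ 0 := Nat.cast_ne_zero.mpr hz0.ne'
  have iY1 : indFun Y (fun _ => (1 : ℂ)) 1 = 4 * T.z * qC := by
    have h : (Nat.card Y : ℂ) * Y.index = Nat.card PSL := by exact_mod_cast Y.card_mul_index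
    rw [indFun_apply_one, mul_one]
    rw [hYc, hcardC] at h
    exact mul_left_cancel₀ hyC (by linear_combination h)
  have iZ1 : ∀ θ : T.tZ → ℂ, indFun T.tZ θ 1 = 4 * T.y * qC * θ 1 := by
    intro θ
    have h : (Nat.card T.tZ : ℂ) * T.tZ.index = Nat.card PSL := by exact_mod_cast T.tZ.card_mul_index
    rw [indFun_apply_one]
    rw [T.card_tZ, hcardC] at h
    congr 1
    exact mul_left_cancel₀ hzC (by linear_combination h)
  have iYA : ∀ a ∈ T.A, π a ≠ 1 → indFun Y (fun _ => (1 : ℂ)) (π a) = if π a ^ T.y = 1 then 4 else 0 := by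
    intro a ha h1
    split
    · next h =>
      have hm := hYmem _ (Subgroup.mem_map_of_mem _ ha) h
      rw [T.torA.indFun_apply h2 Y hYT _ ⟨π a, hm⟩ (hYsq ⟨_, hm⟩ h1), show Nat.card (T.A.map π) = 2 * T.y from T.card_tT,
        hYc]
      push_cast
      field_simp
      ring
    · next h => exact indFun_eq_zero_of_pow Y _ hYpow h
  have iYB : ∀ b ∈ T.B, π b ≠ 1 → indFun Y (fun _ => (1 : ℂ)) (π b) = 0 := fun b hb h1 =>
    indFun_eq_zero_of_pow Y _ hYpow fun e => h1 (eq_one_of_pow_coprime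
      (by rw [mul_comm, pow_mul, e, one_pow]) (T.pow_B hb) c3)
  have iYU : ∀ (e : Fˣ) (x : F), e ^ 2 = 1 → x ≠ 0 → indFun Y (fun _ => (1 : ℂ)) (π (bor e x)) = 0 :=
    fun e x he hx => indFun_eq_zero_of_pow Y _ hYpow fun h => T.unip_ne hx (eq_one_of_pow_coprime
      (T.pow_unip he x) (show π (bor e x) ^ (2 * T.y) = 1 by rw [mul_comm, pow_mul, h, one_pow]) c1)
  have iZA : ∀ (θ : T.tZ → ℂ), ∀ a ∈ T.A, π a ≠ 1 → indFun T.tZ θ (π a) = 0 := fun θ a ha h1 =>
    indFun_eq_zero_of_pow T.tZ θ hTpow fun e => h1 (eq_one_of_pow_coprime (T.pow_A ha) e c3)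
  have iZU : ∀ (θ : T.tZ → ℂ) (e : Fˣ) (x : F), e ^ 2 = 1 → x ≠ 0 → indFun T.tZ θ (π (bor e x)) = 0 :=
    fun θ e x he hx => indFun_eq_zero_of_pow T.tZ θ hTpow fun h =>
      T.unip_ne hx (eq_one_of_pow_coprime (T.pow_unip he x) h c2)
  have iZB : ∀ (θ : T.tZ → ℂ) (b : SL2) (hb : b ∈ T.B), π b ≠ 1 →
      indFun T.tZ θ (π b) = θ ⟨π b, Subgroup.mem_map_of_mem _ hb⟩ + θ (⟨π b, Subgroup.mem_map_of_mem _ hb⟩⁻¹) := by
    intro θ b hb h1
    rw [T.torB.indFun_apply h2 T.tZ le_rfl θ ⟨π b, Subgroup.mem_map_of_mem _ hb⟩ (hZsq ⟨_, Subgroup.mem_map_of_mem _ hb⟩ h1),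
      div_self (Nat.cast_ne_zero.mpr Nat.card_pos.ne'), one_mul]
  -- the third kind of function
  have hl : ∀ θ : T.tZ →* ℂˣ, θ ≠ 1 → ∃ χ : PSL → ℂ, IsIrrCharacter PSL χ ∧ χ ≠ (fun _ => 1) ∧ χ ≠ sb ∧
      (∀ i, χ ≠ fb i) ∧
      (fun x => φa x + indFun T.tZ (fun h => (θ h : ℂ) - 1) x) = (-(T.δ : ℂ)) • χ := by
    intro θ hθ
    set θ' : T.B →* ℂˣ := θ.comp ((π).subgroupMap T.B) with hθ'
    have hθ'1 : θ' ≠ 1 := fun e => hθ (MonoidHom.ext fun h => by
      obtain ⟨b, rfl⟩ := (π).subgroupMap_surjective T.B h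
      exact DFunLike.congr_fun e b)
    obtain ⟨χ0, hχ0, n1, n2, n3, vs, vu, vA, vB⟩ := T.lin θ' hθ'1 fun b hb => by
      show θ ((π).subgroupMap T.B b) = 1
      rw [show (π).subgroupMap T.B b = 1 from Subtype.ext hb, map_one]
    have vs1 : χ0 1 = qC - T.δ := by rw [← bor_one]; exact vs 1 (one_pow 2)
    obtain ⟨χ, hχ, hχ'⟩ := exists_desc hχ0 fun e he => (vs e he).trans vs1.symm
    refine ⟨χ, hχ, fun e => n1 (funext fun g => by rw [hχ', e]), fun e => n2 (funext fun g => by rw [hχ', e, hst]),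
      fun i e => n3 i (funext fun g => by rw [hχ', e, hf]), funext fun x => ?_⟩
    have hcl := indFun_isClassFunction T.tZ (fun h => (θ h : ℂ) - 1)
    show φa x + _ = -(T.δ : ℂ) * χ x
    rcases T.kinds x with rfl | ⟨e, u, he, hu, h⟩ | ⟨a, ha, h1, h⟩ | ⟨b, hb, h1, h⟩
    · rw [a1, iZ1, map_one, Units.val_one, sub_self, mul_zero, add_zero, ← map_one π, ← hχ', vs1]
      linear_combination -hd
    · rw [cl_eq hcl_a h, cl_eq hcl h, cl_eq (isClassFunction_irr hχ) h, ← hχ', iZU _ e u he hu,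
        va, st_bor_unip he hu, vu e u he hu]
      linear_combination -hd
    · rw [cl_eq hcl_a h, cl_eq hcl h, cl_eq (isClassFunction_irr hχ) h, ← hχ', iZA _ a ha h1, aA a ha h1,
        vA a ha h1, mul_zero, add_zero]
    · rw [cl_eq hcl_a h, cl_eq hcl h, cl_eq (isClassFunction_irr hχ) h, ← hχ', iZB _ b hb h1, aB b hb h1,
        vB ⟨b, hb⟩ h1]
      show (2 : ℂ) + (((θ ⟨π b, _⟩ : ℂˣ) : ℂ) - 1 + ((θ (⟨π b, _⟩⁻¹) : ℂ) - 1)) =
        -(T.δ : ℂ) * (-(T.δ : ℂ) * ((θ' ⟨b, hb⟩ : ℂ) + (θ' (⟨b, hb⟩⁻¹ : T.B) : ℂ)))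
      have k1 : θ' ⟨b, hb⟩ = θ ⟨π b, Subgroup.mem_map_of_mem _ hb⟩ := rfl
      rw [map_inv θ', map_inv θ, k1]
      linear_combination -(((θ ⟨π b, Subgroup.mem_map_of_mem _ hb⟩ : ℂˣ) : ℂ) +
        (((θ ⟨π b, Subgroup.mem_map_of_mem _ hb⟩)⁻¹ : ℂˣ) : ℂ)) * hd
  -- inner products
  have hconjδ : conj (T.δ : ℂ) = T.δ := map_intCast _ _
  have o1 := classInner_irr_self hone
  have o2 := classInner_irr_self hsb
  have o3 : classInner sb (fun _ : PSL => (1 : ℂ)) = 0 := classInner_irr_ne hsb hone hne1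
  have o3' : classInner (fun _ : PSL => (1 : ℂ)) sb = 0 := classInner_irr_ne hone hsb hne1.symm
  have o4 : ∀ i, classInner (fb i) (fb i) = 1 := fun i => classInner_irr_self (hfb i)
  have o5 : ∀ i, classInner (fun _ : PSL => (1 : ℂ)) (fb i) = 0 ∧ classInner (fb i) (fun _ : PSL => (1 : ℂ)) = 0 ∧
      classInner sb (fb i) = 0 ∧ classInner (fb i) sb = 0 := fun i =>
    ⟨classInner_irr_ne hone (hfb i) (hf1 i).symm, classInner_irr_ne (hfb i) hone (hf1 i),
      classInner_irr_ne hsb (hfb i) (hfs i).symm, classInner_irr_ne (hfb i) hsb (hfs i)⟩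
  have o6 : classInner (fb 0) (fb 1) = 0 := classInner_irr_ne (hfb 0) (hfb 1) hf01
  -- involutions
  have hv : orderOf (γ ^ T.y) = 2 := by
    rw [orderOf_pow' γ hy0.ne', hγo, Nat.gcd_eq_right (dvd_mul_left T.y 2), Nat.mul_div_cancel _ hy0]
  have hvT : γ ^ T.y ∈ T.tT := pow_mem hγ _
  have hvne : γ ^ T.y ≠ 1 := fun e => by rw [e, orderOf_one] at hv; omega
  have hallv : ∀ u : PSL, orderOf u = 2 → IsConj (γ ^ T.y) u := by
    intro u hu
    obtain ⟨a, ha, hay, h⟩ := T.invol_cases (by rw [hu]; exact even_two)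
    refine (?_ : γ ^ T.y = π a) ▸ h.symm
    have h2' : π a ^ 2 = 1 := isConj_pow_eq_one h (orderOf_dvd_iff_pow_eq_one.mp hu.dvd)
    obtain ⟨k, hk⟩ := Subgroup.mem_zpowers_iff.mp (hgen ⟨π a, Subgroup.mem_map_of_mem _ ha⟩)
    have hk' : γ ^ k = π a := by simpa using congrArg Subtype.val hk
    rw [← hk', ← zpow_natCast, ← _root_.zpow_mul, ← orderOf_dvd_iff_zpow_eq_one, hγo] at h2'
    push_cast at h2'
    rw [mul_comm k] at h2'
    obtain ⟨j, rfl⟩ : (T.y : ℤ) ∣ k := Int.dvd_of_mul_dvd_mul_left two_ne_zero h2'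
    rcases Int.even_or_odd j with ⟨i, rfl⟩ | ⟨i, rfl⟩
    · exfalso
      refine hay ?_
      rw [← hk', ← zpow_natCast, ← _root_.zpow_mul, ← orderOf_dvd_iff_zpow_eq_one, hγo]
      exact ⟨i * T.y, by push_cast; ring⟩
    · rw [← hk', show (T.y : ℤ) * (2 * i + 1) = ((2 * T.y : ℕ) : ℤ) * i + T.y by push_cast; ring, _root_.zpow_add,
        _root_.zpow_mul, zpow_natCast, ← hγo, pow_orderOf_eq_one, _root_.one_zpow, one_mul, zpow_natCast]
  have hC : (Nat.card (Subgroup.centralizer ({γ ^ T.y} : Set PSL)) : ℂ) = 4 * T.y := by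
    rw [T.torA.card_centralizer_invol h2 T.odd_card hvT hv, T.cardA]; push_cast; ring
  obtain ⟨av, hav, hav'⟩ := hvT
  have hav1 : π av ≠ 1 := by rw [hav']; exact hvne
  have sv : sb (γ ^ T.y) = T.δ := by rw [← hav', ← hst, T.st_A av hav hav1]
  have fv : ∀ i, fb i (γ ^ T.y) = -(T.δ : ℂ) := fun i => by
    rw [← hav', ← hf, T.f_A i av hav hav1, if_neg, mul_neg_one]
    rw [hav']
    intro e
    exact hvne (eq_one_of_pow_coprime (m := 2) (orderOf_dvd_iff_pow_eq_one.mp hv.dvd) e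
      (Nat.coprime_two_left.mpr T.hy))
  obtain ⟨ey, ez⟩ := T.card_cast
  have hq0 : (qC : ℂ) ≠ 0 := qC_ne
  have s1 := sum_pairs_irr hone (γ ^ T.y)
  have s2 := sum_pairs_irr hsb (γ ^ T.y)
  rw [sv, show sb 1 = qC by rw [← map_one π, ← hst, st_one]] at s2
  refine ⟨{
    q := Fintype.card F, y := T.y, z := T.z, δ := T.δ
    hδ := T.hδ, hy := T.hy, hq := T.hq, hz := T.hz, card := hcard2
    Y := Y, cardY := hYc, cycY := inferInstanceAs (IsCyclic (Subgroup.zpowers (γ ^ 2)))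
    Z := T.tZ, cardZ := T.card_tZ, cycZ := T.torB.isCyclic_map
    φa := φa, φb := φb
    gen_a := ?_, gen_b := fun i => ?_
    even_a := fun x hx => (heven x hx).1, even_b := fun i x hx => (heven x hx).2 i
    aa := ?_, ab := fun i => ?_, bb := fun i => ?_, b01 := ?_, a_one := ?_, b_one := fun i => ?_
    a_deg := a1, b_deg := b1
    a_Y := fun x hx h1 => ?_, b_Y := fun i x hx h1 => ?_
    ident := fun x => ?_
    inv_Y := fun x hx h1 => ?_
    wt_a := ?_, wt_b := fun i => ?_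
    ll := fun θ hθ => ?_, la := fun θ hθ => ?_, lb := fun i θ hθ => ?_
    lY := fun θ x hx h1 => ?_ }, rfl, rfl, rfl⟩
  · refine isGenChar_sub (isGenChar_of_char (isCharacter_of_irr hone)) ?_
    exact isGenChar_intSmul T.δ (isGenChar_of_char (isCharacter_of_irr hsb))
  · exact isGenChar_add (isGenChar_of_char (isCharacter_of_irr (hfb i))) (isGenChar_of_char (isCharacter_of_irr hsb))
  · simp only [hφa, classInner_sub_left, classInner_sub_right, classInner_smul_left, classInner_smul_right,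
      hconjδ, o1, o2, o3, o3']
    linear_combination hd
  · simp only [hφa, hφb, classInner_sub_left, classInner_add_right, classInner_smul_left, o2, o3', o5 i]
    ring
  · simp only [hφb, classInner_add_left, classInner_add_right, o2, o4, o5 i]
    norm_num
  · simp only [hφb, classInner_add_left, classInner_add_right, o2, o6, o5 0, o5 1]
    norm_num
  · simp only [hφa, classInner_sub_left, classInner_smul_left, o1, o3]
    ring
  · simp only [hφb, classInner_add_left, o3, o5 i, add_zero]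
  · obtain ⟨a, ha, rfl⟩ := hYT hx
    exact aA a ha h1
  · obtain ⟨a, ha, rfl⟩ := hYT hx
    rw [bA i a ha h1, if_pos (hYpow ⟨_, hx⟩)]
  · have hclY := indFun_isClassFunction Y (fun _ => (1 : ℂ))
    have hclZ := indFun_isClassFunction T.tZ (fun _ => (1 : ℂ))
    rcases T.kinds x with rfl | ⟨e, u, he, hu, h⟩ | ⟨a, ha, h1, h⟩ | ⟨b, hb, h1, h⟩
    · rw [a1, iY1, iZ1]
      linear_combination (T.δ : ℂ) * (b1 0 + b1 1) / 2 + hd - 2 * qC * ez + 2 * qC * ey
    · rw [cl_eq hcl_a h, cl_eq (hcl_b 0) h, cl_eq (hcl_b 1) h, cl_eq hclY h, cl_eq hclZ h, va, vb, vb,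
        st_bor_unip he hu, iYU e u he hu, iZU _ e u he hu]
      linear_combination (T.δ : ℂ) * T.f_unip e u he hu + hd
    · rw [cl_eq hcl_a h, cl_eq (hcl_b 0) h, cl_eq (hcl_b 1) h, cl_eq hclY h, cl_eq hclZ h, aA a ha h1,
        bA 0 a ha h1, bA 1 a ha h1, iYA a ha h1, iZA _ a ha h1]
      split
      · linear_combination 4 * hd
      · ring
    · rw [cl_eq hcl_a h, cl_eq (hcl_b 0) h, cl_eq (hcl_b 1) h, cl_eq hclY h, cl_eq hclZ h, aB b hb h1,
        bB 0 b hb h1, bB 1 b hb h1, iYB b hb h1, iZB _ b hb h1]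
      linear_combination -2 * hd
  · rw [T.torA.invCount_eq h2 (hYT hx) (hYsq ⟨x, hx⟩ h1)]
    exact T.card_tT
  · have hw := sum_invCount hv hallv (φ := φa) fun u hu => (heven u (by rw [hu]; exact even_two)).1
    have e : ∑ a : PSL, ∑ b : PSL, φa (a * γ ^ T.y * a⁻¹ * (b * γ ^ T.y * b⁻¹)) =
        (Nat.card PSL : ℂ) ^ 2 * (1 - (T.δ : ℂ) / qC) := by
      simp only [hφa, Pi.sub_apply, Pi.smul_apply, smul_eq_mul, Finset.sum_sub_distrib, ← Finset.mul_sum]
      rw [s1, s2, pow_two (T.δ : ℂ), hd]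
      ring
    rw [e, hC] at hw
    simp only [Nat.cast_mul, Nat.cast_ofNat, mul_left_comm _ (2 : ℂ), ← Finset.mul_sum]
    refine mul_left_cancel₀ (pow_ne_zero 2 (mul_ne_zero (show (4 : ℂ) ≠ 0 by norm_num) hyC)) ?_
    calc (4 * (T.y : ℂ)) ^ 2 * (2 * ∑ x : PSL, φa x * (invCount x : ℂ))
        = 2 * ((Nat.card PSL : ℂ) ^ 2 * (1 - (T.δ : ℂ) / qC)) := by rw [← hw]; ring
      _ = 2 * ((Nat.card PSL : ℂ) * (4 * T.y * T.z * qC) * ((T.y * 4) / qC)) := by
          rw [ey, ← hcardC]; field_simp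
      _ = (4 * (T.y : ℂ)) ^ 2 * ((T.z * 2) * Nat.card PSL) := by field_simp
      _ = _ := by rw [ez]
  · have hfd : fb i 1 = T.z := by
      have h := T.f_deg i
      rw [hf i 1, map_one] at h
      linear_combination h / 2 - ez / 2
    have hw := sum_invCount hv hallv (φ := φb i) fun u hu => (heven u (by rw [hu]; exact even_two)).2 i
    have e : ∑ a : PSL, ∑ b : PSL, φb i (a * γ ^ T.y * a⁻¹ * (b * γ ^ T.y * b⁻¹)) =
        (Nat.card PSL : ℂ) ^ 2 * (1 / T.z + 1 / qC) := by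
      simp only [hφb, Pi.add_apply, Finset.sum_add_distrib]
      rw [sum_pairs_irr (hfb i), fv i, hfd, s2, neg_sq, pow_two (T.δ : ℂ), hd]
      ring
    rw [e, hC] at hw
    simp only [Nat.cast_mul, Nat.cast_ofNat, mul_left_comm _ (2 : ℂ), ← Finset.mul_sum]
    refine mul_left_cancel₀ (pow_ne_zero 2 (mul_ne_zero (show (4 : ℂ) ≠ 0 by norm_num) hyC)) ?_
    calc (4 * (T.y : ℂ)) ^ 2 * (2 * ((qC - T.δ) * ∑ x : PSL, φb i x * (invCount x : ℂ)))
        = 2 * ((T.y : ℂ) * 4) * ((Nat.card PSL : ℂ) ^ 2 * (1 / T.z + 1 / qC)) := by rw [← hw, ← ey]; ring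
      _ = 2 * ((T.y : ℂ) * 4) * ((Nat.card PSL : ℂ) * (4 * T.y * T.z * qC) * (1 / T.z + 1 / qC)) := by
          rw [pow_two, ← hcardC]
      _ = (4 * (T.y : ℂ)) ^ 2 * ((2 * qC + (T.z * 2)) * Nat.card PSL) := by field_simp
      _ = _ := by rw [ez]; ring
  · obtain ⟨χ, hχ, -, -, -, e⟩ := hl θ hθ
    rw [e, classInner_smul_left, classInner_smul_right, classInner_irr_self hχ, map_neg, hconjδ]
    linear_combination hd
  · obtain ⟨χ, hχ, n1, n2, -, e⟩ := hl θ hθ
    rw [e, hφa, classInner_smul_right, classInner_sub_left, classInner_smul_left,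
      classInner_irr_ne hone hχ n1.symm, classInner_irr_ne hsb hχ n2.symm]
    ring
  · obtain ⟨χ, hχ, -, n2, n3, e⟩ := hl θ hθ
    rw [e, hφb, classInner_smul_right, classInner_add_left,
      classInner_irr_ne (hfb i) hχ (n3 i).symm, classInner_irr_ne hsb hχ n2.symm]
    ring
  · obtain ⟨a, ha, rfl⟩ := hYT hx
    exact iZA _ a ha h1

end Tbl

/-- The class functions exist for `q ≡ 3, 5 (mod 8)`, for any enumeration of the group. -/
theorem exists_lData {K : Type*} [Field K] [Fintype K]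
    [inst : Fintype (Matrix.ProjectiveSpecialLinearGroup (Fin 2) K)]
    (hq : Fintype.card K % 8 = 3 ∨ Fintype.card K % 8 = 5) :
    ∃ D : LData (Matrix.ProjectiveSpecialLinearGroup (Fin 2) K), D.q = Fintype.card K ∧
      (Fintype.card K % 8 = 3 → D.δ = -1) ∧ (Fintype.card K % 8 = 5 → D.δ = 1) := by
  classical
  cases Subsingleton.elim inst (QuotientGroup.fintype (Subgroup.center (Matrix.SpecialLinearGroup (Fin 2) K)))
  rcases hq with h | h
  · obtain ⟨T, h1, -⟩ := tbl_neg (F := K) (y := (Fintype.card K + 1) / 4)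
      (Nat.odd_iff.mpr (by omega)) (by omega)
    obtain ⟨D, e1, e2, -⟩ := T.nonempty_lData
    exact ⟨D, e1, fun _ => e2.trans h1, fun h' => by omega⟩
  · obtain ⟨T, h1, -⟩ := tbl_pos (F := K) (y := Fintype.card K / 4)
      (Nat.odd_iff.mpr (by omega)) (by omega)
    obtain ⟨D, e1, e2, -⟩ := T.nonempty_lData
    exact ⟨D, e1, fun h' => by omega, fun _ => e2.trans h1⟩

end CfsgLib.JankoThompson
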