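import Cfsg.Agent.Lib.JankoThompson.Setting
import Cfsg.Agent.Lib.E8Solv.Main
import Cfsg.Agent.S0251
import Cfsg.Agent.S0252
import Cfsg.Agent.S0253
import Cfsg.Agent.S0448

/-!
The small fields and `q ≡ ±1 (mod 8)`.
-/

set_option autoImplicit false
set_option linter.unusedSectionVars false
set_option linter.style.haveILetI false

namespace CfsgLib.JankoThompson

open Subgroup Cfsg
open scoped Pointwise

universe u v

variable {G : Type u} [Group G] [Finite G] {F : Type v} [Field F] [Fintype F] {t : G}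

/-- `q ≡ ±1 (mod 8)` is impossible. -/
theorem mod_eight (hab : ∀ P : Sylow 2 G, ∀ a b : P, a * b = b * a) (ht : orderOf t = 2)
    (e : Subgroup.centralizer ({t} : Set G) ≃* Multiplicative (ZMod 2) × Matrix.ProjectiveSpecialLinearGroup (Fin 2) F)
    (hodd : Odd (Fintype.card F)) (h3 : 3 < Fintype.card F) :
    Fintype.card F % 8 = 3 ∨ Fintype.card F % 8 = 5 := by
  classical
  haveI : Fact (Nat.Prime 2) := ⟨Nat.prime_two⟩
  by_contra hcon
  push Not at hcon
  set q := Fintype.card F
  obtain ⟨E⟩ : Nonempty (Sylow 2 (Matrix.ProjectiveSpecialLinearGroup (Fin 2) F)) := inferInstance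
  have hE := sylow_abelian e hab ht (psl_two_center (by omega)) E
  obtain ⟨h4, -, -⟩ := CfsgLib.JankoReeMult.sylow_klein hodd h3 E hE
  have hcard := CfsgLib.DicksonFull.card_psl (F := F)
  obtain ⟨k, hk⟩ := hodd
  have hsq : q ^ 2 - 1 = 4 * (k * (k + 1)) := by
    rw [hk]
    have : (2 * k + 1) ^ 2 = 4 * (k * (k + 1)) + 1 := by ring
    omega
  have hk4 : 4 ∣ k * (k + 1) := by
    rcases (show k % 4 = 0 ∨ k % 4 = 3 by omega) with h | h
    · exact dvd_mul_of_dvd_left (Nat.dvd_of_mod_eq_zero h) _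
    · exact dvd_mul_of_dvd_right (Nat.dvd_of_mod_eq_zero (by omega)) _
  have hgcd : Nat.gcd 2 (q - 1) = 2 := Nat.gcd_eq_left ⟨k, by omega⟩
  rw [hgcd, hsq] at hcard
  have h8 : 2 ^ 3 ∣ Nat.card (Matrix.ProjectiveSpecialLinearGroup (Fin 2) F) := by
    obtain ⟨c, hc⟩ := hk4
    refine ⟨q * c, ?_⟩
    rw [hc] at hcard
    linarith
  have h8' : 2 ^ 3 ∣ Nat.card (E : Subgroup (Matrix.ProjectiveSpecialLinearGroup (Fin 2) F)) := E.pow_dvd_card_of_pow_dvd_card h8
  rw [h4] at h8'
  norm_num at h8'

theorem small_J1 [IsSimpleGroup G] (hab : ∀ P : Sylow 2 G, ∀ a b : P, a * b = b * a) (ht : orderOf t = 2)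
    (e : Subgroup.centralizer ({t} : Set G) ≃* Multiplicative (ZMod 2) × Matrix.ProjectiveSpecialLinearGroup (Fin 2) F)
    (hq : Fintype.card F = 4 ∨ Fintype.card F = 5) : Cfsg.IsJ1 G := by
  have hc := two_central e hab ht (psl_two_center (by omega))
  rcases hq with h | h
  · obtain ⟨i⟩ := Cfsg.Agent.S0252.result h
    exact Cfsg.Agent.S0448.result t hc (e.trans (MulEquiv.prodCongr (MulEquiv.refl _) i))
  · obtain ⟨i⟩ := Cfsg.Agent.S0253.result h
    exact Cfsg.Agent.S0448.result t hc (e.trans (MulEquiv.prodCongr (MulEquiv.refl _) i))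

theorem a4_facts : (∀ a : alternatingGroup (Fin 4), a ^ 4 = 1 → a * a = 1) ∧
    (∀ a : alternatingGroup (Fin 4), (∀ b, b * a = a * b) → a = 1) ∧
    (∀ a b : alternatingGroup (Fin 4), (a * b * a⁻¹ * b⁻¹) * (a * b * a⁻¹ * b⁻¹) = 1) ∧
    (∀ a b : alternatingGroup (Fin 4), a * a = 1 → b * b = 1 → (a * b) * (a * b) = 1 ∧ a * b = b * a) ∧
    (∃ a b : alternatingGroup (Fin 4), a * b ≠ b * a) :=
  ⟨by decide +kernel, by decide +kernel, by decide +kernel, by decide +kernel, by decide +kernel⟩

theorem a4_solvable : Group.IsSolvable (alternatingGroup (Fin 4)) := by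
  let V : Subgroup (alternatingGroup (Fin 4)) :=
    { carrier := {a | a * a = 1}
      one_mem' := one_mul 1
      mul_mem' := fun {a b} ha hb => (a4_facts.2.2.2.1 a b ha hb).1
      inv_mem' := fun {a} (ha : a * a = 1) => show a⁻¹ * a⁻¹ = 1 by rw [← mul_inv_rev, ha, inv_one] }
  refine ⟨⟨2, eq_bot_iff.2 ?_⟩⟩
  have h1 : derivedSeries (alternatingGroup (Fin 4)) 1 ≤ V := by
    rw [derivedSeries_succ, derivedSeries_zero, Subgroup.commutator_le]
    exact fun a _ b _ => a4_facts.2.2.1 a b
  rw [derivedSeries_succ, Subgroup.commutator_le]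
  intro a ha b hb
  rw [Subgroup.mem_bot, commutatorElement_def, (a4_facts.2.2.2.1 a b (h1 ha) (h1 hb)).2]
  group

/-- `q = 3` is impossible. -/
theorem three_false [IsSimpleGroup G] (hab : ∀ P : Sylow 2 G, ∀ a b : P, a * b = b * a) (ht : orderOf t = 2)
    (e₀ : Subgroup.centralizer ({t} : Set G) ≃* Multiplicative (ZMod 2) × Matrix.ProjectiveSpecialLinearGroup (Fin 2) F)
    (hq : Fintype.card F = 3) : False := by
  classical
  haveI : Fact (Nat.Prime 2) := ⟨Nat.prime_two⟩
  haveI := Fintype.ofFinite G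
  obtain ⟨i⟩ := Cfsg.Agent.S0251.result hq
  let e := e₀.trans (MulEquiv.prodCongr (MulEquiv.refl _) i)
  obtain ⟨fsq, fcen, -, -, fna⟩ := a4_facts
  have hZ : center (alternatingGroup (Fin 4)) = ⊥ :=
    (eq_bot_iff_forall _).2 fun a ha => fcen a (mem_center_iff.1 ha)
  have hG := nonabelian e fna
  obtain ⟨E⟩ : Nonempty (Sylow 2 (alternatingGroup (Fin 4))) := inferInstance
  have h12 : Nat.card (alternatingGroup (Fin 4)) = 12 := by rw [Nat.card_eq_fintype_card]; rfl
  have hEc : Nat.card (E : Subgroup (alternatingGroup (Fin 4))) = 4 := by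
    rw [E.card_eq_multiplicity, h12, show (12 : ℕ) = 2 ^ 2 * 3 from rfl, Nat.factorization_mul (by norm_num) (by norm_num),
      Finsupp.add_apply, Nat.Prime.factorization_pow Nat.prime_two, Finsupp.single_eq_same,
      Nat.factorization_eq_zero_of_not_dvd (by norm_num)]
    rfl
  obtain ⟨P, htP, hP, hPc⟩ := exists_sylow_prod e hab ht hZ E
  rw [hEc] at hPc
  haveI : IsMulCommutative (P : Subgroup G) := ⟨⟨hab P⟩⟩
  have hPsq : ∀ g ∈ (P : Subgroup G), g ^ 2 = 1 := by
    intro g hg
    obtain ⟨u, hu, hgu⟩ := (hP g).1 hg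
    have hu2 : u * u = 1 := fsq u (by
      have := pow_card_eq_one' (x := (⟨u, hu⟩ : (E : Subgroup (alternatingGroup (Fin 4)))))
      rw [hEc] at this
      exact congrArg Subtype.val this)
    have ht2 : t ^ 2 = 1 := by rw [← ht, pow_orderOf_eq_one]
    rcases hgu with rfl | rfl
    · rw [pow_two, ← map_mul, hu2, map_one]
    · rw [(iota_comm e u).mul_pow, ht2, one_mul, pow_two, ← map_mul, hu2, map_one]
  have hel : IsElementaryAbelian 2 (P : Subgroup G) := ⟨inferInstance, hPsq⟩
  have htr := CfsgLib.E8Solv.transitive (index_ne_two hG) P (by rw [hPc])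
  have hsolvC : Group.IsSolvable (Subgroup.centralizer ({t} : Set G)) := by
    haveI := a4_solvable
    haveI : Group.IsSolvable (Multiplicative (ZMod 2) × alternatingGroup (Fin 4)) := inferInstance
    exact Group.isSolvable_of_isSolvable_injective (f := e.toMonoidHom) e.injective
  have hC : ∀ s : G, orderOf s = 2 → Group.IsSolvable (Subgroup.centralizer ({s} : Set G)) := by
    intro s hs
    have hp : IsPGroup 2 (zpowers s) := IsPGroup.of_card (n := 1) (by rw [Nat.card_zpowers, hs, pow_one])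
    obtain ⟨Q, hQ⟩ := hp.exists_le_sylow
    obtain ⟨g, hg⟩ := MulAction.exists_smul_eq G Q P
    have hsP : g * s * g⁻¹ ∈ (P : Subgroup G) := by
      rw [← hg]
      show MulAut.conj g s ∈ (MulAut.conj g • (Q : Subgroup G))
      exact smul_mem_pointwise_smul s (MulAut.conj g) _ (hQ (mem_zpowers s))
    obtain ⟨n, -, hn⟩ := htr t htP _ hsP (fun h => by simp [h] at ht) (fun h => by
      rw [conj_eq_one_iff] at h; rw [h, orderOf_one] at hs; norm_num at hs)
    have hk : (g⁻¹ * n) * t * (g⁻¹ * n)⁻¹ = s := by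
      calc (g⁻¹ * n) * t * (g⁻¹ * n)⁻¹ = g⁻¹ * (n * t * n⁻¹) * g := by group
        _ = s := by rw [hn]; group
    set k := g⁻¹ * n
    haveI := hsolvC
    refine Group.isSolvable_of_isSolvable_injective
      (f := ({ toFun := fun c => ⟨k⁻¹ * c.1 * k, ?_⟩, map_one' := ?_, map_mul' := ?_ } :
        Subgroup.centralizer ({s} : Set G) →* Subgroup.centralizer ({t} : Set G))) ?_
    · have hc := mem_centralizer_singleton_iff.1 c.2
      rw [mem_centralizer_singleton_iff, show t = k⁻¹ * s * k by rw [← hk]; group]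
      calc k⁻¹ * c.1 * k * (k⁻¹ * s * k) = k⁻¹ * (c.1 * s) * k := by group
        _ = k⁻¹ * (s * c.1) * k := by rw [hc]
        _ = k⁻¹ * s * k * (k⁻¹ * c.1 * k) := by group
    · exact Subtype.ext (by simp)
    · intro a b; exact Subtype.ext (by simp [mul_assoc])
    · intro a b hab'
      apply Subtype.ext
      have := congrArg Subtype.val hab'
      simpa using this
  have h7 : (Subgroup.centralizer ((P : Subgroup G) : Set G)).relIndex
      (Subgroup.normalizer ((P : Subgroup G) : Set G)) = 7 := by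
    rcases CfsgLib.E8Solv.seven_or_data hG P hel (by rw [hPc]) hC with h | ⟨⟨D⟩⟩
    · exact h
    · exact (CfsgLib.E8Solv.Data.false hG D).elim
  -- an element of order three of `C(t)` acts non-trivially
  obtain ⟨x, hx3, hxE, u, hu, hxu⟩ : ∃ x : alternatingGroup (Fin 4), x ^ 3 = 1 ∧
      (∀ u : alternatingGroup (Fin 4), u * u = 1 → (x * u * x⁻¹) * (x * u * x⁻¹) = 1) ∧
      ∃ u, u * u = 1 ∧ x * u ≠ u * x := by decide +kernel
  have hEmem : ∀ u : alternatingGroup (Fin 4), u * u = 1 → u ∈ (E : Subgroup (alternatingGroup (Fin 4))) := by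
    have hcard : (Finset.univ.filter fun u : alternatingGroup (Fin 4) => u * u = 1).card = 4 := by decide +kernel
    intro u hu
    have hsub : ((E : Subgroup (alternatingGroup (Fin 4))) : Set (alternatingGroup (Fin 4))).toFinset ⊆
        Finset.univ.filter fun u : alternatingGroup (Fin 4) => u * u = 1 := fun w hw => by
      rw [Set.mem_toFinset] at hw
      refine Finset.mem_filter.2 ⟨Finset.mem_univ _, fsq w ?_⟩
      have := pow_card_eq_one' (x := (⟨w, hw⟩ : (E : Subgroup (alternatingGroup (Fin 4)))))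
      rw [hEc] at this
      exact congrArg Subtype.val this
    have heq := Finset.eq_of_subset_of_card_le hsub (by
      rw [hcard, Set.toFinset_card, ← Nat.card_eq_fintype_card]; exact hEc.ge)
    have : u ∈ Finset.univ.filter fun u : alternatingGroup (Fin 4) => u * u = 1 := by simp [hu]
    rw [← heq, Set.mem_toFinset] at this
    exact this
  have hxN : iota e x ∈ Subgroup.normalizer ((P : Subgroup G) : Set G) := by
    have key : ∀ g ∈ (P : Subgroup G), iota e x * g * (iota e x)⁻¹ ∈ (P : Subgroup G) := by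
      intro g hg
      obtain ⟨w, hw, hgw⟩ := (hP g).1 hg
      have hw2 : w * w = 1 := fsq w (by
        have := pow_card_eq_one' (x := (⟨w, hw⟩ : (E : Subgroup (alternatingGroup (Fin 4)))))
        rw [hEc] at this
        exact congrArg Subtype.val this)
      refine (hP _).2 ⟨x * w * x⁻¹, hEmem _ (hxE w hw2), ?_⟩
      rcases hgw with rfl | rfl
      · exact Or.inl (by rw [map_mul, map_mul, map_inv])
      · refine Or.inr ?_
        rw [map_mul, map_mul, map_inv, ← mul_assoc (iota e x) t, ← (iota_comm e x).eq]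
        group
    exact CfsgLib.JankoThompson.mem_normalizer_of_conj key
  set N := Subgroup.normalizer ((P : Subgroup G) : Set G)
  set C := Subgroup.centralizer ((P : Subgroup G) : Set G)
  haveI : (C.subgroupOf N).Normal := by
    rw [← Subgroup.normalizerMonoidHom_ker]
    exact MonoidHom.normal_ker _
  have hidx : (C.subgroupOf N).index = 7 := h7
  have h37 : (⟨iota e x, hxN⟩ : N) ^ 7 ∈ C.subgroupOf N := by
    rw [← hidx]
    exact Subgroup.pow_index_mem (C.subgroupOf N) _
  have hx7 : x ^ 7 = x := by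
    rw [show 7 = 3 + 3 + 1 from rfl, pow_succ, pow_add, hx3, one_mul, one_mul]
  have hxC : iota e x ∈ C := by
    have : ((⟨iota e x, hxN⟩ : N) ^ 7 : N).1 ∈ C := h37
    rwa [Subgroup.coe_pow, ← map_pow, hx7] at this
  have hc := Subgroup.mem_centralizer_iff.1 hxC (iota e u) ((hP _).2 ⟨u, hEmem u hu, Or.inl rfl⟩)
  rw [← map_mul, ← map_mul] at hc
  exact hxu (iota_inj e hc).symm

end CfsgLib.JankoThompson
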