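import Cfsg.Agent.Lib.JankoThompson.Cases
import Cfsg.Agent.Lib.JankoThompson.PSLChar
import Cfsg.Agent.Lib.JankoThompson.Small
import Cfsg.Agent.Lib.JankoThompson.EvenGroup

/-!
Assembly of the Janko–Thompson theorem from the local configuration.
-/

set_option autoImplicit false
set_option linter.unusedSectionVars false
set_option linter.style.haveILetI false

namespace CfsgLib.JankoThompson

open Subgroup

universe u v

/-- An automorphism of order three without fixed points forces `y ≡ 1 (mod 3)`. -/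
theorem card_mod_three {Y : Type*} [Group Y] [Finite Y] (α : Y ≃* Y) (hα : ∀ y, α (α (α y)) = y)
    (hfix : ∀ y, y ≠ 1 → α y ≠ y) : Nat.card Y % 3 = 1 := by
  classical
  haveI : Fact (Nat.Prime 3) := ⟨Nat.prime_three⟩
  have h3 : (α : MulAut Y) ^ 3 = 1 := MulEquiv.ext fun y => by
    rw [pow_three, MulAut.mul_apply, MulAut.mul_apply, MulAut.one_apply]; exact hα y
  haveI : Finite (MulAut Y) := Finite.of_injective (fun e : MulAut Y => (e : Y → Y)) fun e e' h =>
    MulEquiv.ext fun x => congrFun h x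
  have hp : IsPGroup 3 (zpowers (α : MulAut Y)) := fun x => ⟨1, by
    obtain ⟨k, hk⟩ := x.2
    apply Subtype.ext
    show (x : MulAut Y) ^ 3 ^ 1 = 1
    rw [← hk, pow_one, ← zpow_natCast, ← zpow_mul, mul_comm, zpow_mul, zpow_natCast, h3, one_zpow]⟩
  have h1 := hp.card_modEq_card_fixedPoints Y
  have h2 : MulAction.fixedPoints (zpowers (α : MulAut Y)) Y = {1} := by
    ext y
    constructor
    · intro hy
      by_contra hne
      exact hfix y hne (hy ⟨α, mem_zpowers _⟩)
    · rintro rfl a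
      exact map_one (a : MulAut Y)
  rw [h2, Nat.card_eq_fintype_card (α := ({1} : Set Y)), Fintype.card_unique] at h1
  exact h1

theorem main_of_cfg {G : Type u} [Group G] [Finite G] [IsSimpleGroup G]
    (hab : ∀ P : Sylow 2 G, ∀ a b : P, a * b = b * a)
    {F : Type v} [Field F] [Fintype F] (hq : 3 ≤ Fintype.card F) (t : G) (ht : orderOf t = 2)
    (e : Subgroup.centralizer ({t} : Set G) ≃* Multiplicative (ZMod 2) × Matrix.ProjectiveSpecialLinearGroup (Fin 2) F)
    (hcfg : ∀ [Fintype G] [Fintype (Matrix.ProjectiveSpecialLinearGroup (Fin 2) F)], 11 ≤ Fintype.card F →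
      (Fintype.card F % 8 = 3 ∨ Fintype.card F % 8 = 5) →
      ∀ D : LData (Matrix.ProjectiveSpecialLinearGroup (Fin 2) F), D.q = Fintype.card F →
      ∃ C : Cfg G (Matrix.ProjectiveSpecialLinearGroup (Fin 2) F), C.D = D) :
    (∃ m : ℕ, 1 ≤ m ∧ Fintype.card F = 3 ^ (2 * m + 1) ∧
        Nat.card G = (3 ^ (2 * m + 1)) ^ 3 * ((3 ^ (2 * m + 1)) ^ 3 + 1) * (3 ^ (2 * m + 1) - 1)) ∨
      ((Fintype.card F = 4 ∨ Fintype.card F = 5) ∧ Cfsg.IsJ1 G) := by
  classical
  by_cases h45 : Fintype.card F = 4 ∨ Fintype.card F = 5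
  · exact Or.inr ⟨h45, small_J1 hab ht e h45⟩
  by_cases h3 : Fintype.card F = 3
  · exact (three_false hab ht e h3).elim
  rcases Nat.even_or_odd (Fintype.card F) with heven | hodd
  · exact absurd (Or.inl (even_eq_four hab ht e heven hq)) h45
  left
  have h8 := mod_eight hab ht e hodd (by omega)
  have h11 : 11 ≤ Fintype.card F := by omega
  letI : Fintype G := Fintype.ofFinite G
  letI : Fintype (Matrix.ProjectiveSpecialLinearGroup (Fin 2) F) := Fintype.ofFinite _
  obtain ⟨D, hDq, hd3, hd5⟩ := exists_lData h8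
  obtain ⟨C, hC⟩ := hcfg h11 h8 D hDq
  obtain ⟨hδ, hG⟩ := C.outcome
  have hq3 : Fintype.card F % 8 = 3 := by
    rcases h8 with h | h
    · exact h
    · have h1 := hd5 h
      rw [hC, h1] at hδ
      norm_num at hδ
  have hy := card_mod_three C.α C.α_cube fun y hy => (C.α_fpf y hy).1
  rw [C.D.cardY] at hy
  have hq' : (C.D.q : ℤ) = Fintype.card F := by rw [hC, hDq]
  have hdvd : 3 ∣ Fintype.card F := by
    have h := C.D.hq
    rw [hδ, hq'] at h
    omega
  obtain ⟨p, hp⟩ := CharP.exists F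
  haveI := hp
  obtain ⟨n, hpp, hn⟩ := FiniteField.card F p
  rw [hn] at hdvd
  have hp3 : p = 3 := ((Nat.prime_dvd_prime_iff_eq Nat.prime_three hpp).1 (Nat.prime_three.dvd_of_dvd_pow hdvd)).symm
  subst hp3
  obtain ⟨k, hk⟩ := Nat.even_or_odd' (n : ℕ)
  rcases hk with hk | hk
  · exfalso
    rw [hn, hk, pow_mul, Nat.pow_mod] at hq3
    norm_num at hq3
  refine ⟨k, ?_, by rw [hn, hk], ?_⟩
  · by_contra hk0
    rw [hn, hk, show k = 0 by omega] at h11
    norm_num at h11
  have hG' : (Nat.card G : ℤ) = ((Fintype.card F ^ 3 * (Fintype.card F ^ 3 + 1) * (Fintype.card F - 1) : ℕ) : ℤ) := by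
    rw [hG, hq', Nat.cast_mul, Nat.cast_mul, Nat.cast_sub (by omega)]
    push_cast
    ring
  rw [← hk, ← hn]
  exact_mod_cast hG'

end CfsgLib.JankoThompson
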