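import Cfsg.Agent.Lib.JankoReeMult.PSLTwo
import Cfsg.Agent.Lib.DicksonFull.Subgroups
import Cfsg.Agent.Lib.AbelianSylowInvolutions
import Cfsg.Prelude.Def_SporadicB

/-!
An involution with centraliser `2 × L` in a group with abelian Sylow 2-subgroups: first consequences.
-/

set_option autoImplicit false
set_option linter.unusedSectionVars false
set_option linter.style.haveILetI false

namespace CfsgLib.JankoThompson

open Subgroup

universe u v

section PSL

variable {F : Type v} [Field F] [Fintype F]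

theorem psl_two_nonabelian : ∃ a b : Matrix.ProjectiveSpecialLinearGroup (Fin 2) F, a * b ≠ b * a := by
  refine ⟨CfsgLib.PSL2.uu 1, CfsgLib.PSL2.vv 1, fun h => ?_⟩
  rw [CfsgLib.PSL2.uu_eq, CfsgLib.PSL2.vv_eq, ← map_mul, ← map_mul, CfsgLib.PSL2.mk_eq_mk] at h
  rcases h with h | h
  · have h00 := congrFun (congrFun h 0) 0
    simp [CfsgLib.PSL2.coe_uSL, CfsgLib.PSL2.coe_vSL] at h00
  · have h00 := congrFun (congrFun h 0) 0
    have h01 := congrFun (congrFun h 0) 1
    simp [CfsgLib.PSL2.coe_uSL, CfsgLib.PSL2.coe_vSL] at h00 h01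
    exact one_ne_zero (α := F) (by linear_combination h00 - (h01 : (1 : F) = -1))

theorem psl_two_center (hq : 4 ≤ Fintype.card F) :
    center (Matrix.ProjectiveSpecialLinearGroup (Fin 2) F) = ⊥ := by
  haveI := CfsgLib.JankoReeMult.psl_simple (F := F) (by omega)
  rcases IsSimpleGroup.eq_bot_or_eq_top_of_normal (center (Matrix.ProjectiveSpecialLinearGroup (Fin 2) F))
    inferInstance with h | h
  · exact h
  · exfalso
    obtain ⟨a, b, hab⟩ := psl_two_nonabelian (F := F)
    exact hab (mem_center_iff.1 (h ▸ mem_top b : b ∈ center _) a)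

end PSL

section

variable {G : Type u} [Group G] {L : Type v} [Group L] {t : G}
  (e : Subgroup.centralizer ({t} : Set G) ≃* Multiplicative (ZMod 2) × L)

/-- The copy of `L` in the centraliser. -/
noncomputable def iota : L →* G :=
  (Subgroup.centralizer ({t} : Set G)).subtype.comp (e.symm.toMonoidHom.comp (MonoidHom.inr _ L))

theorem iota_apply (l : L) : iota e l = (e.symm (1, l) : G) := rfl

theorem iota_inj : Function.Injective (iota e) := fun a b h => by
  rw [iota_apply, iota_apply] at h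
  exact (Prod.ext_iff.1 (e.symm.injective (Subtype.ext h))).2

theorem iota_mem (l : L) : iota e l ∈ Subgroup.centralizer ({t} : Set G) := (e.symm (1, l)).2

theorem iota_comm (l : L) : Commute t (iota e l) :=
  (Subgroup.mem_centralizer_singleton_iff.1 (iota_mem e l)).symm

theorem e_symm_one (ht : orderOf t = 2) (hZ : center L = ⊥) :
    (e.symm (Multiplicative.ofAdd 1, 1) : G) = t := by
  have htC : t ∈ Subgroup.centralizer ({t} : Set G) := Subgroup.mem_centralizer_singleton_iff.2 rfl
  obtain ⟨p, hp⟩ : ∃ p, e ⟨t, htC⟩ = p := ⟨_, rfl⟩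
  have hc : ∀ r, p * r = r * p := by
    intro r
    obtain ⟨c, rfl⟩ := e.surjective r
    rw [← hp, ← map_mul, ← map_mul]
    exact congrArg e (Subtype.ext (Subgroup.mem_centralizer_singleton_iff.1 c.2).symm)
  have h2 : p.2 = 1 := by
    have : p.2 ∈ center L := mem_center_iff.2 fun l => (congrArg Prod.snd (hc (1, l))).symm
    rw [hZ] at this
    exact mem_bot.1 this
  have h1 : p.1 = Multiplicative.ofAdd 1 := by
    have h : ∀ i : Multiplicative (ZMod 2), i ≠ 1 → i = Multiplicative.ofAdd 1 := by decide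
    refine h _ fun e1 => ?_
    have : e ⟨t, htC⟩ = e 1 := by rw [hp, map_one]; exact Prod.ext e1 h2
    have ht1 : t = 1 := congrArg Subtype.val (e.injective this)
    rw [ht1, orderOf_one] at ht
    exact absurd ht (by norm_num)
  rw [← h1, show ((p.1, (1 : L)) : _ × L) = e ⟨t, htC⟩ from Prod.ext (by rw [hp]) (by rw [hp, h2]),
    e.symm_apply_apply]

theorem cent_cases (ht : orderOf t = 2) (hZ : center L = ⊥) {g : G}
    (hg : g ∈ Subgroup.centralizer ({t} : Set G)) : ∃ l, g = iota e l ∨ g = t * iota e l := by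
  obtain ⟨i, l, hil⟩ : ∃ i l, e ⟨g, hg⟩ = (i, l) := ⟨_, _, rfl⟩
  have hg' : g = (e.symm (i, l) : G) := by rw [← hil, e.symm_apply_apply]
  refine ⟨l, ?_⟩
  have h : ∀ i : Multiplicative (ZMod 2), i = 1 ∨ i = Multiplicative.ofAdd 1 := by decide
  rcases h i with rfl | rfl
  · exact Or.inl hg'
  · right
    rw [hg', iota_apply, show ((Multiplicative.ofAdd (1 : ZMod 2), l) : _ × L) =
      (Multiplicative.ofAdd 1, 1) * (1, l) by simp, map_mul, Subgroup.coe_mul, e_symm_one e ht hZ]

theorem t_ne_iota (ht : orderOf t = 2) (hZ : center L = ⊥) (l : L) : iota e l ≠ t := fun h => by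
  have h := h.trans (e_symm_one e ht hZ).symm
  rw [iota_apply] at h
  have := (Prod.ext_iff.1 (e.symm.injective (Subtype.ext h))).1
  exact absurd (show (1 : Multiplicative (ZMod 2)) = Multiplicative.ofAdd 1 from this) (by decide)

include e in
theorem nonabelian (hL : ∃ a b : L, a * b ≠ b * a) : ¬ IsMulCommutative G := fun h => by
  obtain ⟨a, b, hab⟩ := hL
  exact hab (iota_inj e (by rw [map_mul, map_mul]; exact h.1.comm _ _))

/-- The Sylow subgroup `⟨t⟩ × E`. -/
theorem exists_sylow_prod [Finite G] (hab : ∀ P : Sylow 2 G, ∀ a b : P, a * b = b * a)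
    (ht : orderOf t = 2) (hZ : center L = ⊥) (E : Sylow 2 L) :
    ∃ P : Sylow 2 G, t ∈ P ∧ (∀ g, g ∈ P ↔ ∃ u ∈ (E : Subgroup L), g = iota e u ∨ g = t * iota e u) ∧
      Nat.card (P : Subgroup G) = 2 * Nat.card (E : Subgroup L) := by
  classical
  haveI : Fact (Nat.Prime 2) := ⟨Nat.prime_two⟩
  haveI : Finite L := Finite.of_injective _ (iota_inj e)
  set f : Multiplicative (ZMod 2) × L →* G :=
    (Subgroup.centralizer ({t} : Set G)).subtype.comp e.symm.toMonoidHom
  have hf : Function.Injective f := fun a b h => e.symm.injective (Subtype.ext h)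
  set M : Subgroup (Multiplicative (ZMod 2) × L) := (⊤ : Subgroup (Multiplicative (ZMod 2))).prod (E : Subgroup L)
  have hM : Nat.card (M.map f) = 2 * Nat.card (E : Subgroup L) := by
    rw [Subgroup.card_map_of_injective hf, Nat.card_congr (Subgroup.prodEquiv _ _).toEquiv, Nat.card_prod,
      Subgroup.card_top, Nat.card_congr Multiplicative.toAdd, Nat.card_zmod]
  have hmp : IsPGroup 2 (M.map f) := by
    obtain ⟨k, hk⟩ := IsPGroup.iff_card.1 E.2
    exact IsPGroup.of_card (n := k + 1) (by rw [hM, hk, pow_succ, mul_comm])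
  obtain ⟨P, hP⟩ := hmp.exists_le_sylow
  have htM : t ∈ M.map f := ⟨(Multiplicative.ofAdd 1, 1), ⟨mem_top _, one_mem _⟩, e_symm_one e ht hZ⟩
  have htP : t ∈ P := hP htM
  have hPC : ∀ g ∈ P, g ∈ Subgroup.centralizer ({t} : Set G) := fun g hg =>
    Subgroup.mem_centralizer_singleton_iff.2 (congrArg Subtype.val (hab P ⟨g, hg⟩ ⟨t, htP⟩))
  have hmem : ∀ g, g ∈ M.map f ↔ ∃ u ∈ (E : Subgroup L), g = iota e u ∨ g = t * iota e u := by
    intro g
    constructor
    · rintro ⟨⟨i, u⟩, ⟨-, hu⟩, rfl⟩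
      obtain ⟨l, hl⟩ := cent_cases e ht hZ (e.symm (i, u)).2
      refine ⟨l, ?_, hl⟩
      rcases hl with hl | hl
      · rw [iota_apply] at hl
        have h2 : u = l := (Prod.ext_iff.1 (e.symm.injective (Subtype.ext hl))).2
        exact h2 ▸ hu
      · have hl' := hl.trans (congrArg (· * iota e l) (e_symm_one e ht hZ).symm)
        rw [iota_apply, ← Subgroup.coe_mul, ← map_mul] at hl'
        have h2 : u = 1 * l := (Prod.ext_iff.1 (e.symm.injective (Subtype.ext hl'))).2
        rw [one_mul] at h2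
        exact h2 ▸ hu
    · rintro ⟨u, hu, rfl | rfl⟩
      · exact ⟨(1, u), ⟨mem_top _, hu⟩, rfl⟩
      · exact mul_mem htM ⟨(1, u), ⟨mem_top _, hu⟩, rfl⟩
  have hEle : (E : Subgroup L) ≤ ((P : Subgroup G).comap (iota e)) := fun u hu => hP ((hmem _).2 ⟨u, hu, Or.inl rfl⟩)
  have hEeq : ((P : Subgroup G).comap (iota e)) = E := E.3 (P.2.comap_of_injective _ (iota_inj e)) hEle
  have hPM : (P : Subgroup G) = M.map f := by
    refine le_antisymm (fun g hg => (hmem g).2 ?_) hP
    obtain ⟨l, hl⟩ := cent_cases e ht hZ (hPC g hg)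
    refine ⟨l, ?_, hl⟩
    rw [← hEeq, Subgroup.mem_comap]
    rcases hl with rfl | rfl
    · exact hg
    · show iota e l ∈ (P : Subgroup G)
      have := mul_mem (inv_mem (show t ∈ (P : Subgroup G) from htP)) hg
      rwa [inv_mul_cancel_left] at this
  exact ⟨P, htP, fun g => by rw [← hmem g, ← hPM]; rfl, by rw [← hM, hPM]⟩

include e in
theorem sylow_abelian [Finite G] (hab : ∀ P : Sylow 2 G, ∀ a b : P, a * b = b * a)
    (ht : orderOf t = 2) (hZ : center L = ⊥) (E : Sylow 2 L) : IsMulCommutative (E : Subgroup L) := by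
  obtain ⟨P, -, hP, -⟩ := exists_sylow_prod e hab ht hZ E
  refine ⟨⟨fun a b => Subtype.ext (iota_inj e ?_)⟩⟩
  rw [Subgroup.coe_mul, Subgroup.coe_mul, map_mul, map_mul]
  exact congrArg Subtype.val (hab P ⟨_, (hP _).2 ⟨a, a.2, Or.inl rfl⟩⟩ ⟨_, (hP _).2 ⟨b, b.2, Or.inl rfl⟩⟩)

include e in
theorem two_central [Finite G] (hab : ∀ P : Sylow 2 G, ∀ a b : P, a * b = b * a)
    (ht : orderOf t = 2) (hZ : center L = ⊥) : Cfsg.IsTwoCentralInvolution t := by
  haveI : Fact (Nat.Prime 2) := ⟨Nat.prime_two⟩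
  haveI : Finite L := Finite.of_injective _ (iota_inj e)
  obtain ⟨P, htP, -, -⟩ := exists_sylow_prod e hab ht hZ (default : Sylow 2 L)
  exact ⟨ht, P, htP, fun x hx => congrArg Subtype.val (hab P ⟨x, hx⟩ ⟨t, htP⟩)⟩

end

/-- An element conjugating a finite subgroup into itself normalises it. -/
theorem mem_normalizer_of_conj {G : Type u} [Group G] [Finite G] {H : Subgroup G} {g : G}
    (h : ∀ y ∈ H, g * y * g⁻¹ ∈ H) : g ∈ Subgroup.normalizer (H : Set G) := by
  have he : H.map (MulAut.conj g).toMonoidHom = H :=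
    Subgroup.eq_of_le_of_card_ge (by rintro _ ⟨x, hx, rfl⟩; exact h x hx)
      (Subgroup.card_map_of_injective (MulAut.conj g).injective).ge
  rw [Subgroup.mem_normalizer_iff]
  refine fun y => ⟨h y, fun hy => ?_⟩
  rw [← he] at hy
  obtain ⟨z, hz, e⟩ := hy
  have e' : g * z * g⁻¹ = g * y * g⁻¹ := e
  rwa [show y = z by simpa using e'.symm]

/-- A nonabelian simple group has no subgroup of index two. -/
theorem index_ne_two {G : Type u} [Group G] [IsSimpleGroup G] (hG : ¬ IsMulCommutative G) (H : Subgroup G) :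
    H.index ≠ 2 := fun hH => by
  haveI : H.Normal := Subgroup.normal_of_index_eq_two hH
  rcases IsSimpleGroup.eq_bot_or_eq_top_of_normal H inferInstance with rfl | rfl
  · rw [Subgroup.index_bot] at hH
    haveI : IsCyclic G := isCyclic_of_prime_card (p := 2) hH
    exact hG ⟨⟨fun a b => (IsCyclic.commGroup (α := G)).mul_comm a b⟩⟩
  · rw [Subgroup.index_top] at hH
    exact absurd hH (by norm_num)

end CfsgLib.JankoThompson
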