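import Mathlib

/-!
The arithmetic of the three cases of the Janko–Thompson configuration; see `blueprint/S0343.md`, §3.
-/

set_option autoImplicit false

namespace CfsgLib.JankoThompson

/-- Case (A): the degree of the second character of the principal pattern. -/
theorem arith_caseA {q δ W V U K : ℚ} (hδ : δ = 1 ∨ δ = -1) (hq : 2 ≤ q) (hW : W ≠ 0) (hqW : q * W ≠ δ)
    (hU : U = -1 - V - W) (hU0 : U ≠ 0) (hV : V = -(δ * q * W))
    (hK : K = -((q ^ 2 - 1) / (q * W))) (h : 1 + 1 / W + q ^ 2 / U + q ^ 2 / V = (q + δ) * K) :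
    W = -(q ^ 2 + δ * q + 1) := by
  subst hV hK
  have hq0 : q ≠ 0 := by linarith
  have hd : δ ≠ 0 := by rcases hδ with rfl | rfl <;> norm_num
  field_simp at h
  subst hU
  have key : (W + q ^ 2 + δ * q + 1) * (q * W - δ) = 0 := by
    rcases hδ with rfl | rfl
    · have h3 : (q - 1) * (W + q ^ 2 + 1 * q + 1) * (q * W - 1) = 0 := by linear_combination h
      rcases mul_eq_zero.1 h3 with h4 | h4
      · rcases mul_eq_zero.1 h4 with h5 | h5
        · linarith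
        · rw [h5, zero_mul]
      · rw [h4, mul_zero]
    · have h3 : (q + 1) * ((W + q ^ 2 + -1 * q + 1) * (q * W - -1)) = 0 := by linear_combination h
      exact (mul_eq_zero.1 h3).resolve_left (by linarith)
  rcases mul_eq_zero.1 key with h1 | h1
  · linarith
  · exact absurd (sub_eq_zero.1 h1) hqW

/-- Case (A), `δ = 1`, two degrees of the same sign. -/
theorem arith_caseA_neg {q R S a b : ℚ} (hq : 2 ≤ q) (hR : R < 0) (hS : S < 0)
    (hsum : R + S = -(q * (q + 1))) (hab : a + b = -(q + 1))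
    (h : a ^ 2 / R + b ^ 2 / S = -(3 * (q + 1) / (q ^ 2 + q + 1))) : False := by
  have hq1 : 0 < q ^ 2 + q + 1 := by nlinarith
  have h1 : (a + b) ^ 2 / (-(R + S)) ≤ a ^ 2 / (-R) + b ^ 2 / (-S) := by
    rw [div_add_div _ _ (by linarith) (by linarith), div_le_div_iff₀ (by linarith) (by nlinarith)]
    nlinarith [sq_nonneg (a * S - b * R)]
  rw [div_neg, div_neg, div_neg, ← neg_add, h, hsum, hab] at h1
  have e : (-(q + 1)) ^ 2 / -(q * (q + 1)) = -((q + 1) / q) := by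
    field_simp
  rw [e, neg_neg, neg_neg] at h1
  rw [div_le_div_iff₀ (by linarith) hq1] at h1
  nlinarith

/-- Case (A), `δ = 1`, two degrees of opposite sign. -/
theorem arith_caseA_mix {q R S z : ℚ} (hq : 2 ≤ q) (hRS : R * S < 0)
    (hsum : R + S = -(q * (q + 1)))
    (h : z ^ 2 / R + z ^ 2 / S = -(3 * (q + 1) / (q ^ 2 + q + 1))) : False := by
  have hR : R ≠ 0 := fun e => by simp [e] at hRS
  have hS : S ≠ 0 := fun e => by simp [e] at hRS
  have e : z ^ 2 / R + z ^ 2 / S = z ^ 2 * (R + S) / (R * S) := by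
    field_simp
    ring
  rw [e, hsum] at h
  have h1 : 0 ≤ z ^ 2 * -(q * (q + 1)) / (R * S) :=
    div_nonneg_of_nonpos (mul_nonpos_of_nonneg_of_nonpos (sq_nonneg z) (by nlinarith)) hRS.le
  have h2 : 0 < 3 * (q + 1) / (q ^ 2 + q + 1) := div_pos (by linarith) (by nlinarith)
  linarith

/-- Case (B). -/
theorem arith_caseB {y z q δ Z R S : ℤ} (hδ : δ = 1 ∨ δ = -1) (hy : Odd y) (hy7 : 7 ≤ y)
    (hq : q = 4 * y + δ) (hz : z = 2 * y + δ) (hS : S = 1 + Z - R) (hZy : y ∣ Z - 1) (hRy : y ∣ R - 3)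
    (h : (Z + 1) * R * S = z ^ 2 * Z * ((2 * δ * q + 7) * S + R)) : False := by
  obtain ⟨a, ha⟩ := hZy
  obtain ⟨b, hb⟩ := hRy
  have ha' : Z = 1 + y * a := by linarith
  have hb' : R = 3 + y * b := by linarith
  subst ha' hb' hS hq hz
  have hd : δ ^ 2 = 1 := by rcases hδ with rfl | rfl <;> rfl
  have key : y * (32 * δ) = y * (y * (8 * δ * (a - b) - 24
      + (4 * δ + 4 * y) * (-8 * δ + 9 * (a - b) + b + 8 * δ * y * (a - b))
      + a * (-8 * δ + 9 * (a - b) + b + 8 * δ * y * (a - b)) - 6 * a * (4 * δ + 4 * y)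
      - ((a - b) * (3 * a + 2 * b) - a * b)
      + y * (a * (4 * δ + 4 * y) * (-8 * δ + 9 * (a - b) + b + 8 * δ * y * (a - b))
        - a * b * (a - b)))) := by
    rcases hδ with rfl | rfl <;> linear_combination h
  have h32 : y ∣ 32 * δ := Dvd.intro _ (mul_left_cancel₀ (by omega : y ≠ 0) key).symm
  have h32' : y.natAbs ∣ 32 := by
    have := Int.natAbs_dvd_natAbs.2 h32
    rw [Int.natAbs_mul, show δ.natAbs = 1 by rcases hδ with rfl | rfl <;> rfl, mul_one] at this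
    exact this
  have hle := Nat.le_of_dvd (by norm_num) h32'
  obtain ⟨k, rfl⟩ := hy
  have hn : (2 * k + 1).natAbs = 2 * k.natAbs + 1 := by omega
  rw [hn] at h32' hle
  have h3 : 3 ≤ k.natAbs := by omega
  have h15 : k.natAbs ≤ 15 := by omega
  generalize k.natAbs = m at h32' h3 h15
  interval_cases m <;> omega

/-- A quintic with dominating leading part has no root outside `(-1/2, 1/2)`. -/
theorem no_root_of_bounds {A5 A4 A3 A2 A1 A0 M B2 B1 B0 r : ℚ} (h5 : 0 < A5)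
    (hd : 0 ≤ 4 * A5 * (A3 - M) - A4 ^ 2) (h2 : |A2| ≤ B2) (h1 : |A1| ≤ B1) (h0 : |A0| ≤ B0)
    (hM : 2 * B2 + 4 * B1 + 8 * B0 < M) (hr : 1 / 2 ≤ |r|)
    (h : A5 * r ^ 5 + A4 * r ^ 4 + A3 * r ^ 3 + A2 * r ^ 2 + A1 * r + A0 = 0) : False := by
  have hq : M ≤ A5 * r ^ 2 + A4 * r + A3 := by
    by_contra hlt
    push Not at hlt
    have := mul_pos h5 (sub_pos.2 hlt)
    nlinarith [sq_nonneg (2 * A5 * r + A4)]
  have g2 : 0 ≤ B2 := (abs_nonneg _).trans h2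
  have g1 : 0 ≤ B1 := (abs_nonneg _).trans h1
  have g0 : 0 ≤ B0 := (abs_nonneg _).trans h0
  have h2s : 1 ≤ 2 * |r| := by linarith
  have hs : 0 < |r| := by linarith
  have hr4 : |r| ^ 4 = r ^ 4 := by rw [show (4 : ℕ) = 2 * 2 from rfl, pow_mul, pow_mul, sq_abs]
  have h4 : 0 < r ^ 4 := by rw [← hr4]; positivity
  have k2 : |A2 * r ^ 3| ≤ 2 * B2 * r ^ 4 := by
    rw [abs_mul, abs_pow, ← hr4]
    calc |A2| * |r| ^ 3 ≤ B2 * |r| ^ 3 * 1 := by rw [mul_one]; gcongr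
      _ ≤ B2 * |r| ^ 3 * (2 * |r|) := by gcongr
      _ = _ := by ring
  have k1 : |A1 * r ^ 2| ≤ 4 * B1 * r ^ 4 := by
    rw [abs_mul, abs_pow, ← hr4]
    calc |A1| * |r| ^ 2 ≤ B1 * |r| ^ 2 * 1 := by rw [mul_one]; gcongr
      _ ≤ B1 * |r| ^ 2 * (2 * |r|) ^ 2 := by gcongr; exact one_le_pow₀ h2s
      _ = _ := by ring
  have k0 : |A0 * r| ≤ 8 * B0 * r ^ 4 := by
    rw [abs_mul, ← hr4]
    calc |A0| * |r| ≤ B0 * |r| * 1 := by rw [mul_one]; gcongr
      _ ≤ B0 * |r| * (2 * |r|) ^ 3 := by gcongr; exact one_le_pow₀ h2s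
      _ = _ := by ring
  have e : (A5 * r ^ 2 + A4 * r + A3) * r ^ 4 = -(A2 * r ^ 3 + A1 * r ^ 2 + A0 * r) := by
    linear_combination r * h
  have t : |A2 * r ^ 3 + A1 * r ^ 2 + A0 * r| ≤ |A2 * r ^ 3| + |A1 * r ^ 2| + |A0 * r| :=
    (abs_add_le _ _).trans (add_le_add_left (abs_add_le _ _) _)
  have t' := neg_le_abs (A2 * r ^ 3 + A1 * r ^ 2 + A0 * r)
  nlinarith [mul_le_mul_of_nonneg_right hq h4.le, mul_lt_mul_of_pos_right hM h4]

/-- Case (C): a quintic without admissible root. -/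
theorem arith_quintic {y δ r : ℚ} (hδ : δ = 1 ∨ δ = -1) (hy : 7 ≤ y) (hr : 1 / 2 ≤ |r|)
    (h : (224 * y ^ 3 + 128 * δ * y ^ 2 + 18 * y) * r ^ 5
      + (-2048 * δ * y ^ 5 - 3840 * y ^ 4 - 3520 * δ * y ^ 3 - 1184 * y ^ 2 - 96 * δ * y + 9) * r ^ 4
      + (8192 * y ^ 7 + 24576 * δ * y ^ 6 + 33792 * y ^ 5 + 25600 * δ * y ^ 4 + 11648 * y ^ 3
        + 2144 * δ * y ^ 2 - 132 * y - 60 * δ) * r ^ 3
      + (1536 * y ^ 4 + 2304 * δ * y ^ 3 + 2368 * y ^ 2 + 936 * δ * y + 118) * r ^ 2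
      + (-512 * y ^ 5 - 1536 * δ * y ^ 4 - 1760 * y ^ 3 - 1440 * δ * y ^ 2 - 510 * y - 60 * δ) * r
      + (64 * δ * y ^ 3 + 160 * y ^ 2 + 72 * δ * y + 9) = 0) : False := by
  obtain ⟨t, ht, rfl⟩ : ∃ t, 0 ≤ t ∧ y = t + 7 := ⟨y - 7, by linarith, by ring⟩
  set A5 := 224 * (t + 7) ^ 3 + 128 * δ * (t + 7) ^ 2 + 18 * (t + 7) with hA5
  set A4 := -2048 * δ * (t + 7) ^ 5 - 3840 * (t + 7) ^ 4 - 3520 * δ * (t + 7) ^ 3
    - 1184 * (t + 7) ^ 2 - 96 * δ * (t + 7) + 9 with hA4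
  set A3 := 8192 * (t + 7) ^ 7 + 24576 * δ * (t + 7) ^ 6 + 33792 * (t + 7) ^ 5
    + 25600 * δ * (t + 7) ^ 4 + 11648 * (t + 7) ^ 3 + 2144 * δ * (t + 7) ^ 2 - 132 * (t + 7)
    - 60 * δ with hA3
  set A2 := 1536 * (t + 7) ^ 4 + 2304 * δ * (t + 7) ^ 3 + 2368 * (t + 7) ^ 2 + 936 * δ * (t + 7)
    + 118 with hA2
  set A1 := -512 * (t + 7) ^ 5 - 1536 * δ * (t + 7) ^ 4 - 1760 * (t + 7) ^ 3 - 1440 * δ * (t + 7) ^ 2
    - 510 * (t + 7) - 60 * δ with hA1
  set A0 := 64 * δ * (t + 7) ^ 3 + 160 * (t + 7) ^ 2 + 72 * δ * (t + 7) + 9 with hA0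
  have p5 : 0 < A5 := by
    rw [hA5]
    rcases hδ with rfl | rfl <;> ring_nf <;> positivity
  have pd : 0 ≤ 4 * A5 * (A3 - 2000 * (t + 7) ^ 7) - A4 ^ 2 := by
    rw [hA5, hA4, hA3]
    rcases hδ with rfl | rfl <;> ring_nf <;> positivity
  have p2 : |A2| ≤ 2500 * (t + 7) ^ 4 := by
    rw [abs_le, hA2]
    constructor <;> rw [← sub_nonneg] <;> rcases hδ with rfl | rfl <;> ring_nf <;> positivity
  have p1 : |A1| ≤ 900 * (t + 7) ^ 5 := by
    rw [abs_le, hA1]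
    constructor <;> rw [← sub_nonneg] <;> rcases hδ with rfl | rfl <;> ring_nf <;> positivity
  have p0 : |A0| ≤ 100 * (t + 7) ^ 3 := by
    rw [abs_le, hA0]
    constructor <;> rw [← sub_nonneg] <;> rcases hδ with rfl | rfl <;> ring_nf <;> positivity
  refine no_root_of_bounds (M := 2000 * (t + 7) ^ 7) (B2 := 2500 * (t + 7) ^ 4) (B1 := 900 * (t + 7) ^ 5)
    (B0 := 100 * (t + 7) ^ 3) p5 pd p2 p1 p0 ?_ hr h
  rw [← sub_pos]
  ring_nf
  positivity

/-- Case (C): the elimination. -/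
theorem arith_caseC {y z q δ r U V S : ℚ} (hδ : δ = 1 ∨ δ = -1) (hy : 7 ≤ y) (hr : 1 / 2 ≤ |r|)
    (hq : q = 4 * y + δ) (hz : z = 2 * y + δ) (hU : U = -1 - 4 * y * r) (hU0 : U ≠ 0)
    (hV : V = 1 + 2 * y * r - S) (hV0 : V ≠ 0)
    (ha : -((r - δ) ^ 2 * q * S) = 4 * δ * z ^ 3 * U * r)
    (hb : 1 + 2 * y / r - 4 * z ^ 2 / V - z ^ 2 * (2 * δ * q + 7) / S = 0) : False := by
  have hr0 : r ≠ 0 := fun e => by simp [e] at hr; norm_num at hr
  have hz0 : z ≠ 0 := by rcases hδ with rfl | rfl <;> rw [hz] <;> linarith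
  have hd : δ ≠ 0 := by rcases hδ with rfl | rfl <;> norm_num
  have hq0 : q ≠ 0 := by rcases hδ with rfl | rfl <;> rw [hq] <;> linarith
  have hrd : (r - δ) ≠ 0 := fun e => by
    rw [e] at ha
    have : 4 * δ * z ^ 3 * U * r = 0 := by linear_combination -ha
    exact mul_ne_zero (mul_ne_zero (mul_ne_zero (mul_ne_zero (by norm_num) hd) (pow_ne_zero 3 hz0)) hU0) hr0 this
  have hdd : δ ^ 2 = 1 := by rcases hδ with rfl | rfl <;> norm_num
  have hS : S = -(4 * δ * z ^ 3 * U * r) / (q * (r - δ) ^ 2) := by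
    field_simp
    linear_combination -ha
  have hN : (4 * z * U * (r + 2 * y) + (2 * q + 7 * δ) * q * (r - δ) ^ 2) * V = 16 * z ^ 3 * U * r := by
    rw [hS] at hb
    field_simp at hb
    rcases hδ with rfl | rfl
    · linear_combination hb
    · linear_combination -hb
  have hV' : V * (q * (r - δ) ^ 2) = (1 + 2 * y * r) * (q * (r - δ) ^ 2) + 4 * δ * z ^ 3 * U * r := by
    rw [hV, hS]
    field_simp
    ring
  have hE : δ * (1 + 2 * y * r) * (4 * z * U * (r + 2 * y) + (2 * q + 7 * δ) * q * (r - δ) ^ 2) * q * (r - δ) ^ 2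
      + 4 * z ^ 3 * U * r * (4 * z * U * (r + 2 * y) + (2 * q + 7 * δ) * q * (r - δ) ^ 2)
      - 16 * δ * z ^ 3 * U * r * q * (r - δ) ^ 2 = 0 := by
    linear_combination δ * (q * (r - δ) ^ 2) * hN
      - δ * (4 * z * U * (r + 2 * y) + (2 * q + 7 * δ) * q * (r - δ) ^ 2) * hV'
      - 4 * z ^ 3 * U * r * (4 * z * U * (r + 2 * y) + (2 * q + 7 * δ) * q * (r - δ) ^ 2) * hdd
  subst hq hz hU
  refine arith_quintic hδ hy hr ?_
  rcases hδ with rfl | rfl <;> linear_combination hE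

end CfsgLib.JankoThompson
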