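import Cfsg.Agent.Lib.JankoThompson.CaseTools

/-!
Case (A): `P` lies on the principal pattern and gives the order of the small Ree groups.
-/

set_option autoImplicit false
set_option linter.unusedSectionVars false
set_option linter.style.haveILetI false

namespace CfsgLib.JankoThompson

open Cfsg CfsgLib CfsgLib.CharTheory

universe u v

namespace Cfg

variable {G : Type u} [Group G] [Fintype G] {L : Type v} [Group L] [Fintype L] {C : Cfg G L}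

set_option maxHeartbeats 1000000 in
theorem Conf1.caseA_delta {u v z : IrrCharacter G} {r s : Fin 2 → IrrCharacter G}
    (h : Conf1 C u v z r s) (uu : C.va u = 1 ∨ C.va u = -1) (uv : C.va v = 1 ∨ C.va v = -1)
    (Tu : (C.T u : ℚ) = (C.va u : ℚ) * (-((C.D.δ : ℚ) * C.D.q)))
    (Tv : (C.T v : ℚ) = (C.va v : ℚ) * (-((C.D.δ : ℚ) * C.D.q)))
    {U V W : ℚ} (hU : U = (C.va u : ℚ) * C.deg u) (hV : V = (C.va v : ℚ) * C.deg v)
    (hUe : U = -1 - V - W) (hVW : V = -((C.D.δ : ℚ) * C.D.q * W))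
    (hK : C.Kq = -(((C.D.q : ℚ) ^ 2 - 1) / ((C.D.q : ℚ) * W)))
    (hWval : W = -((C.D.q : ℚ) ^ 2 + C.D.δ * C.D.q + 1)) : C.D.δ = -1 := by
  classical
  refine C.D.hδ.resolve_left fun hd => ?_
  have hdq : (C.D.δ : ℚ) = 1 := by rw [hd]; simp
  obtain ⟨br, hbr⟩ : ∃ b, b = C.vb 0 (r 0) := ⟨_, rfl⟩
  obtain ⟨bs, hbs⟩ : ∃ b, b = C.vb 0 (s 0) := ⟨_, rfl⟩
  have ur : br = 1 ∨ br = -1 := hbr ▸ (h.sB 0).hc
  have us : bs = 1 ∨ bs = -1 := hbs ▸ (h.sB 0).hd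
  obtain ⟨R, hR⟩ : ∃ R : ℚ, R = (br : ℚ) * C.deg (r 0) := ⟨_, rfl⟩
  obtain ⟨S, hS⟩ : ∃ S : ℚ, S = (bs : ℚ) * C.deg (s 0) := ⟨_, rfl⟩
  rw [hdq] at hVW hWval
  have hsum : R + S = -((C.D.q : ℚ) * (C.D.q + 1)) := by
    have e := congrArg (fun n : ℤ => (n : ℚ)) (C.vb_deg 0)
    simp only [(h.sB 0).dot_eq, h.u_eq, h.v_eq, ← hbr, ← hbs] at e
    push_cast at e
    rw [← hU, ← hV, ← hR, ← hS, hUe] at e
    rw [hWval] at e
    linear_combination e
  obtain ⟨a, hTa⟩ : ∃ a : ℚ, a = (br : ℚ) * C.T (r 0) := ⟨_, rfl⟩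
  obtain ⟨b, hTb⟩ : ∃ b : ℚ, b = (bs : ℚ) * C.T (s 0) := ⟨_, rfl⟩
  have hTa' : (C.T (r 0) : ℚ) = br * a := by rw [hTa, ← mul_assoc, unit_sq ur, one_mul]
  have hTb' : (C.T (s 0) : ℚ) = bs * b := by rw [hTb, ← mul_assoc, unit_sq us, one_mul]
  have hab : a + b = -((C.D.q : ℚ) + 1) := by
    have e := congrArg (fun n : ℤ => (n : ℚ)) (C.vb_T 0)
    simp only [(h.sB 0).dot_eq, h.u_eq, h.v_eq, ← hbr, ← hbs] at e
    push_cast at e
    rw [← hTa, ← hTb, Tu, Tv, hdq] at e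
    linear_combination e + ((C.D.q : ℚ)) * (unit_sq uu : ((C.va u : ℚ)) * C.va u = 1) +
      ((C.D.q : ℚ)) * (unit_sq uv : ((C.va v : ℚ)) * C.va v = 1)
  have hw := C.wsum_vb 0
  rw [wsum, (h.sB 0).sum_eq, h.u_eq, h.v_eq, ← hbr, ← hbs, wterm uu Tu, wterm uv Tv, wterm ur hTa',
    wterm us hTb', ← hU, ← hV, ← hR, ← hS, hK, hdq] at hw
  have hq2 := C.two_le_q
  have hn : (C.D.q : ℚ) ^ 2 + C.D.q + 1 ≠ 0 := by nlinarith
  have hq1 : (C.D.q : ℚ) - 1 ≠ 0 := by linarith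
  have hUv : U = -(C.D.q : ℚ) ^ 3 := by rw [hUe, hVW, hWval]; ring
  have hVv : V = (C.D.q : ℚ) * ((C.D.q : ℚ) ^ 2 + C.D.q + 1) := by rw [hVW, hWval]; ring
  have hX : a ^ 2 / R + b ^ 2 / S = -(3 * ((C.D.q : ℚ) + 1) / ((C.D.q : ℚ) ^ 2 + C.D.q + 1)) := by
    have e1 : -(1 : ℚ) * (3 * C.D.q + 1) / ((C.D.q : ℚ) - 1) *
        -(((C.D.q : ℚ) ^ 2 - 1) / ((C.D.q : ℚ) * W)) -
        ((-(1 * (C.D.q : ℚ))) ^ 2 / U + (-(1 * (C.D.q : ℚ))) ^ 2 / V) =
        -(3 * ((C.D.q : ℚ) + 1) / ((C.D.q : ℚ) ^ 2 + C.D.q + 1)) := by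
      rw [hUv, hVv, hWval, one_mul (C.D.q : ℚ)]
      field_simp
      ring
    rw [← e1]
    linear_combination hw
  have hR0 : R ≠ 0 := hR ▸ C.unit_deg_ne ur _
  have hDr : (0 : ℚ) < C.deg (r 0) := Int.cast_pos.2 (C.deg_spec _).2
  have hDs : (0 : ℚ) < C.deg (s 0) := Int.cast_pos.2 (C.deg_spec _).2
  by_cases hbb : br = bs
  · rcases ur with e | e
    · rw [hR, hS, ← hbb, e] at hsum
      push_cast at hsum
      nlinarith
    · refine arith_caseA_neg hq2 ?_ ?_ hsum hab hX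
      · rw [hR, e]; push_cast; linarith
      · rw [hS, ← hbb, e]; push_cast; linarith
  · have hne : ∀ w, (w = r 0 ∨ w = s 0) → ∀ w' , (w' = r 0 ∨ w' = s 0) → C.vb 0 w' = C.vb 0 w → w' = w := by
      rintro w (rfl | rfl) w' (rfl | rfl) e <;> first | rfl |
        exact absurd (hbr.trans (e.trans hbs.symm)) hbb | exact absurd (hbr.trans (e.symm.trans hbs.symm)) hbb
    have huniq : ∀ w, (w = r 0 ∨ w = s 0) → C.va w = 0 → (C.vb 0 w = 1 ∨ C.vb 0 w = -1) →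
        ∀ χ', C.P χ' = 0 → C.deg χ' = C.deg w → C.va χ' = C.va w →
          (∀ i, C.vb i χ' = C.vb i w) → χ' = w := by
      intro w hw ha0 hb1 χ' _ _ ha' hb
      have : C.vb 0 χ' ≠ 0 := by rw [hb 0]; rcases hb1 with e | e <;> rw [e] <;> norm_num
      rcases (h.sB 0).cov χ' this with e | e | e | e
      · rw [e, ha0] at ha'; rcases uu with x | x <;> omega
      · rw [e, ha0] at ha'; rcases uv with x | x <;> omega
      · exact hne w hw χ' (Or.inl e) (hb 0)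
      · exact hne w hw χ' (Or.inr e) (hb 0)
    have Tr := C.T_of_unique (C.free_vb 0 (χ := r 0) (by rw [← hbr]; rcases ur with e | e <;> omega))
      (Or.inr (huniq _ (Or.inl rfl) (h.r_a 0) (h.sB 0).hc))
    have Ts := C.T_of_unique (C.free_vb 0 (χ := s 0) (by rw [← hbs]; rcases us with e | e <;> omega))
      (Or.inr (huniq _ (Or.inr rfl) (h.s_a 0) (h.sB 0).hd))
    rw [h.r_a, h.r_b 0 1 (by decide), ← hbr, hd] at Tr
    rw [h.s_a, h.s_b 0 1 (by decide), ← hbs, hd] at Ts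
    have ea : a = -(C.D.z : ℚ) := by
      rw [hTa, Tr]; push_cast; linear_combination (-(C.D.z : ℚ)) * (unit_sq ur : ((br : ℚ)) * br = 1)
    have eb : b = -(C.D.z : ℚ) := by
      rw [hTb, Ts]; push_cast; linear_combination (-(C.D.z : ℚ)) * (unit_sq us : ((bs : ℚ)) * bs = 1)
    rw [ea, eb, neg_sq] at hX
    refine arith_caseA_mix hq2 ?_ hsum hX
    rw [hR, hS]
    have hm : br * bs = -1 := by
      rcases ur with e | e <;> rcases us with e' | e' <;> rw [e, e'] at hbb ⊢ <;> simp at hbb ⊢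
    have hm' : (br : ℚ) * bs = -1 := by exact_mod_cast hm
    nlinarith [mul_pos hDr hDs]

set_option maxHeartbeats 1000000 in
theorem Conf1.caseA {u v z : IrrCharacter G} {r s : Fin 2 → IrrCharacter G}
    (h : Conf1 C u v z r s) (hv : C.P v = C.va v) (hz : C.P z = -C.va z) : C.Outcome := by
  classical
  have uv := h.sA.hb
  have uz := h.sA.hd
  have uu := h.sA.ha
  have hPv : C.P v ≠ 0 := by rw [hv]; rcases uv with e | e <;> rw [e] <;> norm_num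
  have hPz : C.P z ≠ 0 := by rw [hz]; rcases uz with e | e <;> rw [e] <;> norm_num
  have hvz : v ≠ z := h.sA.bd
  have hP0 : ∀ w, w ≠ v → w ≠ z → C.P w = 0 := fun w a b => C.P_zero_of_two hvz hPv hPz a b
  have fu : C.Free u := C.free_va (by rcases uu with e | e <;> rw [e] <;> norm_num)
  have fv : C.Free v := C.free_P hPv
  have fz : C.Free z := C.free_P hPz
  have hd2 : (C.D.δ : ℚ) * C.D.δ = 1 := unit_sq C.D.hδ
  have hq := C.q_eq
  have hzq := C.z_eq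
  have hT : ∀ w, w = u ∨ w = v → C.Free w →
      (C.P w ≠ 0 ∨ ∀ χ', C.P χ' = 0 → C.deg χ' = C.deg w → C.va χ' = C.va w →
        (∀ i, C.vb i χ' = C.vb i w) → χ' = w) →
      (C.T w : ℚ) = (C.va w : ℚ) * (-((C.D.δ : ℚ) * C.D.q)) := by
    intro w hw hf hu
    rw [C.T_of_unique hf hu]
    rcases hw with rfl | rfl
    · rw [h.u_eq, h.u_eq]; push_cast; rw [hq, hzq]; linear_combination ((C.va _ : ℚ) * -1) * hd2
    · rw [h.v_eq, h.v_eq]; push_cast; rw [hq, hzq]; linear_combination ((C.va _ : ℚ) * -1) * hd2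
  have Tv := hT v (Or.inr rfl) fv (Or.inl hPv)
  have Tu := hT u (Or.inl rfl) fu (Or.inr fun χ' hP _ ha hb => by
    have hne : C.va χ' ≠ 0 := by rw [ha]; rcases uu with e | e <;> rw [e] <;> norm_num
    rcases h.sA.cov χ' hne with e | e | e | e
    · exact e
    · exact absurd (e ▸ hP) hPv
    · have := hb 0
      rw [e, C.vb_one, h.u_eq] at this
      rcases uu with a | a <;> omega
    · exact absurd (e ▸ hP) hPz)
  have Tz : (C.T z : ℚ) = (C.va z : ℚ) * 1 := by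
    rw [C.T_of_unique fz (Or.inl hPz), h.z_b, h.z_b]; simp
  obtain ⟨W, hW⟩ : ∃ W : ℚ, W = (C.va z : ℚ) * C.deg z := ⟨_, rfl⟩
  obtain ⟨V, hV⟩ : ∃ V : ℚ, V = (C.va v : ℚ) * C.deg v := ⟨_, rfl⟩
  obtain ⟨U, hU⟩ : ∃ U : ℚ, U = (C.va u : ℚ) * C.deg u := ⟨_, rfl⟩
  have hW0 : W ≠ 0 := hW ▸ C.unit_deg_ne uz z
  have hV0 : V ≠ 0 := hV ▸ C.unit_deg_ne uv v
  have hU0 : U ≠ 0 := hU ▸ C.unit_deg_ne uu u
  have hQ : (C.Qv : ℚ) = W - V := by
    rw [C.deg_P_eq hvz hPv hPz, hv, hz, hW, hV]; push_cast; ring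
  have hQ0 : (C.Qv : ℚ) ≠ 0 := Int.cast_ne_zero.2 C.Qv_ne
  have hq0 : (C.D.q : ℚ) ≠ 0 := by linarith [C.two_le_q]
  have hwP := C.wsum_P_eq hvz hPv hPz
  rw [hv, hz, Int.cast_neg, neg_mul, wterm uv Tv, wterm uz Tz, ← hV, ← hW, hQ] at hwP
  rw [hQ] at hQ0
  have hVW : V = -((C.D.δ : ℚ) * C.D.q * W) := by
    field_simp at hwP
    have hz2 : 2 * (C.D.z : ℚ) = C.D.q + C.D.δ := by rw [hq, hzq]; ring
    have : (V + (C.D.δ : ℚ) * C.D.q * W) ^ 2 = 0 := by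
      linear_combination hwP - (V * W * (2 * C.D.z + C.D.q + C.D.δ)) * hz2 +
        (V * W * ((C.D.q : ℚ) ^ 2 - 1)) * hd2
    linarith [pow_eq_zero_iff (two_ne_zero) |>.1 this]
  have hK : C.Kq = -(((C.D.q : ℚ) ^ 2 - 1) / ((C.D.q : ℚ) * W)) := by
    have hK0 := C.K_eq
    rw [hQ, hVW] at hK0
    have hz2 : 2 * (C.D.z : ℚ) = C.D.q + C.D.δ := by rw [hq, hzq]; ring
    have hfac : ((C.D.q : ℚ) + C.D.δ) ≠ 0 := by
      rw [← hz2, hzq]; have := C.seven_le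
      have : (7 : ℚ) ≤ C.D.y := by exact_mod_cast this
      rcases C.δ_cases with e | e <;> rw [e] <;> linarith
    field_simp
    apply mul_left_cancel₀ hfac
    rcases C.δ_cases with e | e <;> rw [e] at hK0 hz2 ⊢
    · linear_combination hK0 + (-(2 * (C.D.z : ℚ) + C.D.q + 1) * ((C.D.q : ℚ) - 1)) * hz2
    · linear_combination -hK0 + (-(2 * (C.D.z : ℚ) + C.D.q - 1) * ((C.D.q : ℚ) + 1)) * hz2
  have hUe : U = -1 - V - W := by
    have e := congrArg (fun n : ℤ => (n : ℚ)) C.va_deg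
    simp only [h.sA.dot_eq, C.va_one, C.deg_one] at e
    push_cast at e
    rw [hU, hV, hW]; linarith
  have ha := C.wsum_va
  rw [wsum, h.sA.sum_eq, wterm uu Tu, wterm uv Tv, wterm uz Tz, C.va_one, C.T_one, C.deg_one, ← hU, ← hV,
    ← hW] at ha
  have hqW : (C.D.q : ℚ) * W ≠ C.D.δ := by
    intro e
    have h1 : ((C.D.q : ℤ) * (C.va z * C.deg z) : ℤ) = C.D.δ := by
      apply Int.cast_injective (α := ℚ); push_cast; rw [← hW]; exact e
    have h2 := congrArg Int.natAbs h1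
    rw [Int.natAbs_mul, Int.natAbs_natCast, show C.D.δ.natAbs = 1 by rcases C.D.hδ with a | a <;> rw [a] <;> rfl] at h2
    have := Nat.eq_one_of_mul_eq_one_right h2
    have h7 := C.seven_le
    have h3 := C.D.hq
    rcases C.D.hδ with a | a <;> rw [a] at h3 <;> omega
  have hWval : W = -((C.D.q : ℚ) ^ 2 + C.D.δ * C.D.q + 1) := by
    refine arith_caseA C.δ_cases C.two_le_q hW0 hqW hUe hU0 hVW hK ?_
    rw [← ha]; push_cast
    rcases C.δ_cases with e | e <;> rw [e] <;> ring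
  have hδ : C.D.δ = -1 := h.caseA_delta uu uv Tu Tv hU hV hUe hVW hK hWval
  refine ⟨hδ, ?_⟩
  have hG : (Nat.card G : ℚ) ≠ 0 := Nat.cast_ne_zero.2 Nat.card_pos.ne'
  have hL : 2 * (Nat.card L : ℚ) = (C.D.q : ℚ) * ((C.D.q : ℚ) ^ 2 - 1) := by exact_mod_cast C.D.card
  have hdq : (C.D.δ : ℚ) = -1 := by rw [hδ]; simp
  rw [hWval, hdq, Kq, show 4 * (Nat.card L : ℚ) ^ 2 = (2 * (Nat.card L : ℚ)) ^ 2 by ring, hL] at hK
  have hq2 := C.two_le_q
  have hn : (C.D.q : ℚ) ^ 2 + (-1) * C.D.q + 1 ≠ 0 := by nlinarith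
  apply Int.cast_injective (α := ℚ)
  push_cast
  have hn' : (C.D.q : ℚ) * ((C.D.q : ℚ) + -1) + 1 ≠ 0 := by nlinarith
  field_simp at hK
  have hq21 : (C.D.q : ℚ) ^ 2 - 1 ≠ 0 := by nlinarith
  apply mul_left_cancel₀ hq21
  linear_combination -hK

end Cfg

end CfsgLib.JankoThompson
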