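import Cfsg.Agent.Lib.JankoThompson.CaseTools

/-!
Case (B): impossible by a congruence modulo `y²`.
-/

set_option autoImplicit false
set_option linter.unusedSectionVars false
set_option linter.style.haveILetI false

namespace CfsgLib.JankoThompson

open Cfsg CfsgLib CfsgLib.CharTheory

universe u v

namespace Cfg

variable {G : Type u} [Group G] [Fintype G] {L : Type v} [Group L] [Fintype L] {C : Cfg G L}

set_option maxHeartbeats 1000000 in
theorem Conf1.caseB {u v z : IrrCharacter G} {r s : Fin 2 → IrrCharacter G}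
    (h : Conf1 C u v z r s) (hP : ∀ i, C.P (r i) = C.vb i (r i)) : False := by
  classical
  have uu := h.sA.ha
  have uv := h.sA.hb
  have uz := h.sA.hd
  have ur := fun i => (h.sB i).hc
  have us := (h.sB 0).hd
  have hPr : ∀ i, C.P (r i) ≠ 0 := fun i => by
    rw [hP i]; rcases ur i with e | e <;> rw [e] <;> norm_num
  have h01 : r 0 ≠ r 1 := fun e => by
    have := h.r_b 0 1 (by decide)
    rw [e] at this
    rcases ur 1 with a | a <;> omega
  have hzr : ∀ i, z ≠ r i := fun i e => by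
    have := h.r_a i
    rw [← e] at this
    rcases uz with a | a <;> omega
  have hPz : C.P z = 0 := C.P_zero_of_two h01 (hPr 0) (hPr 1) (hzr 0) (hzr 1)
  have hs1 : s 0 ≠ r 1 := fun e => by
    have := h.s_b 0 1 (by decide)
    rw [e] at this
    rcases ur 1 with a | a <;> omega
  have hd2 : (C.D.δ : ℚ) * C.D.δ = 1 := unit_sq C.D.hδ
  have Tr : ∀ i, (C.T (r i) : ℚ) = (C.vb i (r i) : ℚ) * (-((C.D.δ : ℚ) * C.D.z)) := fun i => by
    rw [C.T_of_unique (C.free_P (hPr i)) (Or.inl (hPr i)), h.r_a]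
    fin_cases i
    · simp [h.r_b 0 1 (by decide)]; ring
    · simp [h.r_b 1 0 (by decide)]; ring
  have Tz : C.T z = C.va z := by
    rw [C.T_of_unique (C.free_va (by rcases uz with e | e <;> rw [e] <;> norm_num))
      (Or.inr fun χ' _ hdeg ha hb => ?_), h.z_b, h.z_b]
    · simp
    have hne : C.va χ' ≠ 0 := by rw [ha]; rcases uz with e | e <;> rw [e] <;> norm_num
    rcases h.sA.cov χ' hne with e | e | e | e
    · have := hb 0
      rw [e, h.u_eq, h.z_b] at this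
      rcases uu with a | a <;> omega
    · have := hb 0
      rw [e, h.v_eq, h.z_b] at this
      rcases uv with a | a <;> omega
    · rw [e, C.deg_one] at hdeg
      exact absurd (C.eq_one_of_deg hdeg.symm).symm h.sA.cd
    · exact e
  have Ts : (C.T (s 0) : ℚ) = (C.vb 0 (s 0) : ℚ) * (-((C.D.δ : ℚ) * C.D.z)) := by
    rw [C.T_of_unique (C.free_vb 0 (by rcases us with e | e <;> rw [e] <;> norm_num))
      (Or.inr fun χ' hP' _ ha hb => ?_), h.s_a, h.s_b 0 1 (by decide)]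
    · push_cast; ring
    have hne : C.vb 0 χ' ≠ 0 := by rw [hb]; rcases us with e | e <;> rw [e] <;> norm_num
    rcases (h.sB 0).cov χ' hne with e | e | e | e
    · rw [e, h.s_a] at ha; rcases uu with a | a <;> omega
    · rw [e, h.s_a] at ha; rcases uv with a | a <;> omega
    · exact absurd (e ▸ hP') (hPr 0)
    · exact e
  obtain ⟨Z, hZ⟩ : ∃ Z : ℤ, Z = C.va z * C.deg z := ⟨_, rfl⟩
  obtain ⟨R, hR⟩ : ∃ R : ℤ, R = C.vb 0 (r 0) * C.deg (r 0) := ⟨_, rfl⟩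
  obtain ⟨S, hS⟩ : ∃ S : ℤ, S = C.vb 0 (s 0) * C.deg (s 0) := ⟨_, rfl⟩
  have hZq : (Z : ℚ) = (C.va z : ℚ) * C.deg z := by rw [hZ]; push_cast; rfl
  have hRq : (R : ℚ) = (C.vb 0 (r 0) : ℚ) * C.deg (r 0) := by rw [hR]; push_cast; rfl
  have hSq : (S : ℚ) = (C.vb 0 (s 0) : ℚ) * C.deg (s 0) := by rw [hS]; push_cast; rfl
  obtain ⟨R', hR'⟩ : ∃ R' : ℚ, R' = (C.vb 1 (r 1) : ℚ) * C.deg (r 1) := ⟨_, rfl⟩
  have hR0 : (R : ℚ) ≠ 0 := hRq ▸ C.unit_deg_ne (ur 0) _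
  have hR'0 : R' ≠ 0 := hR' ▸ C.unit_deg_ne (ur 1) _
  have hS0 : (S : ℚ) ≠ 0 := hSq ▸ C.unit_deg_ne us _
  have hZ0 : (Z : ℚ) ≠ 0 := hZq ▸ C.unit_deg_ne uz _
  have hQ : (C.Qv : ℚ) = -((R : ℚ) + R') := by
    rw [C.deg_P_eq h01 (hPr 0) (hPr 1), hP, hP, hRq, hR']
  have hQ0 : (C.Qv : ℚ) ≠ 0 := Int.cast_ne_zero.2 C.Qv_ne
  have hzpos : (C.D.z : ℚ) ≠ 0 := by
    obtain ⟨k, hk⟩ := C.Z_odd
    exact Nat.cast_ne_zero.2 (by omega)
  have hwP := C.wsum_P_eq h01 (hPr 0) (hPr 1)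
  rw [hP, hP, wterm (ur 0) (Tr 0), wterm (ur 1) (Tr 1), ← hRq, ← hR', hQ] at hwP
  rw [hQ] at hQ0
  have hRR : R' = (R : ℚ) := by
    have hs0 : (R : ℚ) + R' ≠ 0 := fun e => hQ0 (by rw [e, neg_zero])
    field_simp at hwP
    have : (R' - (R : ℚ)) ^ 2 = 0 := by
      linear_combination hwP + (-(R' + (R : ℚ)) ^ 2) * hd2
    exact sub_eq_zero.1 ((pow_eq_zero_iff two_ne_zero).1 this)
  have hq := C.q_eq
  have hzq := C.z_eq
  have hqd := C.qd_ne
  have hq0 : (C.D.q : ℚ) ≠ 0 := by linarith [C.two_le_q]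
  have hK : C.Kq = 2 * (C.D.δ : ℚ) * (C.D.z : ℚ) ^ 2 * ((C.D.q : ℚ) - C.D.δ) / ((C.D.q : ℚ) * R) := by
    have hK0 := C.K_eq
    rw [hQ, hRR] at hK0
    field_simp
    linear_combination (-1 / 2 : ℚ) * hK0
  have hsum : S = 1 + Z - R := by
    have e1 := C.va_deg
    have e2 := C.vb_deg 0
    rw [h.sA.dot_eq, C.va_one, C.deg_one, ← hZ] at e1
    rw [(h.sB 0).dot_eq, h.u_eq, h.v_eq, ← hR, ← hS] at e2
    linarith
  have heq : (Z + 1) * R * S = (C.D.z : ℤ) ^ 2 * Z * ((2 * C.D.δ * C.D.q + 7) * S + R) := by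
    have ha := C.wsum_va
    have hb := C.wsum_vb 0
    rw [wsum, h.sA.sum_eq, C.va_one, C.T_one, C.deg_one,
      wterm uz (show (C.T z : ℚ) = (C.va z : ℚ) * 1 by rw [Tz, mul_one]), ← hZq] at ha
    rw [wsum, (h.sB 0).sum_eq, h.u_eq, h.v_eq, wterm (ur 0) (Tr 0), wterm us Ts, ← hRq, ← hSq] at hb
    have e : 1 + 1 / (Z : ℚ) - (C.D.z : ℚ) ^ 2 / R - (C.D.z : ℚ) ^ 2 / S =
        (C.D.z : ℚ) ^ 2 * (2 * (C.D.δ : ℚ) * C.D.q + 6) / R := by
      have sq : ((-((C.D.δ : ℚ) * C.D.z)) ^ 2) = (C.D.z : ℚ) ^ 2 := by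
        linear_combination ((C.D.z : ℚ) ^ 2) * hd2
      rw [sq] at hb
      have hk : ((C.D.q : ℚ) + C.D.δ) * C.Kq -
          -(C.D.δ : ℚ) * (3 * C.D.q + C.D.δ) / ((C.D.q : ℚ) - C.D.δ) * C.Kq =
          (C.D.z : ℚ) ^ 2 * (2 * (C.D.δ : ℚ) * C.D.q + 6) / R := by
        rw [hK]
        field_simp
        rcases C.δ_cases with e | e <;> rw [e] <;> ring
      rw [← hk]
      push_cast at ha ⊢
      linear_combination ha - hb
    apply Int.cast_injective (α := ℚ)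
    push_cast
    field_simp at e
    linear_combination e
  have hZy : (C.D.y : ℤ) ∣ Z - 1 := by
    obtain ⟨M, hM⟩ := C.congr_free (C.free_va (χ := z) (by rcases uz with e | e <;> rw [e] <;> norm_num))
    rw [Tz, hPz, vn, h.z_b, h.z_b] at hM
    refine ⟨C.va z * M, ?_⟩
    rw [hZ]
    have hsq : C.va z * C.va z = 1 := by rcases uz with e | e <;> rw [e] <;> rfl
    linear_combination (C.va z) * hM + hsq
  have hRy : (C.D.y : ℤ) ∣ R - 3 := by
    obtain ⟨M, hM⟩ := C.congr_free (C.free_P (hPr 0))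
    have hT : C.T (r 0) = C.vb 0 (r 0) * -(C.D.δ * C.D.z) := by
      apply Int.cast_injective (α := ℚ)
      rw [Tr 0]; push_cast; ring
    rw [hT, hP, vn, h.r_a, h.r_b 0 1 (by decide)] at hM
    refine ⟨C.vb 0 (r 0) * M + 6 * C.D.δ, ?_⟩
    rw [hR]
    have hsq : C.vb 0 (r 0) * C.vb 0 (r 0) = 1 := by rcases ur 0 with e | e <;> rw [e] <;> rfl
    have hz := C.D.hz
    have hd : C.D.δ * C.D.δ = 1 := by rcases C.D.hδ with e | e <;> rw [e] <;> rfl
    linear_combination (C.vb 0 (r 0)) * hM + (3 * C.D.δ) * hz + 3 * hd +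
      (3 * C.D.δ * C.D.z) * hsq
  exact arith_caseB C.D.hδ (by exact_mod_cast C.D.hy) (by exact_mod_cast C.seven_le) C.D.hq C.D.hz hsum
    hZy hRy heq

end Cfg

end CfsgLib.JankoThompson
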