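import Cfsg.Agent.Lib.JankoThompson.CaseTools

/-!
Configuration (ii): impossible by a quintic.
-/

set_option autoImplicit false
set_option linter.unusedSectionVars false
set_option linter.style.haveILetI false

namespace CfsgLib.JankoThompson

open Cfsg CfsgLib CfsgLib.CharTheory

universe u v

namespace Cfg

variable {G : Type u} [Group G] [Fintype G] {L : Type v} [Group L] [Fintype L] {C : Cfg G L}
  {u v : IrrCharacter G} {r s : Fin 2 → IrrCharacter G}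

theorem Conf2.vb_v (h : Conf2 C u v r s) (i : Fin 2) : C.vb i v = C.vb 0 v := by
  fin_cases i
  exacts [rfl, h.v_eq]

theorem Conf2.T_v (h : Conf2 C u v r s) (hs : C.P v ≠ 0 ∨ C.P (s 0) ≠ 0) :
    (C.T v : ℚ) = (C.vb 0 v : ℚ) * (-(2 * (C.D.δ : ℚ) * C.D.z)) := by
  have uv := (h.sB 0).hb
  rw [C.T_of_unique (C.free_vb 0 (by rcases uv with e | e <;> rw [e] <;> norm_num))
    (hs.imp id fun hs0 χ' hP' _ ha hb => ?_), h.v_a, h.v_eq]
  · push_cast; ring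
  have hne : C.vb 0 χ' ≠ 0 := by rw [hb]; rcases uv with e | e <;> rw [e] <;> norm_num
  rcases (h.sB 0).cov χ' hne with e | e | e | e
  · rw [e, h.v_a] at ha; rcases h.sA.ha with a | a <;> omega
  · exact e
  · rw [e, h.v_a] at ha; rcases h.sA.hc with a | a <;> omega
  · exact absurd (e ▸ hP') hs0

theorem Conf2.false_v (h : Conf2 C u v r s) (hv : C.P v = C.vb 0 v) (hu : C.P u = 0)
    (hr : ∀ i, C.P (r i) = 0) (hs : ∀ i, C.P (s i) = 0) : False := by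
  classical
  have uv := (h.sB 0).hb
  have hPv : C.P v ≠ 0 := by rw [hv]; rcases uv with e | e <;> rw [e] <;> norm_num
  obtain ⟨x, hxv, hx⟩ : ∃ x, x ≠ v ∧ C.P x ≠ 0 := by
    by_contra hno
    push Not at hno
    have h2 := C.P_P
    rw [dotI, Finset.sum_eq_single v (fun w _ hw => by rw [hno w hw, mul_zero]) (by simp), hv] at h2
    rcases uv with e | e <;> rw [e] at h2 <;> omega
  have hxa : C.va x = 0 := by
    by_contra hne
    rcases h.sA.cov x hne with e | e | e | e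
    exacts [hx (e ▸ hu), hx (e ▸ C.P_one), hx (e ▸ hr 0), hx (e ▸ hr 1)]
  have hxb : ∀ i, C.vb i x = 0 := fun i => by
    by_contra hne
    rcases (h.sB i).cov x hne with e | e | e | e
    exacts [hx (e ▸ hu), hxv e, hx (e ▸ hr i), hx (e ▸ hs i)]
  have Tx : C.T x = 0 := by
    rw [C.T_of_unique (C.free_P hx) (Or.inl hx), hxa, hxb, hxb]; ring
  have hwP := C.wsum_P_eq hxv hx hPv
  rw [hv, Tx, wterm uv (h.T_v (Or.inl hPv)), C.deg_P_eq hxv hx hPv, hv] at hwP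
  have hV0 := C.unit_deg_ne uv v
  have hQ0 : (C.P x : ℚ) * C.deg x + (C.vb 0 v : ℚ) * C.deg v ≠ 0 := by
    have := (Int.cast_ne_zero (α := ℚ)).2 C.Qv_ne
    rw [C.deg_P_eq hxv hx hPv, hv] at this
    exact fun e => this (by rw [e, neg_zero])
  have hd2 : (C.D.δ : ℚ) * C.D.δ = 1 := unit_sq C.D.hδ
  obtain ⟨k, hk⟩ := C.Z_odd
  have hz : (C.D.z : ℚ) ≠ 0 := Nat.cast_ne_zero.2 (by omega)
  push_cast at hwP
  obtain ⟨V, hV⟩ : ∃ V : ℚ, V = (C.vb 0 v : ℚ) * C.deg v := ⟨_, rfl⟩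
  obtain ⟨X, hX⟩ : ∃ X : ℚ, X = (C.P x : ℚ) * C.deg x := ⟨_, rfl⟩
  rw [← hV] at hwP hV0 hQ0
  rw [← hX] at hwP hQ0
  have hX0 : X ≠ 0 := hX ▸ mul_ne_zero (Int.cast_ne_zero.2 hx) (C.deg_ne x)
  field_simp at hwP
  apply hX0
  have : (C.D.z : ℚ) ^ 2 * X = 0 := by
    rcases C.δ_cases with e | e <;> rw [e] at hwP <;> linear_combination (1 / 4 : ℚ) * hwP
  exact (mul_eq_zero.1 this).resolve_left (pow_ne_zero _ hz)

set_option maxHeartbeats 1000000 in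
theorem Conf2.false_s (h : Conf2 C u v r s) (hs : ∀ i, C.P (s i) = C.vb i (s i)) : False := by
  classical
  have uu := h.sA.ha
  have uv := (h.sB 0).hb
  have ua : ∀ i, C.va (r i) = 1 ∨ C.va (r i) = -1 := fun i => by
    fin_cases i
    exacts [h.sA.hc, h.sA.hd]
  have us := fun i => (h.sB i).hd
  have hPs : ∀ i, C.P (s i) ≠ 0 := fun i => by
    rw [hs i]; rcases us i with e | e <;> rw [e] <;> norm_num
  have h01 : s 0 ≠ s 1 := fun e => by
    have := h.s_b 0 1 (by decide)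
    rw [e] at this
    rcases us 1 with a | a <;> omega
  have hd2 : (C.D.δ : ℚ) * C.D.δ = 1 := unit_sq C.D.hδ
  have hq := C.q_eq
  have hzq := C.z_eq
  have Ts : ∀ i, (C.T (s i) : ℚ) = (C.vb i (s i) : ℚ) * (-((C.D.δ : ℚ) * C.D.z)) := fun i => by
    rw [C.T_of_unique (C.free_P (hPs i)) (Or.inl (hPs i)), h.s_a]
    fin_cases i
    · simp [h.s_b 0 1 (by decide)]; ring
    · simp [h.s_b 1 0 (by decide)]; ring
  have Tv := h.T_v (Or.inr (hPs 0))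
  have Tu : (C.T u : ℚ) = (C.va u : ℚ) * (-((C.D.δ : ℚ) * C.D.q)) := by
    rw [C.T_of_unique (C.free_va (by rcases uu with e | e <;> rw [e] <;> norm_num))
      (Or.inr fun χ' _ _ ha hb => ?_), h.u_eq, h.u_eq]
    · push_cast; rw [hq, hzq]; linear_combination ((C.va u : ℚ) * -1) * hd2
    have hne : C.va χ' ≠ 0 := by rw [ha]; rcases uu with e | e <;> rw [e] <;> norm_num
    rcases h.sA.cov χ' hne with e | e | e | e
    · exact e
    · have := hb 0; rw [e, C.vb_one, h.u_eq] at this; rcases uu with a | a <;> omega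
    · have := hb 1; rw [e, h.r_b 0 1 (by decide), h.u_eq] at this; rcases uu with a | a <;> omega
    · have := hb 0; rw [e, h.r_b 1 0 (by decide), h.u_eq] at this; rcases uu with a | a <;> omega
  have Tr : ∀ i, (C.T (r i) : ℚ) = (C.va (r i) : ℚ) * (-(2 * (C.D.δ : ℚ) * C.D.y)) := fun i => by
    obtain ⟨j, hij⟩ : ∃ j, i ≠ j := ⟨1 - i, by fin_cases i <;> decide⟩
    rw [C.T_of_unique (C.free_va (χ := r i) (by rcases ua i with e | e <;> rw [e] <;> norm_num))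
      (Or.inr fun χ' _ _ ha hb => ?_)]
    · have hsum : C.vb 0 (r i) + C.vb 1 (r i) = C.va (r i) := by
        rcases fin2_cases hij with ⟨rfl, rfl⟩ | ⟨rfl, rfl⟩
        · rw [h.r_eq 0, h.r_b 0 1 (by decide), add_zero]
        · rw [h.r_eq 1, h.r_b 1 0 (by decide), zero_add]
      rw [hsum]; push_cast; rw [hzq]; linear_combination ((C.va (r i) : ℚ) * -1) * hd2
    have hne : C.va χ' ≠ 0 := by rw [ha]; rcases ua i with e | e <;> rw [e] <;> norm_num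
    rcases h.sA.cov χ' hne with e | e | e | e
    · have := hb j; rw [e, h.u_eq, h.r_b i j hij] at this; rcases uu with a | a <;> omega
    · have := hb i; rw [e, C.vb_one, h.r_eq] at this; rcases ua i with a | a <;> omega
    · rcases fin2_cases hij with ⟨rfl, rfl⟩ | ⟨rfl, rfl⟩
      · exact e
      · have := hb 1; rw [e, h.r_b 0 1 (by decide), h.r_eq] at this; rcases ua 1 with a | a <;> omega
    · rcases fin2_cases hij with ⟨rfl, rfl⟩ | ⟨rfl, rfl⟩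
      · have := hb 0; rw [e, h.r_b 1 0 (by decide), h.r_eq] at this; rcases ua 0 with a | a <;> omega
      · exact e
  obtain ⟨U, hU⟩ : ∃ U : ℚ, U = (C.va u : ℚ) * C.deg u := ⟨_, rfl⟩
  obtain ⟨V, hV⟩ : ∃ V : ℚ, V = (C.vb 0 v : ℚ) * C.deg v := ⟨_, rfl⟩
  obtain ⟨R, hR⟩ : ∃ R : Fin 2 → ℚ, ∀ i, R i = (C.va (r i) : ℚ) * C.deg (r i) := ⟨_, fun _ => rfl⟩
  obtain ⟨S, hS⟩ : ∃ S : Fin 2 → ℚ, ∀ i, S i = (C.vb i (s i) : ℚ) * C.deg (s i) := ⟨_, fun _ => rfl⟩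
  have hU0 : U ≠ 0 := hU ▸ C.unit_deg_ne uu u
  have hV0 : V ≠ 0 := hV ▸ C.unit_deg_ne uv v
  have hS0 : ∀ i, S i ≠ 0 := fun i => hS i ▸ C.unit_deg_ne (us i) _
  have hR0 : ∀ i, R i ≠ 0 := fun i => hR i ▸ C.unit_deg_ne (ua i) _
  have hQ : (C.Qv : ℚ) = -(S 0 + S 1) := by
    rw [C.deg_P_eq h01 (hPs 0) (hPs 1), hs, hs, hS, hS]
  have hQ0 : (C.Qv : ℚ) ≠ 0 := Int.cast_ne_zero.2 C.Qv_ne
  obtain ⟨k, hk⟩ := C.Z_odd
  have hz0 : (C.D.z : ℚ) ≠ 0 := Nat.cast_ne_zero.2 (by omega)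
  have hSS : S 1 = S 0 := by
    have hwP := C.wsum_P_eq h01 (hPs 0) (hPs 1)
    rw [hs, hs, wterm (us 0) (Ts 0), wterm (us 1) (Ts 1), ← hS, ← hS, hQ] at hwP
    rw [hQ] at hQ0
    have hs0 : S 0 + S 1 ≠ 0 := fun e => hQ0 (by rw [e, neg_zero])
    have := hS0 0
    have := hS0 1
    field_simp at hwP
    have : (S 1 - S 0) ^ 2 = 0 := by linear_combination hwP + (-(S 1 + S 0) ^ 2) * hd2
    exact sub_eq_zero.1 ((pow_eq_zero_iff two_ne_zero).1 this)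
  have e0 := congrArg (fun n : ℤ => (n : ℚ)) (C.vb_deg 0)
  have e1 := congrArg (fun n : ℤ => (n : ℚ)) (C.vb_deg 1)
  have ea := congrArg (fun n : ℤ => (n : ℚ)) C.va_deg
  simp only [(h.sB 0).dot_eq, h.u_eq, h.r_eq] at e0
  simp only [(h.sB 1).dot_eq, h.u_eq, h.r_eq, h.v_eq] at e1
  simp only [h.sA.dot_eq, C.va_one, C.deg_one] at ea
  push_cast at e0 e1 ea
  rw [← hU, ← hV, ← hR, ← hS] at e0
  rw [← hU, ← hV, ← hR, ← hS] at e1
  rw [← hU, ← hR, ← hR] at ea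
  have hRR : R 1 = R 0 := by linarith
  obtain ⟨M, hM⟩ := C.congr_free (C.free_va (χ := r 0) (by rcases ua 0 with e | e <;> rw [e] <;> norm_num))
  have hPr0 : C.P (r 0) = 0 := by
    refine C.P_zero_of_two h01 (hPs 0) (hPs 1) (h.sB 0).cd fun e => ?_
    have := h.s_a 1
    rw [← e] at this
    rcases ua 0 with a | a <;> omega
  rw [hPr0, vn, h.r_eq 0, h.r_b 0 1 (by decide)] at hM
  obtain ⟨ρ, hρ⟩ : ∃ ρ : ℤ, R 0 = (C.D.y : ℚ) * ρ := by
    refine ⟨C.va (r 0) * M + 6 * C.D.δ, ?_⟩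
    have e := congrArg (fun n : ℤ => (n : ℚ)) hM
    push_cast at e
    rw [Tr 0] at e
    rw [hR 0]
    push_cast
    linear_combination (C.va (r 0) : ℚ) * e +
      (6 * (C.D.δ : ℚ) * C.D.y) * (unit_sq (ua 0) : (C.va (r 0) : ℚ) * C.va (r 0) = 1)
  have hy7 : (7 : ℚ) ≤ C.D.y := by exact_mod_cast C.seven_le
  have hy0 : (C.D.y : ℚ) ≠ 0 := by linarith
  have hρ0 : ρ ≠ 0 := fun e => hR0 0 (by rw [hρ, e, Int.cast_zero, mul_zero])
  obtain ⟨x, hx⟩ : ∃ x : ℚ, x = (ρ : ℚ) / 2 := ⟨_, rfl⟩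
  have hx0 : x ≠ 0 := by rw [hx]; exact div_ne_zero (Int.cast_ne_zero.2 hρ0) two_ne_zero
  have hRx : R 0 = 2 * (C.D.y : ℚ) * x := by rw [hρ, hx]; ring
  have hxb : 1 / 2 ≤ |x| := by
    have h1 : (1 : ℚ) ≤ |(ρ : ℚ)| := by exact_mod_cast Int.one_le_abs hρ0
    rw [hx, abs_div, abs_two]
    linarith
  have hK : C.Kq = 8 * (C.D.δ : ℚ) * (C.D.z : ℚ) ^ 2 * C.D.y / ((C.D.q : ℚ) * S 0) := by
    have hK0 := C.K_eq
    rw [hQ, hSS] at hK0
    have hq0 : (C.D.q : ℚ) ≠ 0 := by linarith [C.two_le_q]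
    have := hS0 0
    field_simp
    rw [hq] at hK0 ⊢
    linear_combination (-1 / 2 : ℚ) * hK0
  have ha := C.wsum_va
  rw [wsum, h.sA.sum_eq, wterm uu Tu, wterm (ua 0) (Tr 0), wterm (ua 1) (Tr 1), C.va_one, C.T_one,
    C.deg_one, ← hU, ← hR, ← hR, hRR, hRx, hK] at ha
  have hb := C.wsum_vb 0
  rw [wsum, (h.sB 0).sum_eq, h.u_eq, h.r_eq, wterm uu Tu, wterm uv Tv, wterm (ua 0) (Tr 0),
    wterm (us 0) (Ts 0), ← hU, ← hV, ← hR, ← hS, hRx, hK] at hb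
  have hUx : U = -1 - 4 * (C.D.y : ℚ) * x := by linarith
  have hVx : V = 1 + 2 * (C.D.y : ℚ) * x - S 0 := by linarith
  have hq0 : (C.D.q : ℚ) ≠ 0 := by linarith [C.two_le_q]
  have hS00 := hS0 0
  have hqd := C.qd_ne
  refine arith_caseC C.δ_cases hy7 hxb hq hzq hUx hU0 hVx hV0 (S := S 0) ?_ ?_
  · push_cast at ha
    field_simp at ha
    rw [hUx] at ha ⊢
    rw [hq, hzq] at ha
    rw [hq, hzq]
    apply mul_left_cancel₀ hy0
    rcases C.δ_cases with e | e <;> rw [e] at ha ⊢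
    · linear_combination (1 / 4 : ℚ) * ha
    · linear_combination (1 / 4 : ℚ) * ha
  · push_cast at ha hb
    have hk : ((C.D.q : ℚ) + C.D.δ) * (8 * (C.D.δ : ℚ) * (C.D.z : ℚ) ^ 2 * C.D.y / ((C.D.q : ℚ) * S 0)) -
        -(C.D.δ : ℚ) * (3 * C.D.q + C.D.δ) / ((C.D.q : ℚ) - C.D.δ) *
          (8 * (C.D.δ : ℚ) * (C.D.z : ℚ) ^ 2 * C.D.y / ((C.D.q : ℚ) * S 0)) =
        (C.D.z : ℚ) ^ 2 * (2 * (C.D.δ : ℚ) * C.D.q + 6) / S 0 := by
      have hq4 : 4 * (C.D.y : ℚ) + C.D.δ ≠ 0 := hq ▸ hq0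
      rw [hq, add_sub_cancel_right]
      field_simp
      rcases C.δ_cases with e | e <;> rw [e] <;> ring
    have e1 : (-(2 * (C.D.δ : ℚ) * C.D.y)) ^ 2 / (2 * (C.D.y : ℚ) * x) = 2 * (C.D.y : ℚ) / x := by
      field_simp
      linear_combination hd2
    have e2 : (-(2 * (C.D.δ : ℚ) * C.D.z)) ^ 2 / V = 4 * (C.D.z : ℚ) ^ 2 / V := by
      rcases C.δ_cases with e | e <;> rw [e] <;> ring
    have e3 : (-((C.D.δ : ℚ) * C.D.z)) ^ 2 / S 0 = (C.D.z : ℚ) ^ 2 / S 0 := by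
      rcases C.δ_cases with e | e <;> rw [e] <;> ring
    rw [e1] at ha hb
    rw [e2, e3] at hb
    have e4 : (C.D.z : ℚ) ^ 2 * (2 * (C.D.δ : ℚ) * C.D.q + 7) / S 0 =
        (C.D.z : ℚ) ^ 2 * (2 * (C.D.δ : ℚ) * C.D.q + 6) / S 0 + (C.D.z : ℚ) ^ 2 / S 0 := by ring
    rw [e4, ← hk]
    linear_combination ha - hb

end Cfg

end CfsgLib.JankoThompson
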