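import Cfsg.Agent.Lib.JankoThompson.Pattern
import Cfsg.Agent.Lib.JankoThompson.Arith

/-!
Tools for the cases, and the possible places of the vector `P`.
-/

set_option autoImplicit false
set_option linter.unusedSectionVars false
set_option linter.style.haveILetI false

namespace CfsgLib.JankoThompson

open Cfsg CfsgLib CfsgLib.CharTheory

universe u v

/-- A term of a weighted sum in aligned form. -/
theorem wterm {s T : ℤ} {c D : ℚ} (hs : s = 1 ∨ s = -1) (hT : (T : ℚ) = s * c) :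
    (s : ℚ) * ((T : ℚ) ^ 2 / D) = c ^ 2 / ((s : ℚ) * D) := by
  rcases hs with rfl | rfl <;> rw [hT] <;> push_cast <;> simp [div_neg]

theorem unit_mul_cases {s x : ℤ} (hs : s = 1 ∨ s = -1) (hx : x = 0 ∨ x = 1 ∨ x = -1) :
    (s * x = 0 ∨ s * x = 1 ∨ s * x = -1) ∧ (x = 0 ↔ s * x = 0) ∧ (s * x = 1 → x = s) ∧
      (s * x = -1 → x = -s) := by
  rcases hs with rfl | rfl <;> rcases hx with rfl | rfl | rfl <;> simp

theorem unit_sq {R : Type*} [CommRing R] {s : ℤ} (hs : s = 1 ∨ s = -1) : (s : R) * s = 1 := by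
  rcases hs with rfl | rfl <;> simp

theorem places_two {U V R0 R1 S0 S1 : ℤ} (aU : U = 0 ∨ U = 1 ∨ U = -1)
    (aV : V = 0 ∨ V = 1 ∨ V = -1) (a0 : R0 = 0 ∨ R0 = 1 ∨ R0 = -1) (a1 : R1 = 0 ∨ R1 = 1 ∨ R1 = -1)
    (hA : U + R0 + R1 = 0) (h0 : U + V + R0 + S0 = 1) (h1 : U + V + R1 + S1 = 1)
    (t1 : U = 0 ∨ V = 0 ∨ R0 = 0) (t2 : U = 0 ∨ V = 0 ∨ R1 = 0) (t3 : U = 0 ∨ R0 = 0 ∨ R1 = 0)
    (t4 : V = 0 ∨ R0 = 0 ∨ R1 = 0) (t5 : U = 0 ∨ R0 = 0 ∨ S0 = 0) (t6 : U = 0 ∨ R1 = 0 ∨ S0 = 0)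
    (t7 : U = 0 ∨ R0 = 0 ∨ S1 = 0) (t8 : U = 0 ∨ R1 = 0 ∨ S1 = 0) (t9 : R0 = 0 ∨ R1 = 0 ∨ S0 = 0)
    (t10 : R0 = 0 ∨ R1 = 0 ∨ S1 = 0) (t11 : V = 0 ∨ S0 = 0 ∨ S1 = 0) :
    (V = 1 ∧ U = 0 ∧ R0 = 0 ∧ R1 = 0 ∧ S0 = 0 ∧ S1 = 0) ∨
      (S0 = 1 ∧ S1 = 1 ∧ U = 0 ∧ V = 0 ∧ R0 = 0 ∧ R1 = 0) := by
  rcases aU with rfl | rfl | rfl <;> rcases a0 with rfl | rfl | rfl <;> rcases a1 with rfl | rfl | rfl <;>
    rcases aV with rfl | rfl | rfl <;> simp at hA t1 t2 t3 t4 t5 t6 t7 t8 t9 t10 t11 h0 h1 ⊢ <;> omega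

namespace Cfg

variable {G : Type u} [Group G] [Fintype G] {L : Type v} [Group L] [Fintype L] (C : Cfg G L)

/-- The conclusion of the case analysis. -/
def Outcome (C : Cfg G L) : Prop :=
  C.D.δ = -1 ∧ (Nat.card G : ℤ) = (C.D.q : ℤ) ^ 3 * ((C.D.q : ℤ) ^ 3 + 1) * ((C.D.q : ℤ) - 1)

theorem T_one : C.T (Blocks.oneIrr G) = 1 := by
  apply Int.cast_injective (α := ℂ)
  rw [← C.T_spec, Int.cast_one]
  rfl

theorem deg_one : C.deg (Blocks.oneIrr G) = 1 := by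
  apply Int.cast_injective (α := ℂ)
  rw [← (C.deg_spec _).1, Int.cast_one]
  rfl

theorem eq_one_of_deg {χ : IrrCharacter G} (h : C.deg χ = 1) : χ = Blocks.oneIrr G :=
  C.linear χ (by rw [(C.deg_spec χ).1, h, Int.cast_one])

theorem va_T : dotI C.va C.T = 2 * (1 - C.D.δ * C.D.q) := by
  apply Int.cast_injective (α := ℂ)
  rw [dotI, Int.cast_sum]
  simp only [Int.cast_mul, ← C.va_spec, ← C.T_spec]
  rw [C.sum_coef_t C.D.even_a, C.D.a_deg]
  push_cast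
  ring

theorem vb_T (i : Fin 2) : dotI (C.vb i) C.T = -(C.D.δ * (3 * C.D.q + C.D.δ)) := by
  apply Int.cast_injective (α := ℂ)
  rw [dotI, Int.cast_sum]
  simp only [Int.cast_mul, ← C.vb_spec, ← C.T_spec, mul_assoc, ← Finset.mul_sum]
  rw [C.sum_coef_t (C.D.even_b i), C.D.b_deg]
  push_cast
  ring

theorem q_eq : (C.D.q : ℚ) = 4 * C.D.y + C.D.δ := by exact_mod_cast C.D.hq

theorem z_eq : (C.D.z : ℚ) = 2 * C.D.y + C.D.δ := by exact_mod_cast C.D.hz

theorem two_le_q : (2 : ℚ) ≤ C.D.q := by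
  have := C.seven_le
  have h := C.D.hq
  have h2 : 2 ≤ C.D.q := by rcases C.D.hδ with e | e <;> rw [e] at h <;> omega
  exact_mod_cast h2

theorem δ_cases : (C.D.δ : ℚ) = 1 ∨ (C.D.δ : ℚ) = -1 := by
  rcases C.D.hδ with e | e <;> simp [e]

theorem deg_ne (χ : IrrCharacter G) : (C.deg χ : ℚ) ≠ 0 := Int.cast_ne_zero.2 (C.deg_spec χ).2.ne'

theorem unit_deg_ne {s : ℤ} (hs : s = 1 ∨ s = -1) (χ : IrrCharacter G) :
    (s : ℚ) * (C.deg χ : ℚ) ≠ 0 :=
  mul_ne_zero (by rcases hs with rfl | rfl <;> norm_num) (C.deg_ne χ)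

theorem P_entry (χ : IrrCharacter G) : C.P χ = 0 ∨ C.P χ = 1 ∨ C.P χ = -1 := by
  have h1 := Finset.single_le_sum (f := fun j => C.P j * C.P j) (fun j _ => mul_self_nonneg _)
    (Finset.mem_univ χ)
  rw [← dotI, C.P_P] at h1
  have ha : C.P χ ≤ 1 := by nlinarith
  have hb : -1 ≤ C.P χ := by nlinarith
  omega

theorem P_zero_of_two {x y : IrrCharacter G} (hxy : x ≠ y) (hx : C.P x ≠ 0) (hy : C.P y ≠ 0)
    {w : IrrCharacter G} (hwx : w ≠ x) (hwy : w ≠ y) : C.P w = 0 := by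
  classical
  by_contra hw
  have h := Finset.sum_le_sum_of_subset_of_nonneg (f := fun i => C.P i * C.P i)
    (Finset.subset_univ ({w, x, y} : Finset (IrrCharacter G))) (fun i _ _ => mul_self_nonneg _)
  rw [Finset.sum_insert (by simp [hwx, hwy]), Finset.sum_pair hxy, ← dotI, C.P_P] at h
  have h1 : 0 < C.P x * C.P x := mul_self_pos.2 hx
  have h2 : 0 < C.P y * C.P y := mul_self_pos.2 hy
  have h3 : 0 < C.P w * C.P w := mul_self_pos.2 hw
  omega

theorem sum_P {R : Type*} [CommRing R] {x y : IrrCharacter G} (hxy : x ≠ y) (hx : C.P x ≠ 0)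
    (hy : C.P y ≠ 0) (g : IrrCharacter G → R) :
    ∑ χ, (C.P χ : R) * g χ = C.P x * g x + C.P y * g y := by
  classical
  exact Finset.sum_eq_add x y hxy
    (fun w _ hw => by rw [C.P_zero_of_two hxy hx hy hw.1 hw.2, Int.cast_zero, zero_mul]) (by simp) (by simp)

theorem deg_P_eq {x y : IrrCharacter G} (hxy : x ≠ y) (hx : C.P x ≠ 0) (hy : C.P y ≠ 0) :
    (C.Qv : ℚ) = -((C.P x : ℚ) * C.deg x + (C.P y : ℚ) * C.deg y) := by
  have h : ((dotI C.deg C.P : ℤ) : ℚ) = -(C.Qv : ℚ) := by rw [C.P_deg]; push_cast; rfl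
  rw [← C.sum_P hxy hx hy (fun χ => (C.deg χ : ℚ)), ← neg_inj, neg_neg, ← h, dotI]
  push_cast
  exact Finset.sum_congr rfl fun χ _ => mul_comm _ _

theorem wsum_P_eq {x y : IrrCharacter G} (hxy : x ≠ y) (hx : C.P x ≠ 0) (hy : C.P y ≠ 0) :
    (C.P x : ℚ) * ((C.T x : ℚ) ^ 2 / C.deg x) + (C.P y : ℚ) * ((C.T y : ℚ) ^ 2 / C.deg y) =
      -(4 * (C.D.z : ℚ) ^ 2 / (C.Qv : ℚ)) := by
  rw [← C.wsum_P, wsum, C.sum_P hxy hx hy]

namespace Conf1

variable {C} {u v z : IrrCharacter G} {r s : Fin 2 → IrrCharacter G}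

theorem swap (h : Conf1 C u v z r s) : Conf1 C v u z r s :=
  ⟨h.sA.swap12, fun i => (h.sB i).swap12, h.v_eq, h.u_eq, h.z_b, h.r_a, h.s_a, h.r_b, h.s_b⟩

theorem choose_rs (h : Conf1 C u v z r s) (p : Fin 2 → Bool) :
    Conf1 C u v z (fun i => if p i then s i else r i) (fun i => if p i then r i else s i) := by
  refine ⟨h.sA, fun i => ?_, h.u_eq, h.v_eq, h.z_b, fun i => ?_, fun i => ?_, fun i j hij => ?_,
    fun i j hij => ?_⟩ <;> cases p i
  exacts [h.sB i, (h.sB i).swap34, h.r_a i, h.s_a i, h.s_a i, h.r_a i, h.r_b i j hij, h.s_b i j hij,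
    h.s_b i j hij, h.r_b i j hij]

/-- The two possible places of `P`. -/
theorem P_cases (h : Conf1 C u v z r s) :
    (∃ u' v', Conf1 C u' v' z r s ∧ C.P v' = C.va v' ∧ C.P z = -C.va z) ∨
      ∃ r' s', Conf1 C u v z r' s' ∧ ∀ i, C.P (r' i) = C.vb i (r' i) := by
  have hA := C.P_va
  rw [h.sA.dot_eq, C.P_one] at hA
  have hB : ∀ i, C.va u * C.P u + C.va v * C.P v + C.vb i (r i) * C.P (r i) +
      C.vb i (s i) * C.P (s i) = 1 := fun i => by
    rw [← C.P_vb i, (h.sB i).dot_eq, h.u_eq, h.v_eq]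
  have eu := unit_mul_cases h.sA.ha (C.P_entry u)
  have ev := unit_mul_cases h.sA.hb (C.P_entry v)
  have ez := unit_mul_cases h.sA.hd (C.P_entry z)
  have er := fun i => unit_mul_cases (h.sB i).hc (C.P_entry (r i))
  have es := fun i => unit_mul_cases (h.sB i).hd (C.P_entry (s i))
  have hdis : ∀ i, z ≠ r i ∧ z ≠ s i ∧ u ≠ r i ∧ u ≠ s i ∧ v ≠ r i ∧ v ≠ s i := fun i => by
    refine ⟨fun e => ?_, fun e => ?_, (h.sB i).ac, (h.sB i).ad, (h.sB i).bc, (h.sB i).bd⟩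
    · have := h.r_a i; rw [← e] at this
      rcases h.sA.hd with a | a <;> omega
    · have := h.s_a i; rw [← e] at this
      rcases h.sA.hd with a | a <;> omega
  by_cases hz : C.P z = 0
  · right
    rw [hz, mul_zero, mul_zero, add_zero, add_zero] at hA
    have hu : C.P u = 0 := by
      by_contra hu
      have hv : C.P v ≠ 0 := fun e => hu (eu.2.1.2 (by rw [e, mul_zero, add_zero] at hA; exact hA))
      have h0 := hB 0
      rw [C.P_zero_of_two h.sA.ab hu hv (hdis 0).2.2.1.symm (hdis 0).2.2.2.2.1.symm,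
        C.P_zero_of_two h.sA.ab hu hv (hdis 0).2.2.2.1.symm (hdis 0).2.2.2.2.2.symm] at h0
      omega
    have hv : C.P v = 0 := ev.2.1.2 (by rw [hu, mul_zero, zero_add] at hA; exact hA)
    have hB' : ∀ i, C.vb i (r i) * C.P (r i) + C.vb i (s i) * C.P (s i) = 1 := fun i => by
      have := hB i
      rw [hu, hv, mul_zero, mul_zero, zero_add, zero_add] at this
      exact this
    have hne : ∀ i j, i ≠ j → r i ≠ r j ∧ r i ≠ s j ∧ s i ≠ r j ∧ s i ≠ s j := fun i j hij => by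
      refine ⟨fun e => ?_, fun e => ?_, fun e => ?_, fun e => ?_⟩
      · have := h.r_b i j hij; rw [e] at this
        rcases (h.sB j).hc with a | a <;> omega
      · have := h.r_b i j hij; rw [e] at this
        rcases (h.sB j).hd with a | a <;> omega
      · have := h.s_b i j hij; rw [e] at this
        rcases (h.sB j).hc with a | a <;> omega
      · have := h.s_b i j hij; rw [e] at this
        rcases (h.sB j).hd with a | a <;> omega
    have hone : ∀ i j, i ≠ j → C.P (r i) = 0 ∨ C.P (s i) = 0 := fun i j hij => by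
      by_contra hh
      push Not at hh
      have := hB' j
      rw [C.P_zero_of_two (h.sB i).cd hh.1 hh.2 (hne i j hij).1.symm (hne i j hij).2.2.1.symm,
        C.P_zero_of_two (h.sB i).cd hh.1 hh.2 (hne i j hij).2.1.symm (hne i j hij).2.2.2.symm] at this
      omega
    refine ⟨_, _, h.choose_rs fun i => decide (C.P (r i) = 0), fun i => ?_⟩
    have := hB' i
    by_cases hr : C.P (r i) = 0
    · simp only [hr, decide_true, if_true]
      rw [hr, mul_zero, zero_add] at this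
      exact (es i).2.2.1 this
    · simp only [hr, decide_false, Bool.false_eq_true, if_false]
      have hs : C.P (s i) = 0 := (hone i (1 - i) (by fin_cases i <;> decide)).resolve_left hr
      rw [hs, mul_zero, add_zero] at this
      exact (er i).2.2.1 this
  · left
    rw [mul_zero, add_zero] at hA
    have hz' : C.va z * C.P z ≠ 0 := fun e => hz (ez.2.1.2 e)
    have h0 := hB 0
    by_cases hu : C.P u = 0
    · have hv : C.P v ≠ 0 := fun e => by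
        rw [hu, e, mul_zero, mul_zero, zero_add, zero_add] at hA
        exact hz' hA
      rw [hu, mul_zero, zero_add, C.P_zero_of_two h.sA.bd.symm hz hv (hdis 0).1.symm (hdis 0).2.2.2.2.1.symm,
        C.P_zero_of_two h.sA.bd.symm hz hv (hdis 0).2.1.symm (hdis 0).2.2.2.2.2.symm,
        mul_zero, mul_zero, add_zero, add_zero] at h0
      rw [hu, mul_zero, zero_add, h0] at hA
      exact ⟨u, v, h, ev.2.2.1 h0, ez.2.2.2 (by omega)⟩
    · have hv : C.P v = 0 := C.P_zero_of_two h.sA.ad.symm hz hu h.sA.bd h.sA.ab.symm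
      rw [hv, mul_zero, add_zero, C.P_zero_of_two h.sA.ad.symm hz hu (hdis 0).1.symm (hdis 0).2.2.1.symm,
        C.P_zero_of_two h.sA.ad.symm hz hu (hdis 0).2.1.symm (hdis 0).2.2.2.1.symm,
        mul_zero, mul_zero, add_zero, add_zero] at h0
      rw [hv, mul_zero, add_zero, h0] at hA
      exact ⟨v, u, h.swap, eu.2.2.1 h0, ez.2.2.2 (by omega)⟩

end Conf1

namespace Conf2

variable {C} {u v : IrrCharacter G} {r s : Fin 2 → IrrCharacter G}

/-- The places of `P`. -/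
theorem P_cases (h : Conf2 C u v r s) :
    (C.P v = C.vb 0 v ∧ C.P u = 0 ∧ (∀ i, C.P (r i) = 0) ∧ ∀ i, C.P (s i) = 0) ∨
      ((∀ i, C.P (s i) = C.vb i (s i)) ∧ C.P u = 0 ∧ C.P v = 0 ∧ ∀ i, C.P (r i) = 0) := by
  have hA := C.P_va
  rw [h.sA.dot_eq, C.P_one, mul_zero, add_zero] at hA
  have hv : ∀ i, C.vb i v = C.vb 0 v := fun i => by fin_cases i; exacts [rfl, h.v_eq]
  have hB : ∀ i, C.va u * C.P u + C.vb 0 v * C.P v + C.va (r i) * C.P (r i) +
      C.vb i (s i) * C.P (s i) = 1 := fun i => by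
    rw [← C.P_vb i, (h.sB i).dot_eq, h.u_eq, h.r_eq, hv i]
  have h0 := hB 0
  have h1 := hB 1
  obtain ⟨au, bu, -, -⟩ := unit_mul_cases h.sA.ha (C.P_entry u)
  obtain ⟨av, bv, cv, -⟩ := unit_mul_cases (h.sB 0).hb (C.P_entry v)
  obtain ⟨a0, b0, -, -⟩ := unit_mul_cases h.sA.hc (C.P_entry (r 0))
  obtain ⟨a1, b1, -, -⟩ := unit_mul_cases h.sA.hd (C.P_entry (r 1))
  obtain ⟨c0, d0, e0, -⟩ := unit_mul_cases (h.sB 0).hd (C.P_entry (s 0))
  obtain ⟨c1, d1, e1, -⟩ := unit_mul_cases (h.sB 1).hd (C.P_entry (s 1))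
  have z1 : s 0 ≠ s 1 := fun e => by
    have := h.s_b 0 1 (by decide); rw [e] at this
    rcases (h.sB 1).hd with a | a <;> omega
  have z2 : r 0 ≠ s 1 := fun e => by
    have := h.r_b 0 1 (by decide); rw [e] at this
    rcases (h.sB 1).hd with a | a <;> omega
  have z3 : r 1 ≠ s 0 := fun e => by
    have := h.r_b 1 0 (by decide); rw [e] at this
    rcases (h.sB 0).hd with a | a <;> omega
  have two : ∀ x y w : IrrCharacter G, x ≠ y → w ≠ x → w ≠ y → C.P x = 0 ∨ C.P y = 0 ∨ C.P w = 0 :=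
    fun x y w hxy hx hy => by
      by_contra hh
      push Not at hh
      exact hh.2.2 (C.P_zero_of_two hxy hh.1 hh.2.1 hx hy)
  have t1 := two u v (r 0) (h.sB 0).ab (h.sB 0).ac.symm (h.sB 0).bc.symm
  have t2 := two u v (r 1) (h.sB 0).ab (h.sB 1).ac.symm (h.sB 1).bc.symm
  have t3 := two u (r 0) (r 1) h.sA.ac h.sA.ad.symm h.sA.cd.symm
  have t4 := two v (r 0) (r 1) (h.sB 0).bc (h.sB 1).bc.symm h.sA.cd.symm
  have t5 := two u (r 0) (s 0) h.sA.ac (h.sB 0).ad.symm (h.sB 0).cd.symm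
  have t6 := two u (r 1) (s 0) h.sA.ad (h.sB 0).ad.symm z3.symm
  have t7 := two u (r 0) (s 1) h.sA.ac (h.sB 1).ad.symm z2.symm
  have t8 := two u (r 1) (s 1) h.sA.ad (h.sB 1).ad.symm (h.sB 1).cd.symm
  have t9 := two (r 0) (r 1) (s 0) h.sA.cd (h.sB 0).cd.symm z3.symm
  have t10 := two (r 0) (r 1) (s 1) h.sA.cd z2.symm (h.sB 1).cd.symm
  have t11 := two v (s 0) (s 1) (h.sB 0).bd (h.sB 1).bd.symm z1.symm
  rw [bu, b0, b1] at t3
  rw [bu, bv, b0] at t1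
  rw [bu, bv, b1] at t2
  rw [bv, b0, b1] at t4
  rw [bu, b0, d0] at t5
  rw [bu, b1, d0] at t6
  rw [bu, b0, d1] at t7
  rw [bu, b1, d1] at t8
  rw [b0, b1, d0] at t9
  rw [b0, b1, d1] at t10
  rw [bv, d0, d1] at t11
  have key : (C.vb 0 v * C.P v = 1 ∧ C.va u * C.P u = 0 ∧ C.va (r 0) * C.P (r 0) = 0 ∧
      C.va (r 1) * C.P (r 1) = 0 ∧ C.vb 0 (s 0) * C.P (s 0) = 0 ∧ C.vb 1 (s 1) * C.P (s 1) = 0) ∨
      (C.vb 0 (s 0) * C.P (s 0) = 1 ∧ C.vb 1 (s 1) * C.P (s 1) = 1 ∧ C.va u * C.P u = 0 ∧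
      C.vb 0 v * C.P v = 0 ∧ C.va (r 0) * C.P (r 0) = 0 ∧ C.va (r 1) * C.P (r 1) = 0) := by
    exact places_two au av a0 a1 hA h0 h1 t1 t2 t3 t4 t5 t6 t7 t8 t9 t10 t11
  rcases key with ⟨k1, k2, k3, k4, k5, k6⟩ | ⟨k1, k2, k3, k4, k5, k6⟩
  · exact Or.inl ⟨cv k1, bu.2 k2, fun i => by fin_cases i; exacts [b0.2 k3, b1.2 k4],
      fun i => by fin_cases i; exacts [d0.2 k5, d1.2 k6]⟩
  · exact Or.inr ⟨fun i => by fin_cases i; exacts [e0 k1, e1 k2], bu.2 k3, bv.2 k4,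
      fun i => by fin_cases i; exacts [b0.2 k5, b1.2 k6]⟩

end Conf2

end Cfg

end CfsgLib.JankoThompson
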