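import Cfsg.Agent.Lib.JankoThompson.CaseA
import Cfsg.Agent.Lib.JankoThompson.CaseB
import Cfsg.Agent.Lib.JankoThompson.CaseC

/-!
The local configuration forces `δ = -1` and the order of the small Ree groups.
-/

set_option autoImplicit false

namespace CfsgLib.JankoThompson

universe u v

theorem Cfg.outcome {G : Type u} [Group G] [Fintype G] {L : Type v} [Group L] [Fintype L]
    (C : Cfg G L) : C.Outcome := by
  rcases C.exists_conf with ⟨u, v, z, r, s, h⟩ | ⟨u, v, r, s, h⟩
  · rcases h.P_cases with ⟨u', v', h', hv, hz⟩ | ⟨r', s', h', hP⟩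
    · exact h'.caseA hv hz
    · exact (h'.caseB hP).elim
  · rcases h.P_cases with ⟨hv, hu, hr, hs⟩ | ⟨hs, -, -, -⟩
    · exact (h.false_v hv hu hr hs).elim
    · exact (h.false_s hs).elim

end CfsgLib.JankoThompson
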