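import Cfsg.Agent.Lib.JankoThompson.Interface
import Cfsg.Agent.Lib.BSW.PairCount

/-!
The coefficient vectors of the class functions supported on the section of `t`.
-/

set_option autoImplicit false
set_option linter.unusedSectionVars false
set_option linter.style.haveILetI false

namespace CfsgLib.JankoThompson

open Cfsg CfsgLib CfsgLib.CharTheory
open scoped ComplexConjugate

universe u v

/-- The group of order two. -/
abbrev M2 : Type := Multiplicative (ZMod 2)

/-- The homomorphism from the group of order two given by an element of square one. -/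
def twoHom {M : Type*} [Monoid M] (x : M) (h : x * x = 1) : M2 →* M where
  toFun i := x ^ (Multiplicative.toAdd i).val
  map_one' := pow_zero x
  map_mul' i j := by
    rw [← pow_add, toAdd_mul, ZMod.val_add,
      ← pow_eq_pow_mod _ (show x ^ 2 = 1 by rw [pow_two, h])]

@[simp] theorem twoHom_zero {M : Type*} [Monoid M] (x : M) (h : x * x = 1) :
    twoHom x h (Multiplicative.ofAdd 0) = 1 := pow_zero x

@[simp] theorem twoHom_one {M : Type*} [Monoid M] (x : M) (h : x * x = 1) :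
    twoHom x h (Multiplicative.ofAdd 1) = x := pow_one x

/-- The sign of the group of order two. -/
noncomputable def sgn : M2 →* ℂˣ := twoHom (-1) (by simp)

theorem sum_M2 {A : Type*} [AddCommMonoid A] (f : M2 → A) :
    ∑ i : M2, f i = f (Multiplicative.ofAdd 0) + f (Multiplicative.ofAdd 1) := by
  rw [← Equiv.sum_comp (Multiplicative.ofAdd : ZMod 2 ≃ M2) f]
  exact Fin.sum_univ_two fun i : Fin 2 => f (Multiplicative.ofAdd i)

theorem M2_cases (i : M2) : i = Multiplicative.ofAdd 0 ∨ i = Multiplicative.ofAdd 1 := by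
  revert i
  decide

namespace Cfg

variable {G : Type u} [Group G] [Fintype G] {L : Type v} [Group L] [Fintype L] (C : Cfg G L)

theorem t_sq : C.t * C.t = 1 := by rw [← pow_two, ← C.t_ord, pow_orderOf_eq_one]

theorem t_ne : C.t ≠ 1 := fun h => C.t_not 1 (by rw [map_one, h])

theorem t_inv : C.t⁻¹ = C.t := inv_eq_of_mul_eq_one_right C.t_sq

/-- `(i, l) ↦ tⁱ l`. -/
def ΦC : M2 × L →* G :=
  (twoHom C.t C.t_sq).noncommCoprod C.E fun _ l => (C.E_comm l).pow_left _

theorem ΦC_zero (l : L) : C.ΦC (Multiplicative.ofAdd 0, l) = C.E l := by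
  show twoHom C.t C.t_sq (Multiplicative.ofAdd 0) * C.E l = _
  rw [twoHom_zero, one_mul]

theorem ΦC_one (l : L) : C.ΦC (Multiplicative.ofAdd 1, l) = C.t * C.E l := by
  show twoHom C.t C.t_sq (Multiplicative.ofAdd 1) * C.E l = _
  rw [twoHom_one]

theorem ΦC_cases (i : M2) (l : L) : C.ΦC (i, l) = C.E l ∨ C.ΦC (i, l) = C.t * C.E l := by
  rcases M2_cases i with rfl | rfl
  · exact Or.inl (C.ΦC_zero l)
  · exact Or.inr (C.ΦC_one l)

theorem tE_ne_E (l l' : L) : C.t * C.E l ≠ C.E l' := fun h =>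
  C.t_not (l' * l⁻¹) (by rw [map_mul, map_inv, ← h, mul_inv_cancel_right])

theorem ΦC_inj : Function.Injective C.ΦC := by
  rintro ⟨i, l⟩ ⟨j, m⟩ h
  rcases M2_cases i with rfl | rfl <;> rcases M2_cases j with rfl | rfl
  · have h' : C.E l = C.E m := by simpa only [ΦC_zero] using h
    rw [C.E_inj h']
  · exact absurd ((C.ΦC_zero l).symm.trans (h.trans (C.ΦC_one m))).symm (C.tE_ne_E m l)
  · exact absurd ((C.ΦC_one l).symm.trans (h.trans (C.ΦC_zero m))) (C.tE_ne_E l m)
  · have h' : C.t * C.E l = C.t * C.E m := (C.ΦC_one l).symm.trans (h.trans (C.ΦC_one m))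
    rw [C.E_inj (mul_left_cancel h')]

theorem commute_ΦC (p : M2 × L) : Commute (C.ΦC p) C.t := by
  rcases C.ΦC_cases p.1 p.2 with h | h
  · rw [show C.ΦC p = _ from h]; exact (C.E_comm _).symm
  · rw [show C.ΦC p = _ from h]; exact (Commute.refl C.t).mul_left (C.E_comm _).symm

theorem exists_ΦC {g : G} (hg : Commute g C.t) : ∃ p, C.ΦC p = g := by
  obtain ⟨l, h | h⟩ := C.cent g hg
  · exact ⟨(Multiplicative.ofAdd 0, l), by rw [ΦC_zero, h]⟩
  · exact ⟨(Multiplicative.ofAdd 1, l), by rw [ΦC_one, h]⟩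

/-- Raising `t x` to an odd multiple of the order of `x` gives `t`. -/
theorem pow_tE {x : L} {m : ℕ} (hm : Odd m) (hx : orderOf x ∣ m) : (C.t * C.E x) ^ m = C.t := by
  obtain ⟨k, rfl⟩ := hm
  rw [(C.E_comm x).mul_pow, ← map_pow, orderOf_dvd_iff_pow_eq_one.1 hx, map_one, mul_one, pow_succ,
    pow_mul, pow_two, C.t_sq, one_pow, one_mul]

theorem conj_tE {x x' : L} (hx : Odd (orderOf x)) (hx' : Odd (orderOf x')) {g : G}
    (h : g * (C.t * C.E x) * g⁻¹ = C.t * C.E x') : Commute g C.t := by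
  have e : g * (C.t * C.E x) ^ (orderOf x * orderOf x') * g⁻¹ =
      (C.t * C.E x') ^ (orderOf x * orderOf x') := by rw [← conj_pow, h]
  rw [C.pow_tE (hx.mul hx') (dvd_mul_right _ _), C.pow_tE (hx.mul hx') (dvd_mul_left _ _)] at e
  exact mul_inv_eq_iff_eq_mul.1 e

/-- Conjugation between two elements of the section of `t` happens in the centraliser. -/
theorem card_transporter {x x' : L} (hx : Odd (orderOf x)) (hx' : Odd (orderOf x')) :
    Nat.card {g : G // g * (C.t * C.E x) * g⁻¹ = C.t * C.E x'} =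
      2 * Nat.card {l : L // l * x * l⁻¹ = x'} := by
  have hmk : ∀ (p : M2 × L), p.2 * x * p.2⁻¹ = x' →
      C.ΦC p * (C.t * C.E x) * (C.ΦC p)⁻¹ = C.t * C.E x' := by
    intro p hp
    rw [← C.ΦC_one x, ← C.ΦC_one x', ← map_inv, ← map_mul, ← map_mul]
    refine congrArg C.ΦC (Prod.ext ?_ hp)
    show p.1 * Multiplicative.ofAdd 1 * p.1⁻¹ = Multiplicative.ofAdd 1
    rw [mul_comm p.1, mul_inv_cancel_right]
  have e : Nat.card (M2 × {l : L // l * x * l⁻¹ = x'}) =
      Nat.card {g : G // g * (C.t * C.E x) * g⁻¹ = C.t * C.E x'} := by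
    refine Nat.card_congr (Equiv.ofBijective (fun p => ⟨C.ΦC (p.1, p.2.1), hmk (p.1, p.2.1) p.2.2⟩) ⟨?_, ?_⟩)
    · intro p p' h
      obtain ⟨h1, h2⟩ := Prod.ext_iff.1 (C.ΦC_inj (Subtype.ext_iff.1 h))
      exact Prod.ext h1 (Subtype.ext h2)
    · rintro ⟨g, hg⟩
      obtain ⟨⟨i, l⟩, rfl⟩ := C.exists_ΦC (C.conj_tE hx hx' hg)
      refine ⟨(i, ⟨l, ?_⟩), rfl⟩
      rw [← C.ΦC_one x, ← C.ΦC_one x', ← map_inv, ← map_mul, ← map_mul] at hg
      exact (congrArg Prod.snd (C.ΦC_inj hg) :)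
  rw [← e, Nat.card_prod]
  simp [M2]

/-- The coefficient of a class function of `L` on an irreducible character of `G`. -/
noncomputable def coef (φ : L → ℂ) (χ : G → ℂ) : ℂ :=
  (Nat.card L : ℂ)⁻¹ * ∑ x : L, φ x * conj (χ (C.t * C.E x))

theorem cardL_ne : (Nat.card L : ℂ) ≠ 0 := Nat.cast_ne_zero.2 Nat.card_pos.ne'

theorem coef_add (φ ψ : L → ℂ) (χ : G → ℂ) : C.coef (φ + ψ) χ = C.coef φ χ + C.coef ψ χ := by
  simp only [coef, Pi.add_apply, add_mul, Finset.sum_add_distrib, mul_add]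

theorem coef_smul (r : ℂ) (φ : L → ℂ) (χ : G → ℂ) : C.coef (r • φ) χ = r * C.coef φ χ := by
  simp only [coef, Pi.smul_apply, smul_eq_mul, mul_assoc, ← Finset.mul_sum]
  ring

theorem coef_sum {ι : Type*} (s : Finset ι) (f : ι → L → ℂ) (χ : G → ℂ) :
    C.coef (fun x => ∑ i ∈ s, f i x) χ = ∑ i ∈ s, C.coef (f i) χ := by
  simp only [coef, Finset.sum_mul, Finset.mul_sum]
  exact Finset.sum_comm

/-- The coefficients of a generalised character are integers. -/
theorem coef_int {φ : L → ℂ} (hφ : IsGeneralizedCharacter L φ) (χ : IrrCharacter G) :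
    ∃ n : ℤ, C.coef φ (χ : G → ℂ) = n := by
  classical
  have hsgn : IsGeneralizedCharacter (M2 × L) (fun p => (1 : ℂ) - (sgn p.1 : ℂ)) :=
    isGenChar_sub (isGenChar_of_char isCharacter_one)
      (isGenChar_of_char (isCharacter_of_irr (isIrrCharacter_linear (sgn.comp (MonoidHom.fst M2 L)))))
  obtain ⟨a, b, ha, hb, rfl⟩ := hφ
  have hW : IsGeneralizedCharacter (M2 × L) (fun p => ((1 : ℂ) - (sgn p.1 : ℂ)) * (a p.2 - b p.2)) :=
    isGenChar_mul hsgn ⟨fun p => a p.2, fun p => b p.2,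
      isCharacter_comp ha (MonoidHom.snd M2 L), isCharacter_comp hb (MonoidHom.snd M2 L), rfl⟩
  have hχ : IsCharacter (M2 × L) (fun p => (χ : G → ℂ) (C.ΦC p)) :=
    isCharacter_comp (isCharacter_of_irr χ.2) C.ΦC
  obtain ⟨w₁, w₂, h₁, h₂, hw⟩ := hW
  obtain ⟨n, hn⟩ := classInner_char_nat h₁ hχ
  obtain ⟨m, hm⟩ := classInner_char_nat h₂ hχ
  refine ⟨(n : ℤ) - m, ?_⟩
  push_cast
  rw [← hn, ← hm, ← classInner_sub_left, ← hw]
  simp only [classInner, coef, Fintype.sum_prod_type, sum_M2, ΦC_zero, ΦC_one, sgn, twoHom_zero,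
    twoHom_one, Units.val_one, Units.val_neg, sub_self, zero_mul, Finset.sum_const_zero, zero_add]
  rw [Nat.card_prod, show Nat.card M2 = 2 by simp [M2], Finset.mul_sum, Finset.mul_sum]
  refine Finset.sum_congr rfl fun x _ => ?_
  rw [Pi.sub_apply]
  push_cast
  have := cardL_ne (L := L)
  field_simp
  ring

/-- A sum over conjugating elements of a class function. -/
theorem sum_card_conj {ψ : L → ℂ} (hψ : IsClassFunction L ψ) (x : L) :
    ∑ x' : L, ψ x' * (Nat.card {l : L // l * x * l⁻¹ = x'} : ℂ) = Nat.card L * ψ x := by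
  classical
  have h : ∀ x', (Nat.card {l : L // l * x * l⁻¹ = x'} : ℂ) =
      ∑ l : L, if l * x * l⁻¹ = x' then (1 : ℂ) else 0 := fun x' => by
    rw [Nat.card_eq_fintype_card, Fintype.card_subtype, Finset.sum_boole]
  simp only [h, Finset.mul_sum, mul_ite, mul_one, mul_zero]
  rw [Finset.sum_comm]
  simp [hψ x, Nat.card_eq_fintype_card]

theorem sum_irr_eq_card (g h : G) :
    ∑ χ : IrrCharacter G, (χ : G → ℂ) g * conj ((χ : G → ℂ) h) =
      (Nat.card {z : G // z * g * z⁻¹ = h} : ℂ) := by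
  classical
  rw [sum_irr_mul_conj g h]
  split_ifs with hc
  · obtain ⟨c, hc⟩ := isConj_iff.1 hc
    congr 1
    refine Nat.card_congr (Equiv.subtypeEquiv (Equiv.mulLeft c) fun z => ?_)
    rw [Subgroup.mem_centralizer_singleton_iff, Equiv.coe_mulLeft, ← hc]
    constructor
    · intro e
      calc c * z * g * (c * z)⁻¹ = c * (z * g) * z⁻¹ * c⁻¹ := by group
        _ = c * g * c⁻¹ := by rw [e]; group
    · intro e
      calc z * g = c⁻¹ * (c * z * g * (c * z)⁻¹) * c * z := by group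
        _ = g * z := by rw [e]; group
  · haveI : IsEmpty {z : G // z * g * z⁻¹ = h} := ⟨fun z => hc (isConj_iff.2 ⟨z, z.2⟩)⟩
    rw [Nat.card_of_isEmpty, Nat.cast_zero]

/-- Linear combinations of the columns at `g`. -/
theorem sum_coef_mul_apply (φ : L → ℂ) (g : G) :
    ∑ χ : IrrCharacter G, C.coef φ (χ : G → ℂ) * (χ : G → ℂ) g = (Nat.card L : ℂ)⁻¹ *
      ∑ x : L, φ x * (Nat.card {z : G // z * g * z⁻¹ = C.t * C.E x} : ℂ) := by
  have hx : ∀ x : L, φ x * (Nat.card {z : G // z * g * z⁻¹ = C.t * C.E x} : ℂ) =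
      ∑ χ : IrrCharacter G, φ x * conj ((χ : G → ℂ) (C.t * C.E x)) * (χ : G → ℂ) g := fun x => by
    rw [← sum_irr_eq_card, Finset.mul_sum]
    exact Finset.sum_congr rfl fun χ _ => by ring
  simp only [hx, coef, Finset.mul_sum, Finset.sum_mul]
  rw [Finset.sum_comm]
  exact Finset.sum_congr rfl fun x _ => Finset.sum_congr rfl fun χ _ => by ring

theorem not_isConj_of_odd {x : L} (hx : x ≠ 1) (hx' : Odd (orderOf x)) (g : G)
    (hg : g * g = 1) (z : G) : z * g * z⁻¹ ≠ C.t * C.E x := fun h => by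
  have e : (C.t * C.E x) * (C.t * C.E x) = 1 := by
    rw [← h, show z * g * z⁻¹ * (z * g * z⁻¹) = z * (g * g) * z⁻¹ by group, hg]; group
  rw [← pow_two, (C.E_comm x).mul_pow, pow_two C.t, C.t_sq, one_mul, ← map_pow,
    ← map_one C.E] at e
  have := orderOf_dvd_of_pow_eq_one (C.E_inj e)
  rcases (Nat.dvd_prime Nat.prime_two).1 this with h1 | h1
  · exact hx (orderOf_eq_one_iff.1 h1)
  · rw [h1] at hx'; exact absurd hx' (by decide)

variable {φ ψ : L → ℂ} (hφ : ∀ x : L, Even (orderOf x) → φ x = 0)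

include hφ in
/-- The columns are orthogonal to the degrees. -/
theorem sum_coef_deg : ∑ χ : IrrCharacter G, C.coef φ (χ : G → ℂ) * (χ : G → ℂ) 1 = 0 := by
  rw [C.sum_coef_mul_apply]
  refine mul_eq_zero_of_right _ (Finset.sum_eq_zero fun x _ => ?_)
  haveI : IsEmpty {z : G // z * 1 * z⁻¹ = C.t * C.E x} := ⟨fun z => C.t_not x⁻¹ (by
    have h : C.t * C.E x = 1 := by rw [← z.2]; group
    rw [map_inv, ← eq_inv_iff_mul_eq_one.2 h])⟩
  rw [Nat.card_of_isEmpty, Nat.cast_zero, mul_zero]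

include hφ in
/-- The value of a column combination at `t`. -/
theorem sum_coef_t : ∑ χ : IrrCharacter G, C.coef φ (χ : G → ℂ) * (χ : G → ℂ) C.t = 2 * φ 1 := by
  classical
  rw [C.sum_coef_mul_apply, Finset.sum_eq_single (1 : L)]
  · have h1 : Nat.card {z : G // z * C.t * z⁻¹ = C.t * C.E 1} = 2 * Nat.card L := by
      have := C.card_transporter (x := 1) (x' := 1) (by simp) (by simp)
      simp only [map_one, mul_one, mul_inv_cancel] at this ⊢
      rw [this, Nat.card_congr (Equiv.subtypeUnivEquiv fun _ => trivial)]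
    rw [h1]
    push_cast
    have := cardL_ne (L := L)
    field_simp
  · intro x _ hx
    rcases Nat.even_or_odd (orderOf x) with h | h
    · rw [hφ x h, zero_mul]
    · haveI : IsEmpty {z : G // z * C.t * z⁻¹ = C.t * C.E x} :=
        ⟨fun z => C.not_isConj_of_odd hx h C.t C.t_sq z z.2⟩
      rw [Nat.card_of_isEmpty, Nat.cast_zero, mul_zero]
  · intro h
    exact absurd (Finset.mem_univ _) h

include hφ in
/-- The columns form an isometry up to the factor two. -/
theorem sum_coef_mul (hψ : ∀ x : L, Even (orderOf x) → ψ x = 0) (hψc : IsClassFunction L ψ) :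
    ∑ χ : IrrCharacter G, C.coef φ (χ : G → ℂ) * conj (C.coef ψ (χ : G → ℂ)) =
      2 * classInner φ ψ := by
  classical
  have hs : ∑ χ : IrrCharacter G, C.coef φ (χ : G → ℂ) * conj (C.coef ψ (χ : G → ℂ)) =
      (Nat.card L : ℂ)⁻¹ * ((Nat.card L : ℂ)⁻¹ * ∑ x : L, ∑ x' : L, φ x * conj (ψ x') *
        ∑ χ : IrrCharacter G, (χ : G → ℂ) (C.t * C.E x') * conj ((χ : G → ℂ) (C.t * C.E x))) := by
    have h1 : ∀ χ : IrrCharacter G, C.coef φ (χ : G → ℂ) * conj (C.coef ψ (χ : G → ℂ)) =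
        ∑ x : L, ∑ x' : L, (Nat.card L : ℂ)⁻¹ * ((Nat.card L : ℂ)⁻¹ * (φ x * conj (ψ x') *
          ((χ : G → ℂ) (C.t * C.E x') * conj ((χ : G → ℂ) (C.t * C.E x))))) := by
      intro χ
      simp only [coef, map_mul, map_inv₀, map_natCast, map_sum, Complex.conj_conj, Finset.mul_sum,
        Finset.sum_mul]
      rw [Finset.sum_comm]
      exact Finset.sum_congr rfl fun x _ => Finset.sum_congr rfl fun x' _ => by ring
    rw [Finset.sum_congr rfl fun χ _ => h1 χ, Finset.sum_comm]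
    simp only [Finset.mul_sum]
    exact Finset.sum_congr rfl fun x _ => Finset.sum_comm
  rw [hs, classInner, Finset.mul_sum, Finset.mul_sum, Finset.mul_sum, Finset.mul_sum]
  refine Finset.sum_congr rfl fun x _ => ?_
  rcases Nat.even_or_odd (orderOf x) with hx | hx
  · simp [hφ x hx]
  have key : ∀ x' : L, φ x * conj (ψ x') * ∑ χ : IrrCharacter G,
        (χ : G → ℂ) (C.t * C.E x') * conj ((χ : G → ℂ) (C.t * C.E x)) =
      φ x * 2 * (conj (ψ x') * (Nat.card {l : L // l * x' * l⁻¹ = x} : ℂ)) := by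
    intro x'
    rcases Nat.even_or_odd (orderOf x') with hx' | hx'
    · simp [hψ x' hx']
    rw [sum_irr_eq_card, C.card_transporter hx' hx]
    push_cast
    ring
  rw [Finset.sum_congr rfl fun x' _ => key x', ← Finset.mul_sum]
  have hcc : ∀ x' : L, (Nat.card {l : L // l * x' * l⁻¹ = x} : ℂ) =
      (Nat.card {l : L // l * x * l⁻¹ = x'} : ℂ) := fun x' => by
    congr 1
    refine Nat.card_congr (Equiv.subtypeEquiv (Equiv.inv L) fun l => ?_)
    show _ ↔ l⁻¹ * x * l⁻¹⁻¹ = x'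
    constructor <;> intro h <;> rw [← h] <;> group
  simp only [hcc]
  rw [sum_card_conj (ψ := fun a => conj (ψ a)) (fun a b => congrArg conj (hψc a b))]
  have := cardL_ne (L := L)
  field_simp

theorem coef_oneIrr (φ : L → ℂ) :
    C.coef φ (Blocks.oneIrr G : G → ℂ) = classInner φ (fun _ => 1) := rfl

/-- The square of the order of the centraliser of `t` over the order of the group. -/
noncomputable def K (_C : Cfg G L) : ℂ := 4 * (Nat.card L : ℂ) ^ 2 / Nat.card G

include C in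
theorem K_ne : C.K ≠ 0 :=
  div_ne_zero (mul_ne_zero (by norm_num) (pow_ne_zero _ cardL_ne))
    (Nat.cast_ne_zero.2 Nat.card_pos.ne')

/-- The involutions. -/
noncomputable def invs (G : Type u) [Group G] [Fintype G] : Finset G :=
  Finset.univ.filter fun u => orderOf u = 2

theorem mem_invs {u : G} : u ∈ invs G ↔ u * u = 1 ∧ u ≠ 1 := by
  rw [invs, Finset.mem_filter, and_iff_right (Finset.mem_univ _), orderOf_eq_prime_iff]
  rw [pow_two]

include C in
theorem card_invs : ((invs G).card : ℂ) * (2 * Nat.card L) = Nat.card G := by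
  classical
  have h1 : Nat.card {x : G // IsConj C.t x} = (invs G).card := by
    rw [← Nat.card_eq_finsetCard]
    refine Nat.card_congr (Equiv.subtypeEquivRight fun x => ?_)
    rw [mem_invs]
    constructor
    · intro hx
      obtain ⟨g, rfl⟩ := isConj_iff.1 hx
      refine ⟨?_, fun e => C.t_ne (conj_eq_one_iff.1 e)⟩
      rw [show g * C.t * g⁻¹ * (g * C.t * g⁻¹) = g * (C.t * C.t) * g⁻¹ by group, C.t_sq]; group
    · rintro ⟨h, h'⟩
      exact isConj_iff.2 (C.all_conj x (orderOf_eq_prime (by rw [pow_two, h]) h'))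
  have h2 : Nat.card (Subgroup.centralizer ({C.t} : Set G)) = 2 * Nat.card L := by
    have e : Nat.card (M2 × L) = Nat.card (Subgroup.centralizer ({C.t} : Set G)) :=
      Nat.card_congr (Equiv.ofBijective
        (fun p => ⟨C.ΦC p, Subgroup.mem_centralizer_singleton_iff.2 (C.commute_ΦC p).eq⟩)
        ⟨fun p p' h => C.ΦC_inj (Subtype.ext_iff.1 h), fun g => by
          obtain ⟨p, hp⟩ := C.exists_ΦC (Subgroup.mem_centralizer_singleton_iff.1 g.2)
          exact ⟨p, Subtype.ext hp⟩⟩)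
    rw [← e, Nat.card_prod]
    simp [M2]
  have := card_isConj_mul_card_centralizer (G := G) C.t
  rw [h1, h2] at this
  rw [← this]
  push_cast
  ring

theorem sum_invs_irr (χ : IrrCharacter G) :
    ∑ u ∈ invs G, (χ : G → ℂ) u = (invs G).card * (χ : G → ℂ) C.t := by
  rw [Finset.sum_congr rfl (g := fun _ => (χ : G → ℂ) C.t), Finset.sum_const, nsmul_eq_mul]
  intro u hu
  obtain ⟨g, rfl⟩ := C.all_conj u (Finset.mem_filter.1 hu).2
  exact isClassFunction_irr χ.2 _ _

/-- The class algebra constant of two classes of involutions. -/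
theorem sum_sq_div (g : G) :
    ∑ χ : IrrCharacter G, (χ : G → ℂ) C.t ^ 2 * conj ((χ : G → ℂ) g) / (χ : G → ℂ) 1 =
      C.K * (Nat.card {u : G // u ∈ invs G ∧ u⁻¹ * g ∈ invs G} : ℂ) := by
  classical
  have h := BSW.card_pairs (invs G) (fun u hu k => by
    rw [invs, Finset.mem_filter] at hu ⊢
    exact ⟨Finset.mem_univ _, (orderOf_injective (MulAut.conj k).toMonoidHom
      (MulAut.conj k).injective u).trans hu.2⟩) g
  simp only [C.sum_invs_irr, mul_pow] at h
  have h2 : ∑ χ : IrrCharacter G,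
      ((invs G).card : ℂ) ^ 2 * (χ : G → ℂ) C.t ^ 2 * conj ((χ : G → ℂ) g) / (χ : G → ℂ) 1 =
      ((invs G).card : ℂ) ^ 2 * ∑ χ : IrrCharacter G,
        (χ : G → ℂ) C.t ^ 2 * conj ((χ : G → ℂ) g) / (χ : G → ℂ) 1 := by
    rw [Finset.mul_sum]
    exact Finset.sum_congr rfl fun χ _ => by ring
  rw [h2] at h
  have hc := C.card_invs
  have hG : (Nat.card G : ℂ) ≠ 0 := Nat.cast_ne_zero.2 Nat.card_pos.ne'
  have hi : ((invs G).card : ℂ) ≠ 0 := fun e => hG (by rw [← hc, e, zero_mul])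
  have hcount : Nat.card {u : G // u ∈ invs G ∧ u⁻¹ * g ∈ invs G} =
      ((invs G).filter fun u => u⁻¹ * g ∈ invs G).card := by
    rw [← Nat.card_eq_finsetCard]
    exact Nat.card_congr (Equiv.subtypeEquivRight fun u => by rw [Finset.mem_filter])
  rw [hcount, K]
  field_simp
  have hi2 : ((invs G).card : ℂ) ^ 2 * ((4 : ℂ) * (Nat.card L : ℂ) ^ 2) = (Nat.card G : ℂ) ^ 2 := by
    rw [← hc]; ring
  apply mul_left_cancel₀ (pow_ne_zero 2 hi)
  linear_combination (Nat.card G : ℂ) * (-h) -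
    ((((invs G).filter fun u => u⁻¹ * g ∈ invs G).card : ℂ)) * hi2

/-- The number of factorisations into two involutions on the section of `t`. -/
theorem card_pairs_tE {x : L} (hx : Odd (orderOf x)) :
    Nat.card {u : G // u ∈ invs G ∧ u⁻¹ * (C.t * C.E x) ∈ invs G} = 2 * invCount x := by
  have hlx : ∀ l : L, l * l = 1 → (l * x * l⁻¹ = x⁻¹ ↔ (l * x) * (l * x) = 1) := fun l hl => by
    have : l⁻¹ = l := inv_eq_of_mul_eq_one_right hl
    rw [this, ← mul_assoc (l * x) l x, mul_eq_one_iff_eq_inv]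
  have hmk : ∀ p : M2 × L, orderOf p.2 = 2 → p.2 * x * p.2⁻¹ = x⁻¹ →
      C.ΦC p ∈ invs G ∧ (C.ΦC p)⁻¹ * (C.t * C.E x) ∈ invs G := by
    intro p hl hlinv
    obtain ⟨hl2, hl1⟩ := (mem_invs (G := L)).1 (by rw [invs, Finset.mem_filter]; exact ⟨Finset.mem_univ _, hl⟩)
    have hl' : p.2⁻¹ = p.2 := inv_eq_of_mul_eq_one_right hl2
    have hp : p * p = 1 := Prod.ext (by
      show p.1 * p.1 = 1
      rcases M2_cases p.1 with h | h <;> rw [h] <;> rfl) hl2
    refine ⟨mem_invs.2 ⟨by rw [← map_mul, hp, map_one], fun e => hl1 ?_⟩, ?_⟩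
    · exact (congrArg Prod.snd (C.ΦC_inj (e.trans (map_one C.ΦC).symm)) :)
    rw [← map_inv, ← C.ΦC_one x, ← map_mul, mem_invs, ← map_mul, ← map_one C.ΦC]
    refine ⟨congrArg C.ΦC (Prod.ext ?_ ?_), fun e => ?_⟩
    · show p.1⁻¹ * Multiplicative.ofAdd 1 * (p.1⁻¹ * Multiplicative.ofAdd 1) = 1
      rcases M2_cases p.1 with h | h <;> rw [h] <;> decide
    · show p.2⁻¹ * x * (p.2⁻¹ * x) = 1
      rw [hl']; exact (hlx _ hl2).1 hlinv
    · have e2 : p.2⁻¹ * x = 1 := (congrArg Prod.snd (C.ΦC_inj e) :)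
      rw [inv_mul_eq_one] at e2
      rw [← e2, hl] at hx
      exact absurd hx (by decide)
  have e : Nat.card (M2 × {l : L // orderOf l = 2 ∧ l * x * l⁻¹ = x⁻¹}) =
      Nat.card {u : G // u ∈ invs G ∧ u⁻¹ * (C.t * C.E x) ∈ invs G} := by
    refine Nat.card_congr (Equiv.ofBijective
      (fun p => ⟨C.ΦC (p.1, p.2.1), hmk (p.1, p.2.1) p.2.2.1 p.2.2.2⟩) ⟨?_, ?_⟩)
    · intro p p' h
      obtain ⟨h1, h2⟩ := Prod.ext_iff.1 (C.ΦC_inj (Subtype.ext_iff.1 h))
      exact Prod.ext h1 (Subtype.ext h2)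
    · rintro ⟨u, hu, hug⟩
      obtain ⟨hu2, hu1⟩ := mem_invs.1 hu
      obtain ⟨hg2, hg1⟩ := mem_invs.1 hug
      have hu' : u⁻¹ = u := inv_eq_of_mul_eq_one_right hu2
      rw [hu'] at hg2 hg1
      have hinv : u * (C.t * C.E x) * u⁻¹ = (C.t * C.E x)⁻¹ := by
        rw [hu', eq_inv_iff_mul_eq_one, mul_assoc (u * (C.t * C.E x))]
        exact hg2
      rw [_root_.mul_inv_rev, ← map_inv, C.t_inv, ← (C.E_comm x⁻¹).eq] at hinv
      obtain ⟨⟨i, l⟩, rfl⟩ := C.exists_ΦC (C.conj_tE hx (by rwa [orderOf_inv]) hinv)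
      have hl2 : l * l = 1 :=
        (congrArg Prod.snd (C.ΦC_inj (show C.ΦC ((i, l) * (i, l)) = C.ΦC 1 by
          rw [map_mul, hu2, map_one])) :)
      rw [← C.ΦC_one x, ← C.ΦC_one x⁻¹, ← map_inv, ← map_mul, ← map_mul] at hinv
      have hlinv : l * x * l⁻¹ = x⁻¹ := (congrArg Prod.snd (C.ΦC_inj hinv) :)
      have hl1 : l ≠ 1 := by
        rintro rfl
        rw [one_mul, inv_one, mul_one] at hlinv
        have hx1 : x = 1 := by
          have h2 := orderOf_dvd_of_pow_eq_one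
            (show x ^ 2 = 1 by rw [pow_two]; nth_rw 1 [hlinv]; exact inv_mul_cancel x)
          rcases (Nat.dvd_prime Nat.prime_two).1 h2 with h | h
          · exact orderOf_eq_one_iff.1 h
          · rw [h] at hx; exact absurd hx (by decide)
        subst hx1
        rcases C.ΦC_cases i 1 with h | h
        · exact hu1 (h.trans (map_one C.E))
        · rw [h, map_one, mul_one] at hg1
          exact hg1 C.t_sq
      exact ⟨(i, ⟨l, orderOf_eq_prime (by rw [pow_two, hl2]) hl1, hlinv⟩), rfl⟩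
  rw [← e, Nat.card_prod]
  simp [M2, invCount]

include hφ in
/-- The weighted sum of a column. -/
theorem sum_coef_weight :
    ∑ χ : IrrCharacter G, C.coef φ (χ : G → ℂ) * ((χ : G → ℂ) C.t ^ 2 / (χ : G → ℂ) 1) =
      C.K * ((Nat.card L : ℂ)⁻¹ * ∑ x : L, φ x * (2 * invCount x : ℕ)) := by
  have hx : ∀ x : L, C.K * (φ x * ((2 * invCount x : ℕ) : ℂ)) =
      ∑ χ : IrrCharacter G, φ x * conj ((χ : G → ℂ) (C.t * C.E x)) *
        ((χ : G → ℂ) C.t ^ 2 / (χ : G → ℂ) 1) := by
    intro x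
    rcases Nat.even_or_odd (orderOf x) with hx | hx
    · simp [hφ x hx]
    rw [← C.card_pairs_tE hx, mul_left_comm, ← C.sum_sq_div, Finset.mul_sum]
    exact Finset.sum_congr rfl fun χ _ => by ring
  rw [mul_left_comm, Finset.mul_sum (Finset.univ : Finset L) _ C.K, Finset.sum_congr rfl fun x _ => hx x]
  simp only [coef, Finset.mul_sum, Finset.sum_mul]
  rw [Finset.sum_comm]
  exact Finset.sum_congr rfl fun x _ => Finset.sum_congr rfl fun χ _ => by ring

end Cfg

end CfsgLib.JankoThompson
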