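import Cfsg.Agent.Lib.JankoThompson.Coef

/-!
The vectors of the class functions supported on the conjugates of `V × Y#`.
-/

set_option autoImplicit false
set_option linter.unusedSectionVars false
set_option linter.style.haveILetI false

namespace CfsgLib.JankoThompson

open Cfsg CfsgLib CfsgLib.CharTheory
open scoped ComplexConjugate

universe u v

/-- The four-group. -/
abbrev V4 : Type := M2 × M2

/-- The element `t` of the four-group. -/
def pt : V4 := (Multiplicative.ofAdd 1, 1)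

/-- The cycle of the involutions. -/
def tau (p : V4) : V4 := (p.2, p.1 * p.2)

/-- The involution with index `k`. -/
def vIdx (k : Fin 3) : V4 := (tau^[(k : ℕ)]) pt

/-- The characters of the four-group. -/
def mu : Option (Fin 3) → V4 → ℤ
  | none, _ => 1
  | some k, p => if p = 1 ∨ p = vIdx k then 1 else -1

/-- The action of the cycle on the characters. -/
def muStep : Option (Fin 3) → Option (Fin 3)
  | none => none
  | some k => some (k + 2)

theorem mu_tau : ∀ (μ : Option (Fin 3)) (p : V4), mu μ (tau p) = mu (muStep μ) p := by decide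

theorem mu_tau_iterate (k : ℕ) (μ : Option (Fin 3)) (p : V4) :
    mu μ (tau^[k] p) = mu (muStep^[k] μ) p := by
  induction k generalizing μ with
  | zero => rfl
  | succ k ih => rw [Function.iterate_succ_apply', mu_tau, ih, Function.iterate_succ_apply]

theorem mu_mul : ∀ (μ : Option (Fin 3)) (p p' : V4), mu μ (p * p') = mu μ p * mu μ p' := by decide

theorem mu_one : ∀ μ : Option (Fin 3), mu μ 1 = 1 := by decide

theorem mu_orth : ∀ μ μ' : Option (Fin 3),
    ∑ p : V4, mu μ p * mu μ' p = if μ = μ' then 4 else 0 := by decide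

theorem mu_col : ∀ p p' : V4, ∑ μ : Option (Fin 3), mu μ p * mu μ p' = if p = p' then 4 else 0 := by
  decide

theorem mu_pt : ∀ μ : Option (Fin 3),
    mu μ pt = match μ with | none => 1 | some k => if k = 0 then 1 else -1 := by decide

theorem exists_tau_pt : ∀ p : V4, p ≠ 1 → ∃ k : Fin 3, tau^[(k : ℕ)] pt = p := by decide

/-- The linear character of the four-group. -/
noncomputable def muHom (μ : Option (Fin 3)) : V4 →* ℂˣ where
  toFun p := if mu μ p = 1 then 1 else -1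
  map_one' := if_pos (mu_one μ)
  map_mul' p p' := by
    have h : ∀ (μ : Option (Fin 3)) (p : V4), mu μ p = 1 ∨ mu μ p = -1 := by decide
    rw [mu_mul]
    rcases h μ p with h1 | h1 <;> rcases h μ p' with h2 | h2 <;> simp [h1, h2]

theorem muHom_val (μ : Option (Fin 3)) (p : V4) : (muHom μ p : ℂ) = (mu μ p : ℂ) := by
  have h : ∀ (μ : Option (Fin 3)) (p : V4), mu μ p = 1 ∨ mu μ p = -1 := by decide
  show ((if mu μ p = 1 then 1 else -1 : ℂˣ) : ℂ) = _
  rcases h μ p with h1 | h1 <;> simp [h1]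

namespace Cfg

variable {G : Type u} [Group G] [Fintype G] {L : Type v} [Group L] [Fintype L] (C : Cfg G L)

theorem v_sq : C.v * C.v = 1 := by rw [← pow_two, ← C.v_ord, pow_orderOf_eq_one]

theorem Y_comm (y y' : C.D.Y) : y * y' = y' * y := by
  haveI := C.D.cycY
  exact (IsCyclic.isMulCommutative (α := C.D.Y)).1.1 y y'

theorem v_not_mem : C.v ∉ C.D.Y := fun h => by
  have h2 := Subgroup.orderOf_dvd_natCard C.D.Y h
  rw [C.v_ord, C.D.cardY] at h2
  obtain ⟨k, hk⟩ := C.D.hy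
  omega

theorem Y_odd (y : C.D.Y) : Odd (orderOf (y : L)) := by
  refine C.D.hy.of_dvd_nat ?_
  rw [← C.D.cardY]
  exact Subgroup.orderOf_dvd_natCard C.D.Y y.2

noncomputable instance fintypeY : Fintype C.D.Y := Fintype.ofFinite _

/-- The abstract group `A`. -/
abbrev AG (C : Cfg G L) : Type v := M2 × (M2 × C.D.Y)

/-- The four-group component. -/
def AG.p {C : Cfg G L} (a : C.AG) : V4 := (a.1, a.2.1)

/-- `(j, y) ↦ vʲ y`. -/
def ΦY : M2 × C.D.Y →* L :=
  (twoHom C.v C.v_sq).noncommCoprod C.D.Y.subtype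
    fun i y => show Commute (twoHom C.v C.v_sq i) (y : L) from (C.v_comm y y.2).pow_left _

theorem ΦY_apply (j : M2) (y : C.D.Y) : C.ΦY (j, y) = twoHom C.v C.v_sq j * y := rfl

theorem ΦY_inj : Function.Injective C.ΦY := by
  refine (injective_iff_map_eq_one _).2 fun ⟨j, y⟩ h => ?_
  rw [ΦY_apply] at h
  rcases M2_cases j with rfl | rfl
  · rw [twoHom_zero, one_mul] at h
    exact Prod.ext rfl (Subtype.ext h)
  · rw [twoHom_one] at h
    refine absurd ?_ C.v_not_mem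
    rw [mul_eq_one_iff_eq_inv.1 h]
    exact inv_mem y.2

/-- The inclusion of `A`. -/
def ΦA : C.AG →* G := C.ΦC.comp (MonoidHom.prodMap (MonoidHom.id M2) C.ΦY)

theorem ΦA_apply (i j : M2) (y : C.D.Y) : C.ΦA (i, j, y) = C.ΦC (i, C.ΦY (j, y)) := rfl

theorem ΦA_inj : Function.Injective C.ΦA := fun a b h => by
  have := Prod.ext_iff.1 (C.ΦC_inj h)
  exact Prod.ext this.1 (C.ΦY_inj this.2)

theorem ΦA_eq (i j : M2) (y : C.D.Y) : C.ΦA (i, j, y) =
    twoHom C.t C.t_sq i * C.E (twoHom C.v C.v_sq j) * C.E y := by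
  rw [ΦA_apply, ΦY_apply, mul_assoc, ← map_mul]
  rfl

theorem aElt_eq (i j : Fin 2) (y : C.D.Y) : aElt C.t C.E C.v i j (y : L) =
    C.ΦA (Multiplicative.ofAdd i, Multiplicative.ofAdd j, y) := by
  rw [ΦA_eq, mul_assoc, ← map_mul]
  rfl

theorem exists_aElt (a : C.AG) : ∃ i j : Fin 2, C.ΦA a = aElt C.t C.E C.v i j (a.2.2 : L) := by
  obtain ⟨i, j, y⟩ := a
  exact ⟨Multiplicative.toAdd i, Multiplicative.toAdd j, (C.aElt_eq _ _ y).symm⟩

theorem cardAG : Nat.card C.AG = 4 * C.D.y := by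
  rw [Nat.card_prod, Nat.card_prod, C.D.cardY, ← mul_assoc]
  simp [M2]

theorem y_ne : (C.D.y : ℂ) ≠ 0 := by
  have := C.seven_le
  exact Nat.cast_ne_zero.2 (by omega)

theorem AG_comm (a b : C.AG) : a * b = b * a :=
  Prod.ext (mul_comm _ _) (Prod.ext (mul_comm _ _) (C.Y_comm _ _))

/-- `e ↦ (y ↦ y ^ ±1)`. -/
def invHom (e : Fin 2) : C.D.Y →* C.D.Y where
  toFun y := if e = 0 then y else y⁻¹
  map_one' := by split_ifs <;> simp
  map_mul' y y' := by
    split_ifs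
    · rfl
    · rw [_root_.mul_inv_rev, C.Y_comm]

/-- The action of a coset on `Y`. -/
def yAct (s : Fin 3 × Fin 2) : C.D.Y →* C.D.Y :=
  (C.α.toMonoidHom ^[(s.1 : ℕ)]) |> fun _ => MonoidHom.mk'
    (fun y => (⇑C.α)^[(s.1 : ℕ)] (C.invHom s.2 y))
    (fun y y' => by
      rw [map_mul]
      generalize (s.1 : ℕ) = k
      induction k with
      | zero => rfl
      | succ k ih => simp only [Function.iterate_succ_apply', ih, map_mul])

theorem yAct_apply (s : Fin 3 × Fin 2) (y : C.D.Y) :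
    C.yAct s y = (⇑C.α)^[(s.1 : ℕ)] (C.invHom s.2 y) := rfl

theorem alpha_sq {y : C.D.Y} (hy : y ≠ 1) : C.α (C.α y) ≠ y ∧ C.α (C.α y) ≠ y⁻¹ := by
  obtain ⟨h1, h2⟩ := C.α_fpf y hy
  constructor <;> intro h
  · apply h1
    have := congrArg C.α h
    rw [C.α_cube] at this
    exact this.symm
  · apply h2
    have := congrArg C.α h
    rw [C.α_cube, map_inv] at this
    rw [← inv_inv (C.α y), ← this]

theorem inv_ne_self {y : C.D.Y} (hy : y ≠ 1) : y⁻¹ ≠ y := fun h => by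
  have h2 : y * y = 1 := by nth_rw 1 [← h]; exact inv_mul_cancel y
  have := orderOf_dvd_of_pow_eq_one (show (y : L) ^ 2 = 1 by rw [pow_two, ← Subgroup.coe_mul, h2]; rfl)
  rcases (Nat.dvd_prime Nat.prime_two).1 this with e | e
  · exact hy (Subtype.ext (orderOf_eq_one_iff.1 e))
  · have := C.Y_odd y
    rw [e] at this
    exact absurd this (by decide)

/-- The six cosets act semiregularly. -/
theorem yAct_inj {y : C.D.Y} (hy : y ≠ 1) {s s' : Fin 3 × Fin 2} (h : C.yAct s y = C.yAct s' y) :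
    s = s' := by
  obtain ⟨h1, h2⟩ := C.α_fpf y hy
  obtain ⟨h3, h4⟩ := C.alpha_sq hy
  have h5 := C.inv_ne_self hy
  have k1 : ∀ e e' : Fin 2, C.α (C.invHom e y) ≠ C.invHom e' y := by
    intro e e' he
    fin_cases e <;> fin_cases e' <;> simp [invHom, map_inv] at he <;>
      first | exact h1 he | exact h2 he | exact h1 (inv_injective he) |
        exact h2 (inv_eq_iff_eq_inv.1 he)
  have k2 : ∀ e e' : Fin 2, C.α (C.α (C.invHom e y)) ≠ C.invHom e' y := by
    intro e e' he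
    fin_cases e <;> fin_cases e' <;> simp [invHom, map_inv] at he <;>
      first | exact h3 he | exact h4 he | exact h3 (inv_injective he) |
        exact h4 (inv_eq_iff_eq_inv.1 he)
  have k0 : ∀ e e' : Fin 2, C.invHom e y = C.invHom e' y → e = e' := by
    intro e e' he
    fin_cases e <;> fin_cases e' <;> simp [invHom] at he <;>
      first | rfl | exact absurd he h5 | exact absurd he.symm h5
  obtain ⟨k, e⟩ := s
  obtain ⟨k', e'⟩ := s'
  rw [yAct_apply, yAct_apply] at h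
  fin_cases k <;> fin_cases k' <;>
    simp only [Function.iterate_succ, Function.iterate_zero, Function.comp, id] at h
  · rw [k0 _ _ h]
  · exact absurd h.symm (k1 _ _)
  · exact absurd h.symm (k2 _ _)
  · exact absurd h (k1 _ _)
  · rw [k0 _ _ (C.α.injective h)]
  · exact absurd (C.α.injective h).symm (k1 _ _)
  · exact absurd h (k2 _ _)
  · exact absurd (C.α.injective h) (k1 _ _)
  · rw [k0 _ _ (C.α.injective (C.α.injective h))]

/-- The action of a coset on `A`. -/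
def aAct (s : Fin 3 × Fin 2) (a : C.AG) : C.AG :=
  ((tau^[(s.1 : ℕ)] a.p).1, (tau^[(s.1 : ℕ)] a.p).2, C.yAct s a.2.2)

/-- The representative of a coset. -/
def rep (s : Fin 3 × Fin 2) : G := C.σ ^ (s.1 : ℕ) * C.w ^ (s.2 : ℕ)

theorem conj_σ (i j : M2) (y : C.D.Y) :
    C.σ * C.ΦA (i, j, y) * C.σ⁻¹ = C.ΦA (j, i * j, C.α y) := by
  rw [ΦA_eq, ΦA_eq, ← C.σ_Y y]
  have key : C.σ * (twoHom C.t C.t_sq i * C.E (twoHom C.v C.v_sq j)) * C.σ⁻¹ =
      twoHom C.t C.t_sq j * C.E (twoHom C.v C.v_sq (i * j)) := by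
    rcases M2_cases i with rfl | rfl <;> rcases M2_cases j with rfl | rfl <;>
      simp only [← ofAdd_add, add_zero, zero_add, show (1 : ZMod 2) + 1 = 0 from rfl, twoHom_zero,
        twoHom_one, map_one, one_mul, mul_one, C.σ_t, C.σ_v, C.σ_tv, mul_inv_cancel]
  rw [← key]
  group

theorem conj_w (i j : M2) (y : C.D.Y) :
    C.w * C.ΦA (i, j, y) * C.w⁻¹ = C.ΦA (i, j, y⁻¹) := by
  rw [ΦA_eq, ΦA_eq, Subgroup.coe_inv, ← C.w_Y y y.2]
  have h1 : Commute C.w (twoHom C.t C.t_sq i) := C.w_t.pow_right _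
  have h2 : Commute C.w (C.E (twoHom C.v C.v_sq j)) := by
    show Commute C.w (C.E (C.v ^ _))
    rw [map_pow]
    exact C.w_v.pow_right _
  calc C.w * (twoHom C.t C.t_sq i * C.E (twoHom C.v C.v_sq j) * C.E (y : L)) * C.w⁻¹
      = (C.w * (twoHom C.t C.t_sq i * C.E (twoHom C.v C.v_sq j))) * C.E (y : L) * C.w⁻¹ := by group
    _ = (twoHom C.t C.t_sq i * C.E (twoHom C.v C.v_sq j) * C.w) * C.E (y : L) * C.w⁻¹ := by
      rw [(h1.mul_right h2).eq]
    _ = _ := by group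

theorem conj_σ_pow (k : ℕ) (a : C.AG) :
    C.σ ^ k * C.ΦA a * (C.σ ^ k)⁻¹ =
      C.ΦA ((tau^[k] a.p).1, (tau^[k] a.p).2, (⇑C.α)^[k] a.2.2) := by
  induction k with
  | zero => simp [AG.p]
  | succ k ih =>
    rw [show C.σ ^ (k + 1) * C.ΦA a * (C.σ ^ (k + 1))⁻¹ =
      C.σ * (C.σ ^ k * C.ΦA a * (C.σ ^ k)⁻¹) * C.σ⁻¹ by rw [pow_succ']; group, ih, conj_σ]
    simp only [Function.iterate_succ_apply', tau]

theorem conj_rep (s : Fin 3 × Fin 2) (b a : C.AG) :
    C.rep s * C.ΦA b * C.ΦA a * (C.rep s * C.ΦA b)⁻¹ = C.ΦA (C.aAct s a) := by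
  have hb : C.ΦA b * C.ΦA a * (C.ΦA b)⁻¹ = C.ΦA a := by
    rw [← map_mul, C.AG_comm, map_mul, mul_inv_cancel_right]
  rw [show C.rep s * C.ΦA b * C.ΦA a * (C.rep s * C.ΦA b)⁻¹ =
    C.σ ^ (s.1 : ℕ) * (C.w ^ (s.2 : ℕ) * (C.ΦA b * C.ΦA a * (C.ΦA b)⁻¹) * (C.w ^ (s.2 : ℕ))⁻¹) *
      (C.σ ^ (s.1 : ℕ))⁻¹ by rw [rep]; group, hb]
  have hw : C.w ^ (s.2 : ℕ) * C.ΦA a * (C.w ^ (s.2 : ℕ))⁻¹ =
      C.ΦA (a.1, a.2.1, C.invHom s.2 a.2.2) := by
    obtain ⟨k, e⟩ := s
    fin_cases e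
    · simp [invHom]
    · simp only [Fin.mk_one, pow_one]
      rw [show a = (a.1, a.2.1, a.2.2) from rfl, conj_w]
      rfl
  rw [hw, conj_σ_pow]
  rfl

theorem card_transporter_A {a a' : C.AG} (ha : a'.2.2 ≠ 1) :
    Nat.card {z : G // z * C.ΦA a' * z⁻¹ = C.ΦA a} =
      Nat.card {s : Fin 3 × Fin 2 // C.aAct s a' = a} * Nat.card C.AG := by
  rw [← Nat.card_prod]
  symm
  refine Nat.card_congr (Equiv.ofBijective
    (fun p => ⟨C.rep p.1.1 * C.ΦA p.2, by rw [C.conj_rep, p.1.2]⟩) ⟨?_, ?_⟩)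
  · rintro ⟨⟨s, hs⟩, b⟩ ⟨⟨s', hs'⟩, b'⟩ h
    have h1 : C.rep s * C.ΦA b = C.rep s' * C.ΦA b' := Subtype.ext_iff.1 h
    have e : s = s' := C.yAct_inj ha ((congrArg (fun x : C.AG => x.2.2) (hs.trans hs'.symm) :))
    subst e
    rw [mul_right_inj] at h1
    exact Prod.ext rfl (C.ΦA_inj h1)
  · rintro ⟨z, hz⟩
    obtain ⟨i', j', e'⟩ := C.exists_aElt a'
    obtain ⟨i, j, e⟩ := C.exists_aElt a
    have hz' := hz
    rw [e', e] at hz'
    obtain ⟨k, f, i₀, j₀, y₀, hy₀, hz0⟩ := C.transporter z i' j' i j _ a'.2.2.2 _ a.2.2.2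
      (fun h => ha (Subtype.ext h)) hz'
    have hb := C.aElt_eq i₀ j₀ ⟨y₀, hy₀⟩
    have hzr : z = C.rep (k, f) *
        C.ΦA (Multiplicative.ofAdd i₀, Multiplicative.ofAdd j₀, ⟨y₀, hy₀⟩) := by
      rw [hz0, ← hb]; rfl
    refine ⟨(⟨(k, f), C.ΦA_inj ?_⟩, (Multiplicative.ofAdd i₀, Multiplicative.ofAdd j₀, ⟨y₀, hy₀⟩)),
      Subtype.ext hzr.symm⟩
    rw [← C.conj_rep (k, f) _ a', ← hzr, hz]

/-- The class function `μ ⊗ (1 - θ)` of `A`. -/
noncomputable def gfun (μ : Option (Fin 3)) (θ : C.D.Y →* ℂˣ) (a : C.AG) : ℂ :=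
  (mu μ a.p : ℂ) * (1 - (θ a.2.2 : ℂ))

theorem gfun_eq_zero (μ : Option (Fin 3)) (θ : C.D.Y →* ℂˣ) {a : C.AG} (h : a.2.2 = 1) :
    C.gfun μ θ a = 0 := by simp [gfun, h]

/-- The vector of `μ ⊗ (1 - θ)`. -/
noncomputable def cv (μ : Option (Fin 3)) (θ : C.D.Y →* ℂˣ) (χ : G → ℂ) : ℂ :=
  (Nat.card C.AG : ℂ)⁻¹ * ∑ a : C.AG, C.gfun μ θ a * conj (χ (C.ΦA a))

theorem cardAG_ne : (Nat.card C.AG : ℂ) ≠ 0 := Nat.cast_ne_zero.2 Nat.card_pos.ne'

theorem cv_int (μ : Option (Fin 3)) (θ : C.D.Y →* ℂˣ) (χ : IrrCharacter G) :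
    ∃ n : ℤ, C.cv μ θ (χ : G → ℂ) = n := by
  let pV : C.AG →* V4 := MonoidHom.prod (MonoidHom.fst M2 (M2 × C.D.Y))
    ((MonoidHom.fst M2 C.D.Y).comp (MonoidHom.snd M2 (M2 × C.D.Y)))
  let pY : C.AG →* C.D.Y := (MonoidHom.snd M2 C.D.Y).comp (MonoidHom.snd M2 (M2 × C.D.Y))
  have hf : C.gfun μ θ = (fun a => ((((muHom μ).comp pV) a : ℂˣ) : ℂ)) -
      (fun a => ((((muHom μ).comp pV * θ.comp pY) a : ℂˣ) : ℂ)) := by
    funext a
    rw [Pi.sub_apply, gfun, MonoidHom.mul_apply, MonoidHom.comp_apply, MonoidHom.comp_apply,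
      Units.val_mul, muHom_val, mul_sub, mul_one]
    rfl
  have hχ : IsCharacter C.AG (fun a => (χ : G → ℂ) (C.ΦA a)) :=
    isCharacter_comp (isCharacter_of_irr χ.2) C.ΦA
  obtain ⟨n, hn⟩ := classInner_char_nat
    (isCharacter_of_irr (isIrrCharacter_linear ((muHom μ).comp pV))) hχ
  obtain ⟨m, hm⟩ := classInner_char_nat
    (isCharacter_of_irr (isIrrCharacter_linear ((muHom μ).comp pV * θ.comp pY))) hχ
  refine ⟨(n : ℤ) - m, ?_⟩
  push_cast
  rw [← hn, ← hm, ← classInner_sub_left, ← hf]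
  rfl

theorem sum_cv_mul_apply (μ : Option (Fin 3)) (θ : C.D.Y →* ℂˣ) (g : G) :
    ∑ χ : IrrCharacter G, C.cv μ θ (χ : G → ℂ) * (χ : G → ℂ) g = (Nat.card C.AG : ℂ)⁻¹ *
      ∑ a : C.AG, C.gfun μ θ a * (Nat.card {z : G // z * g * z⁻¹ = C.ΦA a} : ℂ) := by
  have hx : ∀ a : C.AG, C.gfun μ θ a * (Nat.card {z : G // z * g * z⁻¹ = C.ΦA a} : ℂ) =
      ∑ χ : IrrCharacter G, C.gfun μ θ a * conj ((χ : G → ℂ) (C.ΦA a)) * (χ : G → ℂ) g := fun a => by
    rw [← sum_irr_eq_card, Finset.mul_sum]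
    exact Finset.sum_congr rfl fun χ _ => by ring
  simp only [hx, cv, Finset.mul_sum, Finset.sum_mul]
  rw [Finset.sum_comm]
  exact Finset.sum_congr rfl fun a _ => Finset.sum_congr rfl fun χ _ => by ring

/-- An element with non-trivial `Y`-part has order more than two. -/
theorem ΦA_sq_ne {a : C.AG} (ha : a.2.2 ≠ 1) : C.ΦA a * C.ΦA a ≠ 1 := fun h => by
  rw [← map_mul, ← map_one C.ΦA] at h
  have h2 : a.2.2 * a.2.2 = 1 := (congrArg (fun x : C.AG => x.2.2) (C.ΦA_inj h) :)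
  exact C.inv_ne_self ha (inv_eq_of_mul_eq_one_right h2)

theorem sum_cv_apply_zero (μ : Option (Fin 3)) (θ : C.D.Y →* ℂˣ) {g : G} (hg : g * g = 1) :
    ∑ χ : IrrCharacter G, C.cv μ θ (χ : G → ℂ) * (χ : G → ℂ) g = 0 := by
  rw [C.sum_cv_mul_apply]
  refine mul_eq_zero_of_right _ (Finset.sum_eq_zero fun a _ => ?_)
  rcases eq_or_ne a.2.2 1 with h | h
  · rw [C.gfun_eq_zero μ θ h, zero_mul]
  · haveI : IsEmpty {z : G // z * g * z⁻¹ = C.ΦA a} := ⟨fun z => C.ΦA_sq_ne h (by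
      rw [← z.2, show (z : G) * g * (z : G)⁻¹ * ((z : G) * g * (z : G)⁻¹) = z * (g * g) * (z : G)⁻¹ by group,
        hg]; group)⟩
    rw [Nat.card_of_isEmpty, Nat.cast_zero, mul_zero]

theorem sum_cv_deg (μ : Option (Fin 3)) (θ : C.D.Y →* ℂˣ) :
    ∑ χ : IrrCharacter G, C.cv μ θ (χ : G → ℂ) * (χ : G → ℂ) 1 = 0 :=
  C.sum_cv_apply_zero μ θ (mul_one 1)

theorem sum_cv_t (μ : Option (Fin 3)) (θ : C.D.Y →* ℂˣ) :
    ∑ χ : IrrCharacter G, C.cv μ θ (χ : G → ℂ) * (χ : G → ℂ) C.t = 0 :=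
  C.sum_cv_apply_zero μ θ C.t_sq

/-- The action on characters of `Y`. -/
def thAct (s : Fin 3 × Fin 2) (θ : C.D.Y →* ℂˣ) : C.D.Y →* ℂˣ := θ.comp (C.yAct s)

theorem gfun_aAct (s : Fin 3 × Fin 2) (μ : Option (Fin 3)) (θ : C.D.Y →* ℂˣ) (a : C.AG) :
    C.gfun μ θ (C.aAct s a) = C.gfun (muStep^[(s.1 : ℕ)] μ) (C.thAct s θ) a := by
  unfold gfun
  rw [show (C.aAct s a).p = tau^[(s.1 : ℕ)] a.p from rfl, mu_tau_iterate]
  rfl

theorem sum_hom (θ : C.D.Y →* ℂˣ) [Decidable (θ = 1)] :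
    ∑ y : C.D.Y, (θ y : ℂ) = if θ = 1 then (C.D.y : ℂ) else 0 := by
  split_ifs with h
  · subst h
    simp [← C.D.cardY, Nat.card_eq_fintype_card]
  · exact sum_hom_units_eq_zero ((Units.coeHom ℂ).comp θ) fun e => h (MonoidHom.ext fun y =>
      Units.ext (DFunLike.congr_fun e y))

/-- Orthogonality on `A`. -/
theorem sum_gfun_mul (μ μ' : Option (Fin 3)) {θ θ' : C.D.Y →* ℂˣ} (hθ : θ ≠ 1) (hθ' : θ' ≠ 1)
    [Decidable (θ = θ')] :
    ∑ a : C.AG, C.gfun μ θ a * conj (C.gfun μ' θ' a) =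
      Nat.card C.AG * ((if μ = μ' then 1 else 0) * (1 + (if θ = θ' then 1 else 0))) := by
  classical
  have h1 : ∑ a : C.AG, C.gfun μ θ a * conj (C.gfun μ' θ' a) =
      (∑ p : V4, ((mu μ p * mu μ' p : ℤ) : ℂ)) *
        ∑ y : C.D.Y, (1 - (θ y : ℂ)) * conj (1 - (θ' y : ℂ)) := by
    rw [Fintype.sum_prod_type, Fintype.sum_prod_type, Finset.sum_mul]
    refine Finset.sum_congr rfl fun i _ => ?_
    rw [Fintype.sum_prod_type, Finset.sum_mul]
    refine Finset.sum_congr rfl fun j _ => ?_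
    rw [Finset.mul_sum]
    refine Finset.sum_congr rfl fun y _ => ?_
    simp only [gfun, AG.p, map_mul, map_intCast]
    push_cast
    ring
  have hc : ∀ y : C.D.Y, conj (θ' y : ℂ) = ((θ'⁻¹) y : ℂ) := fun y => by
    rw [← char_apply_inv (isCharacter_of_irr (isIrrCharacter_linear θ')), map_inv]
    rfl
  have h2 : ∑ y : C.D.Y, (1 - (θ y : ℂ)) * conj (1 - (θ' y : ℂ)) =
      (C.D.y : ℂ) * (1 + (if θ = θ' then 1 else 0)) := by
    have e : ∀ y : C.D.Y, (1 - (θ y : ℂ)) * conj (1 - (θ' y : ℂ)) =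
        1 - (θ y : ℂ) - conj (θ' y : ℂ) + ((θ * θ'⁻¹) y : ℂ) := fun y => by
      rw [map_sub, map_one, MonoidHom.mul_apply, Units.val_mul, ← hc]
      ring
    rw [Finset.sum_congr rfl fun y _ => e y]
    have h' : θ'⁻¹ ≠ 1 := fun e => hθ' (MonoidHom.ext fun y => by
      simpa using DFunLike.congr_fun e y)
    have h'' : θ * θ'⁻¹ = 1 ↔ θ = θ' := by
      constructor
      · intro e
        exact MonoidHom.ext fun y => by
          simpa [mul_inv_eq_one] using DFunLike.congr_fun e y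
      · rintro rfl
        exact MonoidHom.ext fun y => by simp
    simp only [Finset.sum_add_distrib, Finset.sum_sub_distrib, hc, C.sum_hom, if_neg hθ, if_neg h',
      h'']
    rw [Finset.sum_const, Finset.card_univ, ← Nat.card_eq_fintype_card, C.D.cardY, nsmul_eq_mul,
      mul_one]
    split_ifs <;> ring
  rw [h1, h2, ← Int.cast_sum, mu_orth, C.cardAG]
  split_ifs <;> push_cast <;> ring

/-- The inner products of the vectors. -/
theorem sum_cv_mul (μ μ' : Option (Fin 3)) {θ θ' : C.D.Y →* ℂˣ} (hθ' : θ' ≠ 1)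
    (hne : ∀ s, C.thAct s θ ≠ 1) [∀ s, Decidable (C.thAct s θ = θ')] :
    ∑ χ : IrrCharacter G, C.cv μ θ (χ : G → ℂ) * conj (C.cv μ' θ' (χ : G → ℂ)) =
      ∑ s : Fin 3 × Fin 2, (if muStep^[(s.1 : ℕ)] μ = μ' then 1 else 0) *
        (1 + (if C.thAct s θ = θ' then 1 else 0)) := by
  classical
  have h1 : ∀ χ : IrrCharacter G, C.cv μ θ (χ : G → ℂ) * conj (C.cv μ' θ' (χ : G → ℂ)) =
      ∑ a : C.AG, ∑ a' : C.AG, (Nat.card C.AG : ℂ)⁻¹ * ((Nat.card C.AG : ℂ)⁻¹ *
        (C.gfun μ θ a * conj (C.gfun μ' θ' a') *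
          ((χ : G → ℂ) (C.ΦA a') * conj ((χ : G → ℂ) (C.ΦA a))))) := by
    intro χ
    simp only [cv, map_mul, map_inv₀, map_natCast, map_sum, Complex.conj_conj, Finset.mul_sum,
      Finset.sum_mul]
    rw [Finset.sum_comm]
    exact Finset.sum_congr rfl fun x _ => Finset.sum_congr rfl fun x' _ => by ring
  rw [Finset.sum_congr rfl fun χ _ => h1 χ, Finset.sum_comm]
  rw [Finset.sum_congr rfl fun a _ => Finset.sum_comm]
  simp only [← Finset.mul_sum, sum_irr_eq_card]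
  rw [Finset.sum_comm]
  have h2 : ∀ a' : C.AG, ∑ a : C.AG, C.gfun μ θ a * conj (C.gfun μ' θ' a') *
      (Nat.card {z : G // z * C.ΦA a' * z⁻¹ = C.ΦA a} : ℂ) =
      Nat.card C.AG * ∑ s : Fin 3 × Fin 2, C.gfun μ θ (C.aAct s a') * conj (C.gfun μ' θ' a') := by
    intro a'
    rcases eq_or_ne a'.2.2 1 with h | h
    · simp [C.gfun_eq_zero μ' θ' h]
    have e : ∀ a : C.AG, (Nat.card {s : Fin 3 × Fin 2 // C.aAct s a' = a} : ℂ) =
        ∑ s : Fin 3 × Fin 2, if C.aAct s a' = a then (1 : ℂ) else 0 := fun a => by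
      rw [Nat.card_eq_fintype_card, Fintype.card_subtype, Finset.sum_boole]
    simp only [C.card_transporter_A h, Nat.cast_mul, e, Finset.mul_sum, Finset.sum_mul]
    rw [Finset.sum_comm]
    refine Finset.sum_congr rfl fun s _ => ?_
    simp only [ite_mul, one_mul, zero_mul, mul_ite, mul_zero, Finset.sum_ite_eq, Finset.mem_univ,
      if_true]
    ring
  simp only [h2, ← Finset.mul_sum]
  rw [Finset.sum_comm]
  simp only [C.gfun_aAct, C.sum_gfun_mul _ _ (hne _) hθ', ← Finset.mul_sum]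
  have := C.cardAG_ne
  field_simp

/-- The products with the columns of the section of `t`. -/
theorem sum_cv_coef (μ : Option (Fin 3)) {θ : C.D.Y →* ℂˣ} (hθ : θ ≠ 1) {φ : L → ℂ}
    (hφ : ∀ x : L, Even (orderOf x) → φ x = 0) (hφc : IsClassFunction L φ) {κ : ℂ}
    (hκ : ∀ x ∈ C.D.Y, x ≠ 1 → φ x = κ) :
    2 * ∑ χ : IrrCharacter G, C.cv μ θ (χ : G → ℂ) * conj (C.coef φ (χ : G → ℂ)) =
      conj κ * (if μ = none then 3 else -1) := by
  classical
  have h1 : ∀ χ : IrrCharacter G, C.cv μ θ (χ : G → ℂ) * conj (C.coef φ (χ : G → ℂ)) =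
      ∑ a : C.AG, ∑ x : L, (Nat.card C.AG : ℂ)⁻¹ * ((Nat.card L : ℂ)⁻¹ *
        (C.gfun μ θ a * conj (φ x) *
          ((χ : G → ℂ) (C.t * C.E x) * conj ((χ : G → ℂ) (C.ΦA a))))) := by
    intro χ
    simp only [cv, coef, map_mul, map_inv₀, map_natCast, map_sum, Complex.conj_conj, Finset.mul_sum,
      Finset.sum_mul]
    rw [Finset.sum_comm]
    exact Finset.sum_congr rfl fun x _ => Finset.sum_congr rfl fun x' _ => by ring
  rw [Finset.sum_congr rfl fun χ _ => h1 χ, Finset.sum_comm]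
  rw [Finset.sum_congr rfl fun a _ => Finset.sum_comm]
  simp only [← Finset.mul_sum, sum_irr_eq_card]
  have h2 : ∀ a : C.AG, ∑ x : L, C.gfun μ θ a * conj (φ x) *
      (Nat.card {z : G // z * (C.t * C.E x) * z⁻¹ = C.ΦA a} : ℂ) =
      C.gfun μ θ a * ((if a.p = 1 then 0 else 1) * (2 * Nat.card L * conj κ)) := by
    intro a
    rcases eq_or_ne a.2.2 1 with h | h
    · simp [C.gfun_eq_zero μ θ h]
    split_ifs with hp
    · rw [zero_mul, mul_zero]
      refine Finset.sum_eq_zero fun x _ => ?_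
      rcases Nat.even_or_odd (orderOf x) with hx | hx
      · simp [hφ x hx]
      haveI : IsEmpty {z : G // z * (C.t * C.E x) * z⁻¹ = C.ΦA a} := ⟨fun ⟨z, hz⟩ => C.t_ne (by
        have ha : C.ΦA a = C.E (a.2.2 : L) := by
          obtain ⟨i, j, y⟩ := a
          obtain ⟨rfl, rfl⟩ := Prod.ext_iff.1 hp
          rw [ΦA_eq]
          simp [twoHom]
        have h2 := congrArg (fun g => g ^ (orderOf x * orderOf (a.2.2 : L))) hz
        simp only [conj_pow] at h2
        rw [C.pow_tE (hx.mul (C.Y_odd _)) (dvd_mul_right _ _), ha, ← map_pow,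
          orderOf_dvd_iff_pow_eq_one.1 (dvd_mul_left _ _), map_one] at h2
        exact conj_eq_one_iff.1 h2)⟩
      rw [Nat.card_of_isEmpty, Nat.cast_zero, mul_zero]
    · obtain ⟨k, hk⟩ := exists_tau_pt a.p hp
      set y' : C.D.Y := (⇑C.α.symm)^[(k : ℕ)] a.2.2 with hy'
      have hyy : (⇑C.α)^[(k : ℕ)] y' = a.2.2 :=
        (Function.LeftInverse.iterate C.α.apply_symm_apply _) a.2.2
      have hyne : (y' : L) ≠ 1 := fun e => h (by
        rw [← hyy, show y' = 1 from Subtype.ext e, Function.iterate_fixed (map_one C.α)])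
      have ha : C.ΦA a = C.σ ^ (k : ℕ) * (C.t * C.E (y' : L)) * (C.σ ^ (k : ℕ))⁻¹ := by
        rw [← C.ΦC_one (y' : L), show C.ΦC (Multiplicative.ofAdd 1, (y' : L)) =
          C.ΦA (Multiplicative.ofAdd 1, 1, y') by rw [ΦA_apply, ΦY_apply]; simp [twoHom],
          C.conj_σ_pow, hyy]
        rw [show AG.p (C := C) (Multiplicative.ofAdd (1 : ZMod 2), (1 : M2), y') = pt from rfl, hk]
        rfl
      have key : ∀ x : L, C.gfun μ θ a * conj (φ x) *
          (Nat.card {z : G // z * (C.t * C.E x) * z⁻¹ = C.ΦA a} : ℂ) =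
          C.gfun μ θ a * (2 * (conj (φ x) * (Nat.card {l : L // l * x * l⁻¹ = (y' : L)} : ℂ))) := by
        intro x
        rcases Nat.even_or_odd (orderOf x) with hx | hx
        · simp [hφ x hx]
        have e : Nat.card {z : G // z * (C.t * C.E x) * z⁻¹ = C.ΦA a} =
            Nat.card {z : G // z * (C.t * C.E x) * z⁻¹ = C.t * C.E (y' : L)} := by
          refine Nat.card_congr (Equiv.subtypeEquiv (Equiv.mulLeft (C.σ ^ (k : ℕ))⁻¹) fun z => ?_)
          rw [ha, Equiv.coe_mulLeft]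
          generalize C.σ ^ (k : ℕ) = g
          constructor <;> intro hz
          · calc g⁻¹ * z * (C.t * C.E x) * (g⁻¹ * z)⁻¹
                = g⁻¹ * (z * (C.t * C.E x) * z⁻¹) * g := by group
              _ = _ := by rw [hz]; group
          · rw [← hz]; group
        rw [e, C.card_transporter hx (C.Y_odd y')]
        push_cast
        ring
      rw [Finset.sum_congr rfl fun x _ => key x, ← Finset.mul_sum, ← Finset.mul_sum]
      have hcc : ∀ x : L, (Nat.card {l : L // l * x * l⁻¹ = (y' : L)} : ℂ) =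
          (Nat.card {l : L // l * (y' : L) * l⁻¹ = x} : ℂ) := fun x => by
        congr 1
        refine Nat.card_congr (Equiv.subtypeEquiv (Equiv.inv L) fun l => ?_)
        show _ ↔ l⁻¹ * (y' : L) * l⁻¹⁻¹ = x
        constructor <;> intro h <;> rw [← h] <;> group
      simp only [hcc]
      rw [sum_card_conj (ψ := fun b => conj (φ b)) (fun b c => congrArg conj (hφc b c)),
        hκ _ y'.2 hyne]
      ring
  simp only [h2]
  have h3 : ∑ a : C.AG, C.gfun μ θ a * ((if a.p = 1 then (0 : ℂ) else 1) * (2 * Nat.card L * conj κ)) =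
      (∑ p : V4, ((if p = 1 then 0 else mu μ p : ℤ) : ℂ)) * (∑ y : C.D.Y, (1 - (θ y : ℂ))) *
        (2 * Nat.card L * conj κ) := by
    rw [Fintype.sum_prod_type, Fintype.sum_prod_type, Finset.sum_mul, Finset.sum_mul]
    refine Finset.sum_congr rfl fun i _ => ?_
    rw [Fintype.sum_prod_type, Finset.sum_mul, Finset.sum_mul]
    refine Finset.sum_congr rfl fun j _ => ?_
    rw [Finset.mul_sum, Finset.sum_mul]
    refine Finset.sum_congr rfl fun y _ => ?_
    simp only [gfun, AG.p]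
    by_cases hp : ((i, j) : V4) = 1
    · simp [hp]
    · simp [hp]
  have h4 : ∀ μ : Option (Fin 3), ∑ p : V4, (if p = 1 then 0 else mu μ p) =
      if μ = none then 3 else -1 := by decide
  rw [h3, ← Int.cast_sum, h4, Finset.sum_sub_distrib, C.sum_hom, if_neg hθ, sub_zero, Finset.sum_const,
    Finset.card_univ, ← Nat.card_eq_fintype_card, C.D.cardY, nsmul_eq_mul, mul_one, C.cardAG]
  have := cardL_ne (L := L)
  have := C.y_ne
  split_ifs <;> push_cast <;> field_simp <;> norm_num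

theorem cv_oneIrr (μ : Option (Fin 3)) {θ : C.D.Y →* ℂˣ} (hθ : θ ≠ 1) :
    C.cv μ θ (Blocks.oneIrr G : G → ℂ) = if μ = none then 1 else 0 := by
  classical
  have h3 : ∑ a : C.AG, C.gfun μ θ a =
      (∑ p : V4, ((mu μ p : ℤ) : ℂ)) * ∑ y : C.D.Y, (1 - (θ y : ℂ)) := by
    rw [Fintype.sum_prod_type, Fintype.sum_prod_type, Finset.sum_mul]
    refine Finset.sum_congr rfl fun i _ => ?_
    rw [Fintype.sum_prod_type, Finset.sum_mul]
    refine Finset.sum_congr rfl fun j _ => ?_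
    rw [Finset.mul_sum]
    rfl
  have h4 : ∀ μ : Option (Fin 3), ∑ p : V4, mu μ p = if μ = none then 4 else 0 := by decide
  show (Nat.card C.AG : ℂ)⁻¹ * ∑ a : C.AG, C.gfun μ θ a * conj (1 : ℂ) = _
  simp only [map_one, mul_one]
  rw [h3, ← Int.cast_sum, h4, Finset.sum_sub_distrib, C.sum_hom, if_neg hθ, sub_zero, Finset.sum_const,
    Finset.card_univ, ← Nat.card_eq_fintype_card, C.D.cardY, nsmul_eq_mul, mul_one, C.cardAG]
  have := C.y_ne
  split_ifs <;> push_cast <;> field_simp <;> norm_num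

include C in
/-- Factorisations into two involutions are constant on classes. -/
theorem card_pairs_conj (g k : G) :
    (Nat.card {u : G // u ∈ invs G ∧ u⁻¹ * (k * g * k⁻¹) ∈ invs G} : ℂ) =
      Nat.card {u : G // u ∈ invs G ∧ u⁻¹ * g ∈ invs G} := by
  apply mul_left_cancel₀ C.K_ne
  rw [← C.sum_sq_div, ← C.sum_sq_div]
  exact Finset.sum_congr rfl fun χ _ => by rw [isClassFunction_irr χ.2 g k]

/-- On `A`, an element with non-trivial `Y`-part is a product of two involutions in `4y` ways. -/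
theorem card_pairs_A {a : C.AG} (ha : a.2.2 ≠ 1) :
    (Nat.card {u : G // u ∈ invs G ∧ u⁻¹ * C.ΦA a ∈ invs G} : ℂ) = 4 * C.D.y := by
  classical
  have hne : (a.2.2 : L) ≠ 1 := fun e => ha (Subtype.ext e)
  by_cases hp : a.p = 1
  · have he : C.ΦA a = C.E (a.2.2 : L) := by
      obtain ⟨i, j, y⟩ := a
      obtain ⟨rfl, rfl⟩ := Prod.ext_iff.1 hp
      rw [ΦA_eq]
      simp [twoHom]
    have e : Nat.card {u : G // u ∈ invs G ∧ u⁻¹ * C.ΦA a ∈ invs G} =
        Nat.card {u : G // orderOf u = 2 ∧ u * C.E (a.2.2 : L) * u⁻¹ = (C.E (a.2.2 : L))⁻¹} := by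
      refine Nat.card_congr (Equiv.subtypeEquivRight fun u => ?_)
      rw [he]
      constructor
      · rintro ⟨hu, hug⟩
        refine ⟨(Finset.mem_filter.1 hu).2, ?_⟩
        obtain ⟨hu2, -⟩ := mem_invs.1 hu
        obtain ⟨hg2, -⟩ := mem_invs.1 hug
        have hu' : u⁻¹ = u := inv_eq_of_mul_eq_one_right hu2
        rw [hu'] at hg2 ⊢
        rw [eq_inv_iff_mul_eq_one, mul_assoc (u * C.E _)]
        exact hg2
      · rintro ⟨hu, hinv⟩
        have hu1 : u ∈ invs G := Finset.mem_filter.2 ⟨Finset.mem_univ _, hu⟩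
        obtain ⟨hu2, -⟩ := mem_invs.1 hu1
        have hu' : u⁻¹ = u := inv_eq_of_mul_eq_one_right hu2
        refine ⟨hu1, ?_⟩
        rw [hu'] at hinv ⊢
        rw [eq_inv_iff_mul_eq_one, mul_assoc (u * C.E _)] at hinv
        refine mem_invs.2 ⟨hinv, fun h1 => ?_⟩
        have hEy : C.E (a.2.2 : L) = u := by rw [← hu', eq_inv_of_mul_eq_one_right h1]
        have h2 : orderOf (a.2.2 : L) = 2 := by rw [← orderOf_injective C.E C.E_inj, hEy, hu]
        have := C.Y_odd a.2.2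
        rw [h2] at this
        exact absurd this (by decide)
    rw [e, C.inverting _ a.2.2.2 hne]
    push_cast
    rfl
  · obtain ⟨k, hk⟩ := exists_tau_pt a.p hp
    set y' : C.D.Y := (⇑C.α.symm)^[(k : ℕ)] a.2.2 with hy'
    have hyy : (⇑C.α)^[(k : ℕ)] y' = a.2.2 :=
      (Function.LeftInverse.iterate C.α.apply_symm_apply _) a.2.2
    have hyne : (y' : L) ≠ 1 := fun e => ha (by
      rw [← hyy, show y' = 1 from Subtype.ext e, Function.iterate_fixed (map_one C.α)])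
    have he : C.ΦA a = C.σ ^ (k : ℕ) * C.ΦA (Multiplicative.ofAdd 1, 1, y') * (C.σ ^ (k : ℕ))⁻¹ := by
      rw [C.conj_σ_pow, hyy,
        show AG.p (C := C) (Multiplicative.ofAdd (1 : ZMod 2), (1 : M2), y') = pt from rfl, hk]
      rfl
    rw [he, C.card_pairs_conj, show C.ΦA (Multiplicative.ofAdd 1, 1, y') = C.t * C.E (y' : L) by
        rw [← C.ΦC_one, ΦA_apply, ΦY_apply]; simp [twoHom], C.card_pairs_tE (C.Y_odd y'),
      C.D.inv_Y _ y'.2 hyne]
    push_cast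
    ring

/-- The weighted sums. -/
theorem sum_cv_weight (μ : Option (Fin 3)) {θ : C.D.Y →* ℂˣ} (hθ : θ ≠ 1) :
    ∑ χ : IrrCharacter G, C.cv μ θ (χ : G → ℂ) * ((χ : G → ℂ) C.t ^ 2 / (χ : G → ℂ) 1) =
      C.K * if μ = none then 4 * (C.D.y : ℂ) else 0 := by
  classical
  have hx : ∀ a : C.AG, C.gfun μ θ a * (C.K * (4 * (C.D.y : ℂ))) =
      ∑ χ : IrrCharacter G, C.gfun μ θ a * conj ((χ : G → ℂ) (C.ΦA a)) *
        ((χ : G → ℂ) C.t ^ 2 / (χ : G → ℂ) 1) := by
    intro a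
    rcases eq_or_ne a.2.2 1 with h | h
    · simp [C.gfun_eq_zero μ θ h]
    rw [← C.card_pairs_A h, ← C.sum_sq_div, Finset.mul_sum]
    exact Finset.sum_congr rfl fun χ _ => by ring
  have h1 : ∑ χ : IrrCharacter G, C.cv μ θ (χ : G → ℂ) * ((χ : G → ℂ) C.t ^ 2 / (χ : G → ℂ) 1) =
      (Nat.card C.AG : ℂ)⁻¹ * ∑ a : C.AG, C.gfun μ θ a * (C.K * (4 * (C.D.y : ℂ))) := by
    rw [Finset.sum_congr rfl fun a _ => hx a]
    simp only [cv, Finset.mul_sum, Finset.sum_mul]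
    rw [Finset.sum_comm]
    exact Finset.sum_congr rfl fun a _ => Finset.sum_congr rfl fun χ _ => by ring
  have h2 := C.cv_oneIrr μ hθ
  simp only [cv, Blocks.oneIrr, map_one, mul_one] at h2
  rw [h1, ← Finset.sum_mul, ← mul_assoc, h2]
  split_ifs <;> ring

end Cfg

end CfsgLib.JankoThompson
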