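import Cfsg.Agent.Lib.JankoThompson.FourQuot

/-!
A group with a four-group whose involutions have centralisers `V × Y`.
-/

set_option autoImplicit false
set_option linter.unusedSectionVars false
set_option linter.style.haveILetI false

namespace CfsgLib.JankoThompson

open Subgroup

universe u

theorem alt5_facts :
    (∀ x : alternatingGroup (Fin 5), x * x = 1 → x ≠ 1 → ∀ y, y * x = x * y → y * y = 1) ∧
    (∀ x y : alternatingGroup (Fin 5), x * x = 1 → x ≠ 1 → y * y = 1 → y ≠ 1 → ∃ g, g * x * g⁻¹ = y) :=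
  ⟨by decide +kernel, by decide +kernel⟩

/-- The derived group of the preimage of `A₅` in an odd central extension is `A₅`. -/
theorem central_split {M : Type u} [Group M] [Finite M] {O : Subgroup M} [O.Normal] (hodd : Odd (Nat.card O))
    (K : Subgroup (M ⧸ O)) [K.Normal] (hK60 : Nat.card K = 60) (hperf : ⁅K, K⁆ = K)
    (hHO : ∀ h : M, h ∈ K.comap (QuotientGroup.mk' O) → ∀ o ∈ O, Commute h o) :
    ∃ E : Subgroup M, E.Normal ∧ E.map (QuotientGroup.mk' O) = K ∧ ∀ z ∈ E, z ∈ O → z = 1 := by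
  classical
  set π := QuotientGroup.mk' O with hπ
  set H := K.comap π with hH
  set E := ⁅H, H⁆ with hE
  haveI hEn : E.Normal := Subgroup.commutator_normal H H
  have hEH : E ≤ H := Subgroup.commutator_le_self H
  refine ⟨E, hEn, ?_, ?_⟩
  · rw [hE, Subgroup.map_commutator, hH,
      Subgroup.map_comap_eq_self_of_surjective (QuotientGroup.mk'_surjective O), hperf]
  ·
    intro z hz hzO
    by_contra hz1
    obtain ⟨l, hl, hld⟩ := Nat.exists_prime_and_dvd (show orderOf z ≠ 1 from fun e => hz1 (orderOf_eq_one_iff.1 e))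
    haveI : Fact l.Prime := ⟨hl⟩
    set z' := z ^ (orderOf z / l)
    have hz'o : orderOf z' = l := by
      rw [orderOf_pow' _ (Nat.div_pos (Nat.le_of_dvd (orderOf_pos z) hld) hl.pos).ne',
        Nat.gcd_eq_right (Nat.div_dvd_of_dvd hld), Nat.div_div_self hld (orderOf_pos z).ne']
    have hz'E : z' ∈ E := pow_mem hz _
    have hz'O : z' ∈ O := pow_mem hzO _
    have hl2 : l ≠ 2 := fun e2 => by
      have := (Nat.coprime_two_left.2 hodd)
      exact Nat.prime_two.not_dvd_one (Nat.Coprime.eq_one_of_dvd this (e2 ▸ hz'o ▸ O.orderOf_dvd_natCard hz'O) ▸ dvd_rfl)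
    let zH : H := ⟨z', hEH hz'E⟩
    have hzc : zH ∈ Subgroup.center H := Subgroup.mem_center_iff.2 fun h => Subtype.ext (hHO h h.2 z' hz'O).eq
    have hzcom : zH ∈ commutator H := by
      rw [← Subgroup.mem_map_iff_mem H.subtype_injective, Subgroup.map_subtype_commutator]
      exact hz'E
    have hzl : IsPGroup l (zpowers zH) := IsPGroup.of_card (n := 1) (by
      rw [Nat.card_zpowers, pow_one, ← hz'o]
      exact (orderOf_injective H.subtype H.subtype_injective zH).symm)
    obtain ⟨Q, hQ⟩ := hzl.exists_le_sylow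
    let g : (Q : Subgroup H) →* M ⧸ O := π.comp (H.subtype.comp (Q : Subgroup H).subtype)
    have hker : g.ker ≤ Subgroup.center (Q : Subgroup H) := by
      intro x hx
      refine Subgroup.mem_center_iff.2 fun y => Subtype.ext (Subtype.ext ?_)
      exact (hHO _ y.1.2 _ ((QuotientGroup.eq_one_iff _).1 hx)).eq
    haveI : IsCyclic g.range := by
      have hle : g.range ≤ K := by rintro _ ⟨x, rfl⟩; exact x.1.2
      have hd : Nat.card g.range ∣ 60 := hK60 ▸ Subgroup.card_dvd_of_le hle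
      obtain ⟨k, hk⟩ := IsPGroup.iff_card.1 (IsPGroup.of_surjective Q.2 g.rangeRestrict g.rangeRestrict_surjective)
      have hk1 : k = 0 ∨ k = 1 := by
        rw [hk] at hd
        by_contra hk2
        have h1 : l ^ 2 ∣ 60 := (pow_dvd_pow l (by omega)).trans hd
        have h2 : l * l ≤ 60 := by rw [← pow_two]; exact Nat.le_of_dvd (by norm_num) h1
        have h3 : l ≤ 7 := by nlinarith
        have := hl.two_le
        interval_cases l <;> first | exact hl2 rfl | (revert h1 hl; norm_num)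
      rcases hk1 with rfl | rfl
      · haveI : Subsingleton g.range := (Nat.card_eq_one_iff_unique.1 (by rw [hk, pow_zero])).1
        exact isCyclic_of_subsingleton
      · exact isCyclic_of_prime_card (p := l) (by rw [hk, pow_one])
    haveI : IsMulCommutative (Q : Subgroup H) :=
      MonoidHom.isMulCommutative_of_isCyclic_of_ker_le_center g.rangeRestrict
        (by rw [g.ker_rangeRestrict]; exact hker)
    have := eq_one_of_central_commutator Q inferInstance hzc (hQ (mem_zpowers zH)) hzcom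
    have hz'1 : z' = 1 := congrArg Subtype.val this
    rw [hz'1, orderOf_one] at hz'o
    exact hl.one_lt.ne hz'o

set_option maxHeartbeats 1000000 in
set_option linter.unusedVariables false in
theorem four_cent_structure {M : Type u} [Group M] [Finite M] {a b s : M} {Y : Subgroup M}
    (ha : orderOf a = 2) (hb : orderOf b = 2) (hab : Commute a b) (hne : a ≠ b) (h8 : ¬ 8 ∣ Nat.card M)
    (hY : Odd (Nat.card Y)) (hYcyc : IsCyclic Y) (hYab : ∀ y ∈ Y, Commute y a ∧ Commute y b)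
    (hcent : ∀ v : M, (v = a ∨ v = b ∨ v = a * b) → ∀ x, Commute x v →
      ∃ i j : Fin 2, ∃ y ∈ Y, x = a ^ (i : ℕ) * b ^ (j : ℕ) * y)
    (hs3 : s ^ 3 = 1) (hsa : s * a * s⁻¹ = b) (hsb : s * b * s⁻¹ = a * b)
    (hsY : ∀ y ∈ Y, s * y * s⁻¹ ∈ Y) :
    (∀ x : M, ∃ (k : Fin 3) (i j : Fin 2), ∃ y ∈ Y,
      x = s ^ (k : ℕ) * (a ^ (i : ℕ) * b ^ (j : ℕ) * y)) ∨
    ∃ φ : alternatingGroup (Fin 5) →* M, Function.Injective φ ∧ a ∈ φ.range ∧ b ∈ φ.range ∧
      (∀ r, ∀ y ∈ Y, Commute (φ r) y) ∧ (∀ x, ∃ r, ∃ y ∈ Y, x = φ r * y) := by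
  classical
  haveI : Fact (Nat.Prime 2) := ⟨Nat.prime_two⟩
  have ha2 : a * a = 1 := by rw [← pow_two, ← ha, pow_orderOf_eq_one]
  have hb2 : b * b = 1 := by rw [← pow_two, ← hb, pow_orderOf_eq_one]
  have ha1 : a ≠ 1 := fun e => by simp [e] at ha
  have hb1 : b ≠ 1 := fun e => by simp [e] at hb
  have hai : a⁻¹ = a := inv_eq_of_mul_eq_one_right ha2
  have hab1 : a * b ≠ 1 := fun e => hne (by rw [eq_inv_of_mul_eq_one_left e, inv_eq_of_mul_eq_one_right hb2])
  have hab2 : a * b * (a * b) = 1 := by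
    rw [show a * b * (a * b) = a * (b * a) * b by group, ← hab.eq, ← mul_assoc, ha2, one_mul, hb2]
  -- the four-group
  let V : Subgroup M :=
    { carrier := {x | ∃ i j : Fin 2, x = a ^ (i : ℕ) * b ^ (j : ℕ)}
      one_mem' := ⟨0, 0, by simp⟩
      mul_mem' := by
        rintro x y ⟨i, j, rfl⟩ ⟨k, l, rfl⟩
        refine ⟨i + k, j + l, ?_⟩
        have h : Commute (b ^ (j : ℕ)) (a ^ (k : ℕ)) := (hab.symm.pow_pow _ _)
        rw [show a ^ (i : ℕ) * b ^ (j : ℕ) * (a ^ (k : ℕ) * b ^ (l : ℕ)) =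
            a ^ (i : ℕ) * (b ^ (j : ℕ) * a ^ (k : ℕ)) * b ^ (l : ℕ) by group, h.eq,
          show a ^ (i : ℕ) * (a ^ (k : ℕ) * b ^ (j : ℕ)) * b ^ (l : ℕ) =
            (a ^ (i : ℕ) * a ^ (k : ℕ)) * (b ^ (j : ℕ) * b ^ (l : ℕ)) by group, ← pow_add, ← pow_add]
        fin_cases i <;> fin_cases k <;> fin_cases j <;> fin_cases l <;> simp [pow_two, ha2, hb2]
      inv_mem' := by
        rintro x ⟨i, j, rfl⟩
        refine ⟨i, j, inv_eq_of_mul_eq_one_right ?_⟩
        fin_cases i <;> fin_cases j <;> simp [ha2, hb2, hab2] }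
  have hVmem : ∀ x, x ∈ V ↔ x = 1 ∨ x = a ∨ x = b ∨ x = a * b := by
    intro x
    constructor
    · rintro ⟨i, j, rfl⟩
      fin_cases i <;> fin_cases j <;> simp
    · rintro (rfl | rfl | rfl | rfl)
      exacts [one_mem V, ⟨1, 0, by simp⟩, ⟨0, 1, by simp⟩, ⟨1, 1, by simp⟩]
  have haV : a ∈ V := (hVmem a).2 (by simp)
  have hbV : b ∈ V := (hVmem b).2 (by simp)
  have hVsq : ∀ x ∈ V, x * x = 1 := fun x hx => by
    rcases (hVmem x).1 hx with rfl | rfl | rfl | rfl <;> simp [ha2, hb2, hab2]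
  have hV4 : Nat.card V = 4 := by
    have : (V : Set M) = ↑({1, a, b, a * b} : Finset M) := by
      ext x
      simp [SetLike.mem_coe, hVmem x]
    rw [show Nat.card V = Nat.card (V : Set M) from rfl, this, Nat.card_coe_set_eq, Set.ncard_coe_finset,
      Finset.card_insert_of_notMem (by simp [Ne.symm ha1, Ne.symm hb1, Ne.symm hab1]),
      Finset.card_insert_of_notMem (by
        simp only [Finset.mem_insert, Finset.mem_singleton, not_or]
        exact ⟨hne, fun e => hb1 (mul_left_cancel (a := a) (by rw [← e, mul_one]))⟩),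
      Finset.card_insert_of_notMem (by
        simp only [Finset.mem_singleton]
        exact fun e => ha1 (mul_right_cancel (b := b) (by rw [← e, one_mul]))), Finset.card_singleton]
  have hYV : ∀ y ∈ Y, ∀ v ∈ V, Commute y v := fun y hy v hv => by
    obtain ⟨i, j, rfl⟩ := hv
    exact ((hYab y hy).1.pow_right _).mul_right ((hYab y hy).2.pow_right _)
  have hcent' : ∀ v ∈ V, v ≠ 1 → ∀ x, Commute x v → ∃ w ∈ V, ∃ y ∈ Y, x = w * y := by
    intro v hv hv1 x hx
    obtain ⟨i, j, y, hy, rfl⟩ := hcent v (((hVmem v).1 hv).resolve_left hv1) x hx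
    exact ⟨_, ⟨i, j, rfl⟩, y, hy, rfl⟩
  have hYy2 : ∀ y ∈ Y, y * y = 1 → y = 1 := fun y hy h => by
    refine orderOf_eq_one_iff.1 (Nat.eq_one_of_dvd_coprimes (Nat.coprime_two_left.2 hY)
      (orderOf_dvd_of_pow_eq_one (by rw [pow_two, h])) (Y.orderOf_dvd_natCard hy))
  -- the odd core
  set O := Cfsg.oddCore M with hO
  have hodd := CfsgLib.odd_card_oddCore (G := M)
  have hnc : ¬ IsCyclic V := fun hc => by
    obtain ⟨g, hg⟩ := hc
    have h4 : orderOf g = 4 := by rw [orderOf_eq_card_of_forall_mem_zpowers hg, hV4]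
    have h2 : g ^ 2 = 1 := by rw [pow_two]; exact Subtype.ext (hVsq _ g.2)
    have := Nat.le_of_dvd (by norm_num) (orderOf_dvd_of_pow_eq_one h2)
    omega
  haveI hVab : IsMulCommutative V := ⟨⟨fun x y => Subtype.ext (by
    obtain ⟨i, j, hx⟩ := x.2
    obtain ⟨k, l, hy⟩ := y.2
    show (x : M) * y = y * x
    rw [hx, hy]
    exact ((((Commute.refl a).pow_pow _ _).mul_left (hab.symm.pow_pow _ _)).mul_right
      ((hab.pow_pow _ _).mul_left ((Commute.refl b).pow_pow _ _))).eq)⟩⟩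
  have hOY : O ≤ Y := by
    have hgen := CfsgLib.coprime_generated_by_centralizers (A := V) (K := O) hnc
      (by rw [Subgroup.normalizer_eq_top]; exact le_top)
      (by rw [hV4]; exact (Nat.Coprime.pow_left 2 (Nat.coprime_two_left.2 hodd) : Nat.Coprime (2 ^ 2) _))
    refine hgen.ge.trans (iSup_le fun v => iSup_le fun hv => fun x hx => ?_)
    obtain ⟨hxO, hxv⟩ := hx
    obtain ⟨w, hw, y, hy, rfl⟩ := hcent' v hv.1 hv.2 x (Subgroup.mem_centralizer_singleton_iff.1 hxv)
    have hw1 : w = 1 := by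
      obtain ⟨k, hk⟩ := hodd.mul hY
      have h1 : (w * y) ^ (Nat.card O * Nat.card Y) = 1 := orderOf_dvd_iff_pow_eq_one.1
        ((O.orderOf_dvd_natCard hxO).trans (dvd_mul_right _ _))
      have h2 : y ^ (Nat.card O * Nat.card Y) = 1 := orderOf_dvd_iff_pow_eq_one.1
        ((Y.orderOf_dvd_natCard hy).trans (dvd_mul_left _ _))
      rw [(hYV y hy w hw).symm.mul_pow, h2, mul_one, hk, pow_succ, pow_mul, pow_two, hVsq w hw, one_pow,
        one_mul] at h1
      exact h1
    rw [hw1, one_mul]; exact hy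
  -- the quotient
  set π := QuotientGroup.mk' O with hπ
  set U := V.map π with hU
  have hπV : ∀ v ∈ V, π v = 1 → v = 1 := fun v hv e =>
    hYy2 v (hOY ((QuotientGroup.eq_one_iff v).1 e)) (hVsq v hv)
  have hU4 : Nat.card U = 4 := by
    rw [← hV4]
    refine (Nat.card_congr (Equiv.ofBijective (fun v : V => (⟨π v, v, v.2, rfl⟩ : U)) ⟨fun v w e => ?_, ?_⟩)).symm
    · have e' : π v = π w := congrArg Subtype.val e
      have h := hπV _ (mul_mem (inv_mem v.2) w.2) (by rw [map_mul, map_inv, e', inv_mul_cancel])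
      exact Subtype.ext (inv_mul_eq_one.1 h)
    · rintro ⟨_, v, hv, rfl⟩
      exact ⟨⟨v, hv⟩, rfl⟩
  have hlift : ∀ v ∈ V, ∀ o ∈ O, ∀ w : M, w = v * o → w * w = 1 → w = v := by
    intro v hv o ho w e h
    have h2 : o * o = 1 := by
      rw [e, show v * o * (v * o) = v * (o * v) * o by group, (hYV o (hOY ho) v hv).eq,
        show v * (v * o) * o = (v * v) * (o * o) by group, hVsq v hv, one_mul] at h
      exact h
    rw [e, hYy2 o (hOY ho) h2, mul_one]
  have hCq : ∀ v ∈ V, v ≠ 1 → ∀ g, Commute (π g) (π v) → ∃ w ∈ V, ∃ y ∈ Y, g = w * y := by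
    intro v hv hv1 g hg
    refine hcent' v hv hv1 g ?_
    have he : π (v⁻¹ * (g * v * g⁻¹)) = 1 := by
      rw [map_mul, map_mul, map_mul, map_inv, map_inv, hg.eq, mul_inv_cancel_right, inv_mul_cancel]
    have hw := hlift v hv _ ((QuotientGroup.eq_one_iff _).1 he) (g * v * g⁻¹) (by group)
      (by rw [show g * v * g⁻¹ * (g * v * g⁻¹) = g * (v * v) * g⁻¹ by group, hVsq v hv]; group)
    exact mul_inv_eq_iff_eq_mul.1 hw
  have hUsq : ∀ u ∈ U, u * u = 1 := by rintro _ ⟨v, hv, rfl⟩; rw [← map_mul, hVsq v hv, map_one]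
  have hUab : ∀ x : M ⧸ O, ∀ u ∈ U, u ≠ 1 → Commute x u → ∀ z : M ⧸ O, Commute z u → Commute x z := by
    rintro x u ⟨v, hv, rfl⟩ hu1 hx z hz
    obtain ⟨g, rfl⟩ := QuotientGroup.mk'_surjective O x
    obtain ⟨h, rfl⟩ := QuotientGroup.mk'_surjective O z
    have hv1 : v ≠ 1 := fun e => hu1 (by rw [e, map_one])
    obtain ⟨w, hw, y, hy, rfl⟩ := hCq v hv hv1 g hx
    obtain ⟨w', hw', y', hy', rfl⟩ := hCq v hv hv1 h hz
    have hc : Commute (w * y) (w' * y') := by
      haveI := hYcyc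
      have h1 : Commute w w' := congrArg Subtype.val (hVab.1.comm ⟨w, hw⟩ ⟨w', hw'⟩)
      have h2 : Commute y y' := congrArg Subtype.val ((IsCyclic.isMulCommutative (α := Y)).1.comm ⟨y, hy⟩ ⟨y', hy'⟩)
      exact ((h1.mul_right (hYV y' hy' w hw).symm).mul_left ((hYV y hy w' hw').mul_right h2))
    exact hc.map π
  have hUinv : ∀ u ∈ U, u ≠ 1 → ∀ x, Commute x u → x * x = 1 → x ∈ U := by
    rintro _ ⟨v, hv, rfl⟩ hu1 x hx hxx
    obtain ⟨g, rfl⟩ := QuotientGroup.mk'_surjective O x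
    have hv1 : v ≠ 1 := fun e => hu1 (by rw [e, map_one])
    obtain ⟨w, hw, y, hy, rfl⟩ := hCq v hv hv1 g hx
    have hz : y * y ∈ O := by
      refine (QuotientGroup.eq_one_iff _).1 ?_
      show π (y * y) = 1
      rw [← hxx, ← map_mul]
      congr 1
      rw [show w * y * (w * y) = w * (y * w) * y by group, (hYV y hy w hw).eq,
        show w * (w * y) * y = (w * w) * (y * y) by group, hVsq w hw, one_mul]
    have hy' : y ∈ O := by
      obtain ⟨m, hm⟩ := hY
      have h' : y ^ Nat.card Y = 1 := orderOf_dvd_iff_pow_eq_one.1 (Y.orderOf_dvd_natCard hy)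
      rw [hm, pow_succ, pow_mul, pow_two] at h'
      rw [eq_inv_of_mul_eq_one_right h']
      exact inv_mem (pow_mem hz m)
    refine ⟨w, hw, ?_⟩
    show π w = π (w * y)
    rw [map_mul, show π y = 1 from (QuotientGroup.eq_one_iff _).2 hy', mul_one]
  obtain ⟨P, hUP⟩ := (IsPGroup.of_card (p := 2) (n := 2) (by rw [hU4]; rfl) : IsPGroup 2 U).exists_le_sylow
  have h8q : ¬ 8 ∣ Nat.card (M ⧸ O) := fun h => h8 (h.trans (Subgroup.card_quotient_dvd_card O))
  have hPU : (P : Subgroup (M ⧸ O)) = U := by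
    refine (Subgroup.eq_of_le_of_card_ge hUP ?_).symm
    obtain ⟨k, hk⟩ := IsPGroup.iff_card.1 P.2
    rw [hU4, hk]
    by_contra hlt
    push Not at hlt
    have h3 : 3 ≤ k := by
      by_contra h
      have := Nat.pow_le_pow_right two_pos (show k ≤ 2 by omega)
      omega
    exact h8q ((show (8 : ℕ) ∣ 2 ^ k from (show (8 : ℕ) = 2 ^ 3 from rfl) ▸ pow_dvd_pow 2 h3).trans
      (hk ▸ Subgroup.card_subgroup_dvd_card _))
  have hinvU : ∀ x : M ⧸ O, x * x = 1 → ∃ g, g * x * g⁻¹ ∈ U := by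
    intro x hx
    have h2 : IsPGroup 2 (zpowers x) := by
      rcases (Nat.dvd_prime Nat.prime_two).1 (orderOf_dvd_of_pow_eq_one (show x ^ 2 = 1 by rw [pow_two, hx])) with h | h
      · exact IsPGroup.of_card (n := 0) (by rw [Nat.card_zpowers, h]; rfl)
      · exact IsPGroup.of_card (n := 1) (by rw [Nat.card_zpowers, h]; rfl)
    obtain ⟨Q, hQ⟩ := h2.exists_le_sylow
    obtain ⟨g, hg⟩ := MulAction.exists_smul_eq (M ⧸ O) Q P
    refine ⟨g, ?_⟩
    rw [← hPU, ← hg, Sylow.coe_subgroup_smul]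
    exact ⟨x, hQ (mem_zpowers x), rfl⟩
  have hUne : ∀ u ∈ U, u ≠ 1 → u = π a ∨ u = π b ∨ u = π a * π b := by
    rintro _ ⟨v, hv, rfl⟩ h
    rcases (hVmem v).1 hv with rfl | rfl | rfl | rfl
    · exact absurd (map_one π) h
    · exact Or.inl rfl
    · exact Or.inr (Or.inl rfl)
    · exact Or.inr (Or.inr (map_mul π a b))
  have hπs : π s * π a * (π s)⁻¹ = π b ∧ π s * π b * (π s)⁻¹ = π a * π b := by
    rw [← map_inv, ← map_mul, ← map_mul, ← map_mul, ← map_mul, ← map_mul, hsa, hsb]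
    exact ⟨rfl, rfl⟩
  have hsab : π s * (π a * π b) * (π s)⁻¹ = π a := by
    calc π s * (π a * π b) * (π s)⁻¹ = (π s * π a * (π s)⁻¹) * (π s * π b * (π s)⁻¹) := by group
      _ = π a := by
        rw [hπs.1, hπs.2, ← map_mul, ← map_mul, hab.eq, ← mul_assoc, hb2, one_mul]
  have haU : π a ∈ U := ⟨a, haV, rfl⟩
  have hbU : π b ∈ U := ⟨b, hbV, rfl⟩
  have hπa1 : π a ≠ 1 := fun e => ha1 (hπV a haV e)
  have hOq : Cfsg.oddCore (M ⧸ O) = ⊥ := CfsgLib.pPrimeCore_quotient_eq_bot 2
  let D : FourData (M ⧸ O) :=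
    { U := U, P := P, s := π s, hPU := hPU, card_U := hU4, sq := hUsq, core := hOq
      s3 := by rw [← map_pow, hs3, map_one]
      s_mem := fun u hu => by
        rcases eq_or_ne u 1 with e | e
        · rw [e, mul_one, mul_inv_cancel]; exact one_mem U
        rcases hUne u hu e with e | e | e <;> rw [e]
        exacts [by rw [hπs.1]; exact hbU, by rw [hπs.2]; exact mul_mem haU hbU, by rw [hsab]; exact haU]
      s_free := fun u hu hu1 e => by
        rcases hUne u hu hu1 with h | h | h <;> rw [h] at e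
        · rw [hπs.1] at e
          exact hab1 (hπV _ (mul_mem haV hbV) (by rw [map_mul, e, ← map_mul, ha2, map_one]))
        · rw [hπs.2] at e
          exact hπa1 (mul_eq_right.1 e)
        · rw [hsab] at e
          exact hb1 (hπV b hbV (left_eq_mul.1 e))
      cent_ab := fun u hu hu1 x z hx hz => hUab x u hu hu1 hx z hz
      cent_inv := hUinv }
  set K := D.K with hK
  haveI hKn : K.Normal := D.K_normal
  have hUK : U ≤ K := D.U_le_K
  have hmin : ∀ N : Subgroup (M ⧸ O), N.Normal → N ≠ ⊥ → K ≤ N := fun N hN h => D.minimal hN h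
  by_cases hKab : ∀ x ∈ K, ∀ y ∈ K, x * y = y * x
  · left
    have hKU : K = U := D.eq_of_comm hKab
    haveI hUn : U.Normal := hKU ▸ Subgroup.normalClosure_normal
    intro x
    have hmem : π (x * a * x⁻¹) ∈ U := by
      rw [map_mul, map_mul, map_inv]
      exact hUn.conj_mem _ haU (π x)
    obtain ⟨v, hv, hve⟩ := hmem
    have hw := hlift v hv (v⁻¹ * (x * a * x⁻¹))
      ((QuotientGroup.eq_one_iff _).1 (by
        show π (v⁻¹ * (x * a * x⁻¹)) = 1
        rw [map_mul, map_inv, ← hve, inv_mul_cancel])) (x * a * x⁻¹) (by group)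
      (by rw [show x * a * x⁻¹ * (x * a * x⁻¹) = x * (a * a) * x⁻¹ by group, ha2]; group)
    obtain ⟨k, hk⟩ : ∃ k : Fin 3, s ^ (k : ℕ) * a * (s ^ (k : ℕ))⁻¹ = x * a * x⁻¹ := by
      rw [hw]
      rcases (hVmem v).1 hv with rfl | rfl | rfl | rfl
      · exact absurd (conj_eq_one_iff.1 hw) ha1
      · exact ⟨0, by simp⟩
      · exact ⟨1, by simpa using hsa⟩
      · refine ⟨2, ?_⟩
        show s ^ 2 * a * (s ^ 2)⁻¹ = a * b
        rw [← hsb, ← hsa, pow_two]; group
    obtain ⟨i, j, y, hy, hxy⟩ := hcent a (Or.inl rfl) ((s ^ (k : ℕ))⁻¹ * x) (by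
      show (s ^ (k : ℕ))⁻¹ * x * a = a * ((s ^ (k : ℕ))⁻¹ * x)
      calc (s ^ (k : ℕ))⁻¹ * x * a = (s ^ (k : ℕ))⁻¹ * (x * a * x⁻¹) * x := by group
        _ = a * ((s ^ (k : ℕ))⁻¹ * x) := by rw [← hk]; group)
    exact ⟨k, i, j, y, hy, by rw [← hxy, mul_inv_cancel_left]⟩
  · right
    haveI := D.simple hKab
    have haK : π a ∈ K := hUK haU
    obtain ⟨e⟩ := D.recognise hKab
    obtain ⟨f5, c5⟩ := alt5_facts
    -- the preimage and its derived group
    set H := K.comap π with hH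
    have hHO : ∀ h ∈ H, ∀ o ∈ O, Commute h o := by
      intro h hh o ho
      have hle : K ≤ (Subgroup.centralizer (O : Set M)).map π := by
        refine hmin _ ((inferInstance : (Subgroup.centralizer (O : Set M)).Normal).map _
          (QuotientGroup.mk'_surjective O)) fun e => hπa1 ?_
        exact (Subgroup.mem_bot).1 (e ▸ ⟨a, Subgroup.mem_centralizer_iff.2 fun o ho =>
          ((hYab o (hOY ho)).1).eq, rfl⟩)
      obtain ⟨c, hc, hce⟩ := hle hh
      have hd : c⁻¹ * h ∈ O := (QuotientGroup.eq_one_iff _).1 (by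
        show π (c⁻¹ * h) = 1
        rw [map_mul, map_inv, hce, inv_mul_cancel])
      rw [show h = c * (c⁻¹ * h) by group]
      refine Commute.mul_left (show c * o = o * c from (Subgroup.mem_centralizer_iff.1 hc o ho).symm) ?_
      haveI := hYcyc
      exact congrArg Subtype.val ((IsCyclic.isMulCommutative (α := Y)).1.comm ⟨_, hOY hd⟩ ⟨o, hOY ho⟩)
    have hK60 : Nat.card K = 60 := by rw [Nat.card_congr e.toEquiv, Nat.card_eq_fintype_card]; rfl
    have hperf : ⁅K, K⁆ = K := le_antisymm (Subgroup.commutator_le_self K) (hmin _ inferInstance fun h0 =>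
      hKab fun x hx y hy => commutatorElement_eq_one_iff_mul_comm.1
        (Subgroup.mem_bot.1 (h0 ▸ Subgroup.commutator_mem_commutator hx hy)))
    obtain ⟨E, hEn, hEK, hEO⟩ := central_split hodd K hK60 hperf hHO
    haveI := hEn
    have hEH : E ≤ H := fun x hx => show π x ∈ K by rw [← hEK]; exact ⟨x, hx, rfl⟩
    have hbij : Function.Bijective (fun x : E => (⟨π x, hEH x.2⟩ : K)) := by
      refine ⟨fun x y exy => ?_, ?_⟩
      · have e' : π x = π y := congrArg Subtype.val exy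
        have := hEO _ (mul_mem (inv_mem x.2) y.2) ((QuotientGroup.eq_one_iff _).1 (by
          show π ((x : M)⁻¹ * y) = 1
          rw [map_mul, map_inv, e', inv_mul_cancel]))
        exact Subtype.ext (inv_mul_eq_one.1 this)
      · rintro ⟨x, hx⟩
        rw [← hEK] at hx
        obtain ⟨w, hw, rfl⟩ := hx
        exact ⟨⟨w, hw⟩, rfl⟩
    let ψ : E ≃* K := MulEquiv.ofBijective
      ({ toFun := fun x => (⟨π x, hEH x.2⟩ : K), map_one' := Subtype.ext (map_one π),
         map_mul' := fun x y => Subtype.ext (map_mul π _ _) } : E →* K) hbij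
    let ω : E ≃* alternatingGroup (Fin 5) := ψ.trans e
    have hVE : ∀ v ∈ V, v ∈ E := by
      intro v hv
      have : π v ∈ E.map π := hEK ▸ hUK ⟨v, hv, rfl⟩
      obtain ⟨r, hr, hre⟩ := this
      have hd : v⁻¹ * r ∈ O := (QuotientGroup.eq_one_iff _).1 (by
        show π (v⁻¹ * r) = 1
        rw [map_mul, map_inv, hre, inv_mul_cancel])
      have hrr : r * r = 1 := hEO _ (mul_mem hr hr) ((QuotientGroup.eq_one_iff _).1 (by
        show π (r * r) = 1
        rw [map_mul, hre, ← map_mul, hVsq v hv, map_one]))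
      have := hlift v hv _ hd r (by group) hrr
      exact this ▸ hr
    have hcentE : ∀ v ∈ V, v ≠ 1 → ∀ x ∈ E, Commute x v → x ∈ V := by
      intro v hv hv1 x hx hc
      obtain ⟨w, hw, y, hy, rfl⟩ := hcent' v hv hv1 x hc
      have h := f5 (ω ⟨v, hVE v hv⟩)
        (by rw [← map_mul, show (⟨v, hVE v hv⟩ : E) * ⟨v, hVE v hv⟩ = 1 from Subtype.ext (hVsq v hv), map_one])
        (fun e => hv1 (congrArg Subtype.val ((EquivLike.injective ω) (e.trans (map_one ω).symm))))
        (ω ⟨w * y, hx⟩) (by rw [← map_mul, ← map_mul]; exact congrArg ω (Subtype.ext hc.eq))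
      rw [← map_mul, ← map_one ω] at h
      have h2 : w * y * (w * y) = 1 := congrArg Subtype.val (EquivLike.injective ω h)
      rw [show w * y * (w * y) = w * (y * w) * y by group, (hYV y hy w hw).eq,
        show w * (w * y) * y = (w * w) * (y * y) by group, hVsq w hw, one_mul] at h2
      rw [hYy2 y hy h2, mul_one]; exact hw
    have hYE : ∀ y ∈ Y, ∀ x ∈ E, Commute y x := by
      intro y hy x hx
      haveI : Nontrivial E := ω.toEquiv.nontrivial
      haveI : IsSimpleGroup E := ψ.isSimpleGroup_congr.2 inferInstance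
      have h60 : Nat.card E = 60 := (Nat.card_congr ψ.toEquiv).trans hK60
      have hfix := klein_auto_trivial (E := E) h60 (V := V.subgroupOf E)
        (by rw [Nat.card_congr (Subgroup.subgroupOfEquivOfLe fun v hv => hVE v hv).toEquiv, hV4])
        (fun v hv hv1 g hg => hcentE v hv (fun e => hv1 (Subtype.ext e)) g g.2 (congrArg Subtype.val hg))
        (fun v hv w hw => Subtype.ext (congrArg Subtype.val (hVab.1.comm ⟨v, hv⟩ ⟨w, hw⟩) :))
        (MulAut.conjNormal y) (fun v hv => Subtype.ext (by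
          rw [MulAut.conjNormal_apply]; exact mul_inv_eq_iff_eq_mul.2 (hYV y hy _ hv).eq))
        hY (by
          rw [← map_pow, orderOf_dvd_iff_pow_eq_one.1 (Y.orderOf_dvd_natCard hy), map_one])
      have h := congrArg Subtype.val (MulEquiv.congr_fun hfix ⟨x, hx⟩)
      rw [MulAut.conjNormal_apply] at h
      exact mul_inv_eq_iff_eq_mul.1 h
    refine ⟨E.subtype.comp ω.symm.toMonoidHom, E.subtype_injective.comp ω.symm.injective,
      ⟨ω ⟨a, hVE a haV⟩, by simp⟩, ⟨ω ⟨b, hVE b hbV⟩, by simp⟩, fun r y hy => (hYE y hy _ (ω.symm r).2).symm, ?_⟩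
    intro x
    have haE := hVE a haV
    have hxa : x * a * x⁻¹ ∈ E := hEn.conj_mem a haE x
    obtain ⟨g, hg⟩ := c5 (ω ⟨a, haE⟩) (ω ⟨_, hxa⟩)
      (by rw [← map_mul, show (⟨a, haE⟩ : E) * ⟨a, haE⟩ = 1 from Subtype.ext ha2, map_one])
      (fun e => ha1 (congrArg Subtype.val ((EquivLike.injective ω) (e.trans (map_one ω).symm))))
      (by rw [← map_mul, show (⟨_, hxa⟩ : E) * ⟨_, hxa⟩ = 1 from Subtype.ext (show x * a * x⁻¹ * (x * a * x⁻¹) = 1 by
        rw [show x * a * x⁻¹ * (x * a * x⁻¹) = x * (a * a) * x⁻¹ by group, ha2]; group), map_one])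
      (fun e => by
        have h1 : x * a * x⁻¹ = 1 := congrArg Subtype.val ((EquivLike.injective ω) (e.trans (map_one ω).symm))
        exact ha1 (conj_eq_one_iff.1 h1))
    set r : E := ω.symm g
    have hr : (r : M) * a * (r : M)⁻¹ = x * a * x⁻¹ := by
      have h := congrArg ω.symm hg
      rw [map_mul, map_mul, map_inv, ω.symm_apply_apply, ω.symm_apply_apply] at h
      exact congrArg Subtype.val h
    obtain ⟨i, j, y, hy, hxy⟩ := hcent a (Or.inl rfl) ((r : M)⁻¹ * x) (by
      show (r : M)⁻¹ * x * a = a * ((r : M)⁻¹ * x)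
      calc (r : M)⁻¹ * x * a = (r : M)⁻¹ * (x * a * x⁻¹) * x := by group
        _ = a * ((r : M)⁻¹ * x) := by rw [← hr]; group)
    refine ⟨ω (r * ⟨a ^ (i : ℕ) * b ^ (j : ℕ), hVE _ ⟨i, j, rfl⟩⟩), y, hy, ?_⟩
    show x = ((ω.symm (ω _) : E) : M) * y
    rw [ω.symm_apply_apply, Subgroup.coe_mul, mul_assoc, ← hxy, mul_inv_cancel_left]

end CfsgLib.JankoThompson
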