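import Cfsg.Agent.Lib.JankoThompson.FourTools

/-!
A group without odd core, with a Sylow four-group whose involutions have abelian centralisers and are fused:
the normal closure of the four-group is the four-group or `A₅`.
-/

set_option autoImplicit false
set_option linter.unusedSectionVars false
set_option linter.style.haveILetI false

namespace CfsgLib.JankoThompson

open Subgroup

universe u

/-- The hypotheses. -/
structure FourData (Q : Type u) [Group Q] where
  U : Subgroup Q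
  P : Sylow 2 Q
  s : Q
  hPU : (P : Subgroup Q) = U
  card_U : Nat.card U = 4
  sq : ∀ u ∈ U, u * u = 1
  s3 : s ^ 3 = 1
  s_mem : ∀ u ∈ U, s * u * s⁻¹ ∈ U
  s_free : ∀ u ∈ U, u ≠ 1 → s * u * s⁻¹ ≠ u
  cent_ab : ∀ u ∈ U, u ≠ 1 → ∀ x z, Commute x u → Commute z u → Commute x z
  cent_inv : ∀ u ∈ U, u ≠ 1 → ∀ x, Commute x u → x * x = 1 → x ∈ U
  core : Cfsg.oddCore Q = ⊥

/-- An element squaring to one is conjugate into a given Sylow 2-subgroup. -/
theorem exists_conj_mem_sylow {Q : Type u} [Group Q] [Finite Q] (P : Sylow 2 Q) {x : Q} (hx : x * x = 1) :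
    ∃ g, g * x * g⁻¹ ∈ (P : Subgroup Q) := by
  haveI : Fact (Nat.Prime 2) := ⟨Nat.prime_two⟩
  have h2 : IsPGroup 2 (zpowers x) := by
    rcases (Nat.dvd_prime Nat.prime_two).1 (orderOf_dvd_of_pow_eq_one (show x ^ 2 = 1 by rw [pow_two, hx]))
      with h | h
    · exact IsPGroup.of_card (n := 0) (by rw [Nat.card_zpowers, h]; rfl)
    · exact IsPGroup.of_card (n := 1) (by rw [Nat.card_zpowers, h]; rfl)
  obtain ⟨R, hR⟩ := h2.exists_le_sylow
  obtain ⟨g, hg⟩ := MulAction.exists_smul_eq Q R P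
  refine ⟨g, ?_⟩
  rw [← hg, Sylow.coe_subgroup_smul]
  exact ⟨x, hR (mem_zpowers x), rfl⟩

/-- A non-trivial normal subgroup of a group without odd core meets a given Sylow 2-subgroup. -/
theorem exists_mem_sylow_of_core {Q : Type u} [Group Q] [Finite Q] (hcore : Cfsg.oddCore Q = ⊥) (P : Sylow 2 Q)
    {N : Subgroup Q} (hN : N.Normal) (hbot : N ≠ ⊥) :
    ∃ u ∈ N, u ∈ (P : Subgroup Q) ∧ u ≠ 1 := by
  haveI := hN
  have h2 : 2 ∣ Nat.card N := by
    by_contra h
    exact hbot (le_bot_iff.1 (hcore ▸ CfsgLib.le_oddCore (Nat.odd_iff.2 (Nat.two_dvd_ne_zero.1 h))))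
  haveI : Fact (Nat.Prime 2) := ⟨Nat.prime_two⟩
  obtain ⟨x, hx⟩ := exists_prime_orderOf_dvd_card' 2 h2
  have hx2 : (x : Q) * x = 1 := by
    have := congrArg Subtype.val (pow_orderOf_eq_one x)
    rwa [hx, pow_two] at this
  obtain ⟨g, hg⟩ := exists_conj_mem_sylow P hx2
  refine ⟨_, hN.conj_mem _ x.2 g, hg, fun e => ?_⟩
  rw [conj_eq_one_iff] at e
  rw [show x = 1 from Subtype.ext e, orderOf_one] at hx
  norm_num at hx

namespace FourData

variable {Q : Type u} [Group Q] [Finite Q] (D : FourData Q)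

/-- A subgroup containing two distinct involutions of `U` contains `U`. -/
theorem le_of_two {W : Subgroup Q} {u v : Q} (hu : u ∈ D.U) (hu' : u ∈ W) (hv : v ∈ D.U) (hv' : v ∈ W)
    (hu1 : u ≠ 1) (hv1 : v ≠ 1) (huv : u ≠ v) : D.U ≤ W := by
  have h3 : 2 < Nat.card (W ⊓ D.U : Subgroup Q) := by
    by_contra h
    classical
    haveI : Fintype (W ⊓ D.U : Subgroup Q) := Fintype.ofFinite _
    rw [Nat.card_eq_fintype_card] at h
    refine h (Fintype.two_lt_card_iff.2 ⟨⟨1, one_mem _⟩, ⟨u, ⟨hu', hu⟩⟩, ⟨v, ⟨hv', hv⟩⟩, ?_, ?_, ?_⟩)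
    · exact fun e => hu1 (congrArg Subtype.val e).symm
    · exact fun e => hv1 (congrArg Subtype.val e).symm
    · exact fun e => huv (congrArg Subtype.val e)
  have hd : Nat.card (W ⊓ D.U : Subgroup Q) ∣ 4 := D.card_U ▸ Subgroup.card_dvd_of_le inf_le_right
  have h4 : Nat.card (W ⊓ D.U : Subgroup Q) = 4 := by
    have := Nat.le_of_dvd (by norm_num) hd
    rcases hd with ⟨c, hc⟩
    rcases (show c = 0 ∨ c = 1 ∨ 2 ≤ c by omega) with rfl | rfl | hc2
    · omega
    · omega
    · nlinarith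
  rw [← Subgroup.eq_of_le_of_card_ge (inf_le_right : W ⊓ D.U ≤ D.U) (by rw [h4, D.card_U])]
  exact inf_le_left

/-- The normal closure of `U`. -/
def K : Subgroup Q := Subgroup.normalClosure (D.U : Set Q)

instance K_normal : D.K.Normal := Subgroup.normalClosure_normal

theorem U_le_K : D.U ≤ D.K := fun _ hu => Subgroup.subset_normalClosure hu

theorem exists_ne : ∃ u ∈ D.U, u ≠ 1 := by
  refine D.U.bot_or_exists_ne_one.resolve_left fun e => ?_
  have := D.card_U
  rw [e, Subgroup.card_bot] at this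
  omega

theorem minimal {N : Subgroup Q} (hN : N.Normal) (hbot : N ≠ ⊥) : D.K ≤ N := by
  obtain ⟨u, huN, huP, hu1⟩ := exists_mem_sylow_of_core D.core D.P hN hbot
  rw [D.hPU] at huP
  refine Subgroup.normalClosure_le_normal (D.le_of_two huP huN (D.s_mem u huP) (hN.conj_mem u huN D.s) hu1 ?_ ?_)
  · exact fun e => hu1 (conj_eq_one_iff.1 e)
  · exact (D.s_free u huP hu1).symm

theorem eq_of_comm (h : ∀ x ∈ D.K, ∀ y ∈ D.K, x * y = y * x) : D.K = D.U := by
  have hK2 : ∀ x ∈ D.K, x * x = 1 := by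
    intro x hx
    let S : Subgroup Q :=
      { carrier := {x | x ∈ D.K ∧ x * x = 1}
        one_mem' := ⟨one_mem D.K, one_mul 1⟩
        mul_mem' := fun {x y} hx hy => ⟨mul_mem hx.1 hy.1, by
          rw [show x * y * (x * y) = x * (y * x) * y by group, h y hy.1 x hx.1,
            show x * (x * y) * y = (x * x) * (y * y) by group, hx.2, hy.2, one_mul]⟩
        inv_mem' := fun {x} hx => ⟨inv_mem hx.1, by rw [← mul_inv_rev, hx.2, inv_one]⟩ }
    haveI : S.Normal := ⟨fun y hy g => ⟨D.K_normal.conj_mem y hy.1 g, by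
      rw [show g * y * g⁻¹ * (g * y * g⁻¹) = g * (y * y) * g⁻¹ by group, hy.2]; group⟩⟩
    exact (Subgroup.normalClosure_le_normal (N := S) (fun u hu => ⟨D.U_le_K hu, D.sq u hu⟩) hx).2
  have hKp : IsPGroup 2 D.K := fun x => ⟨1, Subtype.ext (by
    show ((x ^ 2 ^ 1 : D.K) : Q) = 1
    rw [Subgroup.coe_pow, pow_one, pow_two]; exact hK2 x x.2)⟩
  rw [← D.hPU]
  exact D.P.3 hKp (D.hPU ▸ D.U_le_K)

theorem core_K : Cfsg.oddCore D.K = ⊥ := by
  haveI : ((Cfsg.oddCore D.K).map D.K.subtype).Normal := inferInstance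
  have h1 : (Cfsg.oddCore D.K).map D.K.subtype = ⊥ := le_bot_iff.1 (D.core ▸ CfsgLib.le_oddCore (by
    rw [Subgroup.card_map_of_injective D.K.subtype_injective]
    exact CfsgLib.odd_card_oddCore))
  exact (Subgroup.map_eq_bot_iff_of_injective _ D.K.subtype_injective).1 h1

theorem exists_sylow_K : ∃ PK : Sylow 2 D.K, (PK : Subgroup D.K) = D.U.subgroupOf D.K :=
  ⟨D.P.subtype (D.hPU ▸ D.U_le_K), by rw [Sylow.coe_subtype, D.hPU]⟩

theorem simple (hna : ¬ ∀ x ∈ D.K, ∀ y ∈ D.K, x * y = y * x) : IsSimpleGroup D.K := by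
  obtain ⟨u₀, hu₀, hu₀1⟩ := D.exists_ne
  haveI : Nontrivial D.K := ⟨⟨u₀, D.U_le_K hu₀⟩, 1, fun e => hu₀1 (congrArg Subtype.val e)⟩
  refine ⟨fun N hN => ?_⟩
  haveI := hN
  rcases eq_or_ne N ⊥ with h | hbot
  · exact Or.inl h
  right
  obtain ⟨PK, hPK⟩ := D.exists_sylow_K
  obtain ⟨u, huN, huP, hu1⟩ := exists_mem_sylow_of_core D.core_K PK hN hbot
  rw [hPK, Subgroup.mem_subgroupOf] at huP
  have hu1' : (u : Q) ≠ 1 := fun e => hu1 (Subtype.ext e)
  set S : Subgroup Q := N.map D.K.subtype with hS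
  have hSmem : ∀ k : D.K, (k : Q) ∈ S ↔ k ∈ N := fun k =>
    Subgroup.mem_map_iff_mem D.K.subtype_injective
  by_cases hall : D.U ≤ S
  · -- every conjugate of an element of `U` is `K`-conjugate into `U`
    have hle : D.K ≤ S := by
      rw [show D.K = Subgroup.closure (Group.conjugatesOfSet (D.U : Set Q)) from rfl, Subgroup.closure_le]
      intro y hy
      obtain ⟨v, hv, hc⟩ := Group.mem_conjugatesOfSet_iff.1 hy
      obtain ⟨m, rfl⟩ := isConj_iff.1 hc
      have hmK : m * v * m⁻¹ ∈ D.K := D.K_normal.conj_mem v (D.U_le_K hv) m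
      obtain ⟨h, hh⟩ := exists_conj_mem_sylow PK (x := (⟨_, hmK⟩ : D.K)) (Subtype.ext (by
        show m * v * m⁻¹ * (m * v * m⁻¹) = 1
        rw [show m * v * m⁻¹ * (m * v * m⁻¹) = m * (v * v) * m⁻¹ by group, D.sq v hv]; group))
      rw [hPK, Subgroup.mem_subgroupOf] at hh
      have h2 := hN.conj_mem _ ((hSmem _).1 (hall hh)) h⁻¹
      rw [show h⁻¹ * (h * ⟨_, hmK⟩ * h⁻¹) * h⁻¹⁻¹ = (⟨_, hmK⟩ : D.K) by group] at h2
      exact (hSmem ⟨_, hmK⟩).2 h2
    exact eq_top_iff.2 fun w _ => (hSmem w).1 (hle w.2)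
  · exfalso
    have honly : ∀ v : Q, v ∈ D.U → v ∈ S → v = 1 ∨ v = u := by
      intro v hv hvS
      by_contra hcon
      push Not at hcon
      exact hall (D.le_of_two huP ((hSmem u).2 huN) hv hvS hu1' hcon.1 (Ne.symm hcon.2))
    set c : MulAut D.K := MulAut.conjNormal D.s
    set N' := N.map c.toMonoidHom with hN'
    haveI : N'.Normal := hN.map _ c.surjective
    set w : Q := D.s * u * D.s⁻¹ with hw
    have hwU : w ∈ D.U := D.s_mem u huP
    have hw1 : w ≠ 1 := fun e => hu1' (conj_eq_one_iff.1 e)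
    have hwu : w ≠ u := D.s_free u huP hu1'
    have hdis : N ⊓ N' = ⊥ := by
      by_contra hne
      haveI : (N ⊓ N').Normal := Subgroup.normal_inf_normal N N'
      obtain ⟨v, hvN, hvP, hv1⟩ := exists_mem_sylow_of_core D.core_K PK inferInstance hne
      rw [hPK, Subgroup.mem_subgroupOf] at hvP
      have e1 : (v : Q) = u :=
        (honly _ hvP ((hSmem v).2 hvN.1)).resolve_left fun e => hv1 (Subtype.ext e)
      obtain ⟨z, hz, hze⟩ := hvN.2
      have hze' : D.s * (z : Q) * D.s⁻¹ = u := by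
        rw [← e1, ← hze]
        exact (MulAut.conjNormal_apply _ _).symm
      have h3 : D.s * (D.s * D.s) = 1 := by rw [← D.s3, pow_three]
      have hzU : (z : Q) ∈ D.U := by
        have h := D.s_mem _ (D.s_mem _ huP)
        rwa [show D.s * (D.s * (u : Q) * D.s⁻¹) * D.s⁻¹ = z by
          rw [← hze', show D.s * (D.s * (D.s * (z : Q) * D.s⁻¹) * D.s⁻¹) * D.s⁻¹ =
            (D.s * (D.s * D.s)) * z * (D.s * (D.s * D.s))⁻¹ by group, h3]
          group] at h
      rcases honly _ hzU ((hSmem z).2 hz) with e | e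
      · rw [e] at hze'
        exact hu1' (by rw [← hze']; group)
      · rw [e] at hze'
        exact hwu hze'
    have hu' : c u ∈ N' := ⟨u, huN, rfl⟩
    have hcu : (c u : Q) = w := MulAut.conjNormal_apply _ _
    have hcentral : ∀ h : D.K, Commute (h : Q) (u : Q) := by
      intro h
      have hv : h * u * h⁻¹ ∈ N := hN.conj_mem _ huN h
      have hcw : Commute ((h * u * h⁻¹ : D.K) : Q) w := hcu ▸ congrArg Subtype.val
        (Subgroup.commute_of_normal_of_disjoint N N' hN inferInstance (disjoint_iff.2 hdis) _ _ hv hu').eq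
      have hsq : ((h * u * h⁻¹ : D.K) : Q) * (h * u * h⁻¹ : D.K) = 1 := by
        rw [← Subgroup.coe_mul, show h * u * h⁻¹ * (h * u * h⁻¹) = h * (u * u) * h⁻¹ by group,
          show u * u = 1 from Subtype.ext (D.sq _ huP), mul_one, mul_inv_cancel, Subgroup.coe_one]
      rcases honly _ (D.cent_inv w hwU hw1 _ hcw hsq) ((hSmem _).2 hv) with e | e
      · exact absurd (conj_eq_one_iff.1 (show h * u * h⁻¹ = 1 from Subtype.ext e)) hu1
      · exact congrArg Subtype.val (mul_inv_eq_iff_eq_mul.1 (show h * u * h⁻¹ = u from Subtype.ext e))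
    exact hna fun x hx y hy => (D.cent_ab _ huP hu1' x y (hcentral ⟨x, hx⟩) (hcentral ⟨y, hy⟩)).eq

theorem recognise (hna : ¬ ∀ x ∈ D.K, ∀ y ∈ D.K, x * y = y * x) :
    Nonempty (D.K ≃* alternatingGroup (Fin 5)) := by
  haveI := D.simple hna
  obtain ⟨PK, hPK⟩ := D.exists_sylow_K
  obtain ⟨u, hu, hu1⟩ := D.exists_ne
  have huK : u ∈ D.K := D.U_le_K hu
  have hUKsub : (D.U.subgroupOf D.K) ≤ Subgroup.centralizer ({⟨u, huK⟩} : Set D.K) := by
    intro x hx
    rw [Subgroup.mem_centralizer_singleton_iff]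
    rw [Subgroup.mem_subgroupOf] at hx
    refine Subtype.ext ?_
    show (x : Q) * u = u * x
    have h1 := D.sq _ (mul_mem hx hu)
    calc (x : Q) * u = (x * u)⁻¹ := eq_inv_of_mul_eq_one_left h1
      _ = u * x := by
        rw [mul_inv_rev, inv_eq_of_mul_eq_one_right (D.sq _ hu), inv_eq_of_mul_eq_one_right (D.sq _ hx)]
  refine Cfsg.Agent.S3278.result ⟨u, huK⟩ ?_ (D.U.subgroupOf D.K) hUKsub ?_ ?_ ?_
  · exact orderOf_eq_prime (by rw [pow_two]; exact Subtype.ext (D.sq _ hu))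
      (fun e => hu1 (congrArg Subtype.val e))
  · refine ⟨by rw [Nat.card_congr (Subgroup.subgroupOfEquivOfLe D.U_le_K).toEquiv, D.card_U], ?_⟩
    refine ((Nat.dvd_prime Nat.prime_two).mp (Monoid.exponent_dvd_of_forall_pow_eq_one fun v => by
      rw [pow_two]; exact Subtype.ext (Subtype.ext (D.sq _ v.2)))).resolve_left fun h1 => ?_
    haveI := Monoid.exp_eq_one_iff.mp h1
    exact hu1 (congrArg (fun w : D.U.subgroupOf D.K => ((w : D.K) : Q))
      (Subsingleton.elim (⟨⟨u, huK⟩, hu⟩ : D.U.subgroupOf D.K) 1))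
  · intro h
    haveI : Fact (Nat.Prime 2) := ⟨Nat.prime_two⟩
    refine PK.not_dvd_index (h.trans ?_)
    rw [hPK]
    exact Subgroup.relIndex_dvd_index_of_le hUKsub
  · refine ⟨fun x hx g => ?_⟩
    have hgx : g * x * g⁻¹ = x := by
      apply Subtype.ext
      apply Subtype.ext
      show ((g.1 : D.K) : Q) * x.1.1 * ((g.1 : D.K) : Q)⁻¹ = x.1.1
      rw [(D.cent_ab u hu hu1 _ _ (congrArg Subtype.val (Subgroup.mem_centralizer_singleton_iff.1 g.2))
        (congrArg Subtype.val (Subgroup.mem_centralizer_singleton_iff.1 x.2))).eq, mul_inv_cancel_right]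
    rw [hgx]
    exact hx

end FourData

end CfsgLib.JankoThompson
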