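import Cfsg.Agent.Lib.CoprimeGen
import Cfsg.Agent.Lib.Basic
import Cfsg.Agent.Lib.PSolvable
import Cfsg.Agent.S0992
import Cfsg.Agent.S3278

/-!
Tools for groups with a four-group and abelian centralisers of its involutions.
-/

set_option autoImplicit false
set_option linter.unusedSectionVars false
set_option linter.style.haveILetI false

namespace CfsgLib.JankoThompson

open Subgroup

universe u

/-- A central element of an abelian Sylow subgroup is no product of commutators. -/
theorem eq_one_of_central_commutator {K : Type u} [Group K] [Finite K] {p : ℕ} [Fact p.Prime] (P : Sylow p K)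
    (hP : IsMulCommutative (P : Subgroup K)) {z : K} (hz : z ∈ center K) (hzP : z ∈ P)
    (hzc : z ∈ commutator K) : z = 1 := by
  haveI := hP
  letI : CommGroup (P : Subgroup K) := { (inferInstance : Group (P : Subgroup K)) with
    mul_comm := fun a b => hP.1.comm a b }
  set v := MonoidHom.transfer (MonoidHom.id (P : Subgroup K))
  have key : ∀ (k : ℕ) (g₀ : K), g₀⁻¹ * z ^ k * g₀ ∈ (P : Subgroup K) → g₀⁻¹ * z ^ k * g₀ = z ^ k :=
    fun k g₀ _ => by rw [mul_assoc, ← mem_center_iff.1 (pow_mem hz k) g₀, inv_mul_cancel_left]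
  have hv : v z = (⟨z, hzP⟩ : (P : Subgroup K)) ^ (P : Subgroup K).index := by
    refine (MonoidHom.transfer_eq_pow _ z key).trans (Subtype.ext (by simp))
  have h1 : v z = 1 := Abelianization.commutator_subset_ker v hzc
  rw [hv] at h1
  obtain ⟨k, hk⟩ := IsPGroup.iff_orderOf.1 P.2 ⟨z, hzP⟩
  have hd := orderOf_dvd_of_pow_eq_one h1
  rw [hk] at hd
  rcases Nat.eq_zero_or_pos k with rfl | hk0
  · rw [pow_zero, orderOf_eq_one_iff] at hk
    exact congrArg Subtype.val hk
  · exact absurd ((dvd_pow_self p hk0.ne').trans hd) P.not_dvd_index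

/-- An automorphism of odd order of `A₅` fixing a four-group pointwise is trivial. -/
theorem klein_auto_trivial {E : Type u} [Group E] [Finite E] [IsSimpleGroup E] (hcard : Nat.card E = 60)
    {V : Subgroup E} (hV : Nat.card V = 4) (hVc : ∀ v ∈ V, v ≠ 1 → ∀ g, g * v = v * g → g ∈ V)
    (hVab : ∀ v ∈ V, ∀ w ∈ V, v * w = w * v)
    (α : MulAut E) (hfix : ∀ v ∈ V, α v = v) {n : ℕ} (hn : Odd n) (hα : α ^ n = 1) : α = 1 := by
  classical
  haveI : Fact (Nat.Prime 2) := ⟨Nat.prime_two⟩
  have hna : ¬ IsMulCommutative E := fun h => by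
    obtain ⟨v, hv, hv1⟩ := V.bot_or_exists_ne_one.resolve_left (fun e => by
      rw [e, Subgroup.card_bot] at hV; omega)
    have : V = ⊤ := eq_top_iff.2 fun g _ => hVc v hv hv1 g (h.1.comm g v)
    rw [this, Subgroup.card_top] at hV
    omega
  let P : Sylow 2 E := Sylow.ofCard V (by
    rw [hcard, hV, show (60 : ℕ) = 2 ^ 2 * 15 from rfl, Nat.factorization_mul (by norm_num) (by norm_num),
      Finsupp.add_apply, Nat.Prime.factorization_pow Nat.prime_two, Finsupp.single_eq_same,
      Nat.factorization_eq_zero_of_not_dvd (by norm_num)]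
    rfl)
  have hP : (P : Subgroup E) = V := rfl
  set N := Subgroup.normalizer (V : Set E) with hN
  have hVN : V ≤ N := Subgroup.le_normalizer
  obtain ⟨-, h3⟩ := Cfsg.Agent.S0992.result hna (by rw [hcard]; exact ⟨30, rfl⟩) (by rw [hcard]; norm_num) P
  obtain ⟨v₀, hv₀, hv₀1⟩ := V.bot_or_exists_ne_one.resolve_left (fun e => by
    rw [e, Subgroup.card_bot] at hV; omega)
  have hCV : Subgroup.centralizer (V : Set E) = V := le_antisymm
    (fun g hg => hVc v₀ hv₀ hv₀1 g (Subgroup.mem_centralizer_iff.1 hg v₀ hv₀).symm)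
    (fun g hg => Subgroup.mem_centralizer_iff.2 fun v hv => hVab v hv g hg)
  rw [hP, hCV] at h3
  have hNc : Nat.card N = 12 := by
    have := (V.subgroupOf N).card_mul_index
    rw [Nat.card_congr (Subgroup.subgroupOfEquivOfLe hVN).toEquiv, hV] at this
    rw [← this, show (V.subgroupOf N).index = 3 from h3]
  have hidx : N.index = 5 := by
    have := N.card_mul_index
    rw [hNc, hcard] at this
    omega
  -- involutions of `N` lie in `V`
  have hinv : ∀ g ∈ N, g * g = 1 → g ∈ V := by
    intro g hg hgg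
    haveI : (V.subgroupOf N).Normal := Subgroup.normal_in_normalizer
    have h := Subgroup.pow_index_mem (V.subgroupOf N) (⟨g, hg⟩ : N)
    rw [show (V.subgroupOf N).index = 3 from h3] at h
    have h' : g ^ 3 ∈ V := h
    rwa [show g ^ 3 = g by rw [pow_succ, pow_two, hgg, one_mul]] at h'
  have hαV : ∀ g, g ∈ N → α g ∈ N := by
    intro g hg
    rw [hN, Subgroup.mem_normalizer_iff] at hg ⊢
    intro v
    constructor
    · intro hv
      have h2 := (hg v).1 hv
      have h3 := hfix _ h2
      rw [map_mul, map_mul, map_inv, hfix v hv] at h3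
      exact h3 ▸ h2
    · intro hv
      have h2 := hfix _ hv
      have h4 : α⁻¹ (α g * v * (α g)⁻¹) = α g * v * (α g)⁻¹ := by
        conv_lhs => rw [← h2]
        exact α.symm_apply_apply _
      have h5 : g * α⁻¹ v * g⁻¹ ∈ V := by
        have : α⁻¹ (α g * v * (α g)⁻¹) = g * α⁻¹ v * g⁻¹ := by
          rw [map_mul, map_mul, map_inv, show α⁻¹ (α g) = g from α.symm_apply_apply g]
        rw [← this, h4]; exact hv
      have h6 : α⁻¹ v ∈ V := (hg _).2 h5
      have h7 := hfix _ h6
      rw [show α (α⁻¹ v) = v from α.apply_symm_apply v] at h7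
      rw [h7]; exact h6
  -- `g⁻¹ α g ∈ N`
  have key : ∀ g : E, g⁻¹ * α g ∈ N := by
    intro g
    by_cases hg : g ∈ N
    · exact mul_mem (inv_mem hg) (hαV g hg)
    -- the four other cosets form one orbit of `V`
    have hinj : ∀ v w : E, v ∈ V → w ∈ V → ((v * g : E) : E ⧸ N) = ((w * g : E) : E ⧸ N) → v = w := by
      intro v w hv hw e
      rw [QuotientGroup.eq] at e
      have hu : v⁻¹ * w ∈ V := mul_mem (inv_mem hv) hw
      by_contra hne
      have hu1 : v⁻¹ * w ≠ 1 := fun e' => hne (inv_mul_eq_one.1 e')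
      have hu2 : g⁻¹ * (v⁻¹ * w) * g ∈ N := by
        rwa [show g⁻¹ * (v⁻¹ * w) * g = (v * g)⁻¹ * (w * g) by group]
      set u := v⁻¹ * w with hudef
      have huu : u * u = 1 := by
        have h := pow_card_eq_one' (x := (⟨u, hu⟩ : V))
        rw [hV] at h
        have h4 : u ^ 4 = 1 := congrArg Subtype.val h
        by_contra hne2
        have hcyc : IsCyclic V := by
          refine isCyclic_of_orderOf_eq_card (⟨u, hu⟩ : V) ?_
          rw [hV, Subgroup.orderOf_mk]
          exact orderOf_eq_prime_pow (p := 2) (n := 1) (by rwa [pow_one, pow_two]) h4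
        obtain ⟨hK, -⟩ := Cfsg.Agent.S0992.result hna (by rw [hcard]; exact ⟨30, rfl⟩) (by rw [hcard]; norm_num) P
        haveI := hK
        exact IsKleinFour.not_isCyclic (show IsCyclic (P : Subgroup E) from hcyc)
      have hw' : g⁻¹ * u * g ∈ V := hinv _ hu2 (by
        rw [show g⁻¹ * u * g * (g⁻¹ * u * g) = g⁻¹ * (u * u) * g by group, huu]; group)
      apply hg
      have hw1 : g⁻¹ * u * g ≠ 1 := fun e' => hu1 (by
        rwa [show g⁻¹ * u * g = g⁻¹ * u * (g⁻¹)⁻¹ by group, conj_eq_one_iff] at e')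
      rw [hN, Subgroup.mem_normalizer_iff]
      -- `C(u) = V = C(g⁻¹ u g)`
      intro x
      have e1 : ∀ x, x ∈ V ↔ x * u = u * x := fun x => ⟨fun h => hVab x h u hu, hVc u hu hu1 x⟩
      have e2 : ∀ x, x ∈ V ↔ x * (g⁻¹ * u * g) = (g⁻¹ * u * g) * x :=
        fun x => ⟨fun h => hVab x h _ hw', hVc _ hw' hw1 x⟩
      rw [e2 x, e1]
      constructor
      · intro h
        calc g * x * g⁻¹ * u = g * (x * (g⁻¹ * u * g)) * g⁻¹ := by group
          _ = u * (g * x * g⁻¹) := by rw [h]; group
      · intro h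
        calc x * (g⁻¹ * u * g) = g⁻¹ * (g * x * g⁻¹ * u) * g := by group
          _ = g⁻¹ * u * g * x := by rw [h]; group
    have hne : ∀ v ∈ V, ((v * g : E) : E ⧸ N) ≠ ((1 : E) : E ⧸ N) := fun v hv e => by
      rw [QuotientGroup.eq, mul_one, inv_mem_iff] at e
      exact hg ((mul_mem_cancel_left (hVN hv)).1 e)
    haveI : Fintype (E ⧸ N) := Fintype.ofFinite _
    haveI : Fintype V := Fintype.ofFinite _
    have hsurj : ∀ x : E ⧸ N, x ≠ ((1 : E) : E ⧸ N) → ∃ v ∈ V, ((v * g : E) : E ⧸ N) = x := by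
      intro x hx
      have hsub : (Finset.univ.image fun v : V => ((v.1 * g : E) : E ⧸ N)) ⊆
          Finset.univ.erase ((1 : E) : E ⧸ N) := fun y hy => by
        obtain ⟨v, -, rfl⟩ := Finset.mem_image.1 hy
        exact Finset.mem_erase.2 ⟨hne v v.2, Finset.mem_univ _⟩
      have heq := Finset.eq_of_subset_of_card_le hsub (by
        rw [Finset.card_image_of_injective _ fun v w e => Subtype.ext (hinj v w v.2 w.2 e),
          Finset.card_erase_of_mem (Finset.mem_univ _), Finset.card_univ, Finset.card_univ,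
          ← Nat.card_eq_fintype_card, ← Nat.card_eq_fintype_card, hV, ← Subgroup.index_eq_card, hidx])
      have : x ∈ Finset.univ.erase ((1 : E) : E ⧸ N) := Finset.mem_erase.2 ⟨hx, Finset.mem_univ _⟩
      rw [← heq, Finset.mem_image] at this
      obtain ⟨v, -, hv⟩ := this
      exact ⟨v, v.2, hv⟩
    have hαg : α g ∉ N := fun h => by
      have hpow : ∀ m : ℕ, (α ^ m) (α g) ∈ N := fun m => by
        induction m with
        | zero => exact h
        | succ m ih => rw [pow_succ']; exact hαV _ ih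
      obtain ⟨m, hm⟩ : ∃ m, n = m + 1 := ⟨n - 1, by rcases hn with ⟨k, hk⟩; omega⟩
      have h' := hpow m
      rw [show (α ^ m) (α g) = (α ^ n) g by rw [hm, pow_succ]; rfl, hα] at h'
      exact hg h'
    obtain ⟨v, hv, hvg⟩ := hsurj (α g) (fun e => hαg (by
      rw [QuotientGroup.eq, mul_one, inv_mem_iff] at e; exact e))
    have hiter : ∀ m : ℕ, ((v ^ m * g : E) : E ⧸ N) = (((α ^ m) g : E) : E ⧸ N) := by
      intro m
      induction m with
      | zero => simp
      | succ m ih =>
        rw [QuotientGroup.eq] at ih hvg ⊢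
        have h1 := hαV _ ih
        rw [map_mul, map_inv, map_mul, map_pow, hfix v hv] at h1
        have h2 : (v ^ (m + 1) * g)⁻¹ * (v ^ m * α g) ∈ N := by
          rw [show (v ^ (m + 1) * g)⁻¹ * (v ^ m * α g) = (v * g)⁻¹ * α g by rw [pow_succ]; group]
          exact hvg
        have h3 := mul_mem h2 h1
        rw [pow_succ' α, MulAut.mul_apply]
        rwa [show (v ^ (m + 1) * g)⁻¹ * (v ^ m * α g) * ((v ^ m * α g)⁻¹ * α ((α ^ m) g)) =
          (v ^ (m + 1) * g)⁻¹ * α ((α ^ m) g) by group] at h3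
    have h1 := hiter n
    rw [hα, MulAut.one_apply] at h1
    have h1' : v ^ n = 1 := hinj _ 1 (pow_mem hv n) (one_mem _) (by rw [one_mul]; exact h1)
    have h4 := pow_card_eq_one' (x := (⟨v, hv⟩ : V))
    rw [hV] at h4
    have hv1 : v = 1 := orderOf_eq_one_iff.1 (Nat.eq_one_of_dvd_coprimes
      (show Nat.Coprime n (2 ^ 2) from Nat.Coprime.pow_right 2 (Nat.coprime_two_right.2 hn))
      (orderOf_dvd_of_pow_eq_one h1') (orderOf_dvd_of_pow_eq_one (congrArg Subtype.val h4 : v ^ 4 = 1)))
    rw [hv1, one_mul, QuotientGroup.eq] at hvg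
    exact hvg
  -- hence `g⁻¹ α g` lies in the core
  have hcore : N.normalCore = ⊥ := by
    rcases (Subgroup.normalCore_normal N).eq_bot_or_eq_top with h | h
    · exact h
    · exfalso
      have : N = ⊤ := eq_top_iff.2 (h ▸ Subgroup.normalCore_le N)
      rw [this, Subgroup.index_top] at hidx
      omega
  refine MulEquiv.ext fun k => ?_
  have hk : k⁻¹ * α k ∈ N.normalCore := by
    intro g
    have h1 := mul_mem (key (k * g⁻¹)) (inv_mem (key g⁻¹))
    rwa [show (k * g⁻¹)⁻¹ * α (k * g⁻¹) * ((g⁻¹)⁻¹ * α g⁻¹)⁻¹ = g * (k⁻¹ * α k) * g⁻¹ by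
      rw [map_mul, map_inv]; group] at h1
  rw [hcore, Subgroup.mem_bot, inv_mul_eq_one] at hk
  exact hk.symm

end CfsgLib.JankoThompson
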