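import Mathlib

/-!
An automorphism group of an elementary abelian group of order `2^(n+1)` of odd Frobenius shape on the
non-trivial elements: `n ≤ 2`.
-/

set_option autoImplicit false
set_option linter.unusedSectionVars false
set_option linter.style.haveILetI false

namespace CfsgLib.JankoThompson

universe u

/-- An irreducible endomorphism of prime order over the field of two elements has few conjugate powers. -/
theorem card_conj_pow_le {V : Type u} [AddCommGroup V] [Module (ZMod 2) V] [Module.Finite (ZMod 2) V]
    [Nontrivial V]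
    (K : Module.End (ZMod 2) V) {p : ℕ} (hp : p.Prime) (hKp : K ^ p = 1) (hK : K ≠ 1)
    (hirr : ∀ W : Submodule (ZMod 2) V, (∀ w ∈ W, K w ∈ W) → W = ⊥ ∨ W = ⊤)
    (J : Finset ℕ) (hJp : ∀ j ∈ J, j < p)
    (hJ : ∀ j ∈ J, ∃ U : (Module.End (ZMod 2) V)ˣ,
      (U : Module.End (ZMod 2) V) * K * (↑U⁻¹ : Module.End (ZMod 2) V) = K ^ j) :
    J.card ≤ Module.finrank (ZMod 2) V := by
  classical
  haveI : Fact (Nat.Prime 2) := ⟨Nat.prime_two⟩
  have hint : IsIntegral (ZMod 2) K := Algebra.IsIntegral.isIntegral K
  set f := minpoly (ZMod 2) K with hf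
  have hf0 : f ≠ 0 := minpoly.ne_zero hint
  have hdeg : f.natDegree ≤ Module.finrank (ZMod 2) V := by
    rw [← LinearMap.charpoly_natDegree K]
    exact Polynomial.natDegree_le_of_dvd (LinearMap.minpoly_dvd_charpoly K) K.charpoly_monic.ne_zero
  have hirrf : Irreducible f := by
    refine ⟨minpoly.not_isUnit _ _, fun g h hgh => ?_⟩
    by_contra hh
    push Not at hh
    have hg0 : g ≠ 0 := fun e => hf0 (by rw [hgh, e, zero_mul])
    have hh0 : h ≠ 0 := fun e => hf0 (by rw [hgh, e, mul_zero])
    have hlt : ∀ a b : Polynomial (ZMod 2), f = a * b → a ≠ 0 → b ≠ 0 → ¬ IsUnit b →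
        Polynomial.aeval K a ≠ 0 := by
      intro a b hab ha hb hbu e
      have h1 := Polynomial.natDegree_le_of_dvd (minpoly.dvd _ _ e) ha
      rw [← hf, hab, Polynomial.natDegree_mul ha hb] at h1
      exact hbu (Polynomial.isUnit_iff_degree_eq_zero.2 (by
        rw [Polynomial.degree_eq_natDegree hb]; exact_mod_cast (show b.natDegree = 0 by omega)))
    have hg := hlt g h hgh hg0 hh0 hh.2
    have hhne := hlt h g (by rw [hgh, mul_comm]) hh0 hg0 hh.1
    have hprod : Polynomial.aeval K g * Polynomial.aeval K h = 0 := by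
      rw [← map_mul, ← hgh]; exact minpoly.aeval _ _
    have hinv : ∀ w ∈ LinearMap.ker (Polynomial.aeval K g), K w ∈ LinearMap.ker (Polynomial.aeval K g) := by
      intro w hw
      rw [LinearMap.mem_ker] at hw ⊢
      have hc : Polynomial.aeval K g * K = K * Polynomial.aeval K g := by
        have := congrArg (Polynomial.aeval K) (mul_comm g Polynomial.X)
        simpa using this
      calc Polynomial.aeval K g (K w) = (Polynomial.aeval K g * K) w := rfl
        _ = K (Polynomial.aeval K g w) := by rw [hc]; rfl
        _ = 0 := by rw [hw, map_zero]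
    rcases hirr _ hinv with e | e
    · refine hhne (LinearMap.ext fun w => ?_)
      have : Polynomial.aeval K h w ∈ LinearMap.ker (Polynomial.aeval K g) := by
        rw [LinearMap.mem_ker]
        exact (congrArg (fun T : Module.End (ZMod 2) V => T w) hprod :)
      rw [e] at this
      simpa using this
    · exact hg (LinearMap.ext fun w => by
        have : w ∈ LinearMap.ker (Polynomial.aeval K g) := by rw [e]; exact Submodule.mem_top
        simpa using this)
  haveI : Fact (Irreducible f) := ⟨hirrf⟩
  set α := AdjoinRoot.root f with hα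
  have hmk : ∀ g : Polynomial (ZMod 2), Polynomial.aeval K g = 0 → Polynomial.aeval α g = 0 := fun g hg => by
    rw [hα, AdjoinRoot.aeval_eq, AdjoinRoot.mk_eq_zero]
    exact minpoly.dvd _ _ hg
  have hαp : α ^ p = 1 := by
    have := hmk (Polynomial.X ^ p - 1) (by simp [hKp])
    simpa [sub_eq_zero] using this
  have hα1 : α ≠ 1 := by
    intro e
    have : Polynomial.aeval α (Polynomial.X - 1 : Polynomial (ZMod 2)) = 0 := by simp [e]
    rw [hα, AdjoinRoot.aeval_eq, AdjoinRoot.mk_eq_zero] at this
    obtain ⟨c, hc⟩ := this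
    apply hK
    have := congrArg (Polynomial.aeval K) hc
    simpa [minpoly.aeval, hf, sub_eq_zero] using this
  have hord : orderOf α = p := orderOf_eq_prime (hp := ⟨hp⟩) hαp hα1
  have hroot : ∀ j ∈ J, Polynomial.aeval (α ^ j) f = 0 := by
    intro j hj
    obtain ⟨U, hU⟩ := hJ j hj
    have hc : Polynomial.aeval (K ^ j) f = 0 := by
      rw [← hU]
      have key : ∀ g : Polynomial (ZMod 2),
          Polynomial.aeval ((U : Module.End (ZMod 2) V) * K * (↑U⁻¹ : Module.End (ZMod 2) V)) g =
            (U : Module.End (ZMod 2) V) * Polynomial.aeval K g * (↑U⁻¹ : Module.End (ZMod 2) V) := by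
        intro g
        induction g using Polynomial.induction_on' with
        | add a b ha hb => rw [map_add, map_add, ha, hb]; noncomm_ring
        | monomial m c =>
          rw [Polynomial.aeval_monomial, Polynomial.aeval_monomial, Units.conj_pow U K m]
          rw [Algebra.algebraMap_eq_smul_one, smul_mul_assoc, one_mul, smul_mul_assoc, one_mul, mul_smul_comm,
            smul_mul_assoc]
      rw [key, hf, minpoly.aeval, mul_zero, zero_mul]
    have := hmk (f.comp (Polynomial.X ^ j)) (by rw [Polynomial.aeval_comp]; simpa using hc)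
    rw [Polynomial.aeval_comp] at this
    simpa using this
  have hsub : J.image (fun j => α ^ j) ⊆ ((f.map (algebraMap (ZMod 2) (AdjoinRoot f))).roots).toFinset := by
    intro a ha
    obtain ⟨j, hj, rfl⟩ := Finset.mem_image.1 ha
    rw [Multiset.mem_toFinset, Polynomial.mem_roots ((Polynomial.map_ne_zero_iff
      (algebraMap (ZMod 2) (AdjoinRoot f)).injective).2 hf0)]
    rw [Polynomial.IsRoot, Polynomial.eval_map_algebraMap]
    exact hroot j hj
  have hinj : Set.InjOn (fun j => α ^ j) J := fun i hi j hj e =>
    pow_injOn_Iio_orderOf (by rw [hord]; exact hJp i hi) (by rw [hord]; exact hJp j hj) e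
  calc J.card = (J.image fun j => α ^ j).card := (Finset.card_image_of_injOn hinj).symm
    _ ≤ _ := Finset.card_le_card hsub
    _ ≤ _ := Multiset.toFinset_card_le _
    _ ≤ (f.map (algebraMap (ZMod 2) (AdjoinRoot f))).natDegree := Polynomial.card_roots' _
    _ ≤ Module.finrank (ZMod 2) V := by rw [Polynomial.natDegree_map]; exact hdeg

end CfsgLib.JankoThompson
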