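import Cfsg.Agent.Lib.JankoThompson.Vec

/-!
The inner products of the integral vectors, over `ℤ` and `ℚ`.
-/

set_option autoImplicit false
set_option linter.unusedSectionVars false
set_option linter.style.haveILetI false

namespace CfsgLib.JankoThompson

open Cfsg CfsgLib CfsgLib.CharTheory
open scoped ComplexConjugate

universe u v

/-- The product of two integral vectors. -/
def dotI {I : Type*} [Fintype I] (f g : I → ℤ) : ℤ := ∑ i, f i * g i

theorem dotI_comm {I : Type*} [Fintype I] (f g : I → ℤ) : dotI f g = dotI g f :=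
  Finset.sum_congr rfl fun _ _ => mul_comm _ _

theorem dotI_sub_left {I : Type*} [Fintype I] (f g h : I → ℤ) :
    dotI (fun i => f i - g i) h = dotI f h - dotI g h := by
  simp [dotI, sub_mul, Finset.sum_sub_distrib]

theorem dotI_sub_right {I : Type*} [Fintype I] (f g h : I → ℤ) :
    dotI h (fun i => f i - g i) = dotI h f - dotI h g := by
  simp [dotI, mul_sub, Finset.sum_sub_distrib]

/-- How often the six cosets send one character of the four-group to another. -/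
def muCount (μ μ' : Option (Fin 3)) : ℤ :=
  ∑ s : Fin 3 × Fin 2, if muStep^[(s.1 : ℕ)] μ = μ' then 1 else 0

theorem muCount_eq : ∀ μ μ' : Option (Fin 3),
    muCount μ μ' = match μ, μ' with | none, none => 6 | some _, some _ => 2 | _, _ => 0 := by decide

namespace Cfg

variable {G : Type u} [Group G] [Fintype G] {L : Type v} [Group L] [Fintype L] (C : Cfg G L)

theorem yAct_zero (y : C.D.Y) : C.yAct (0, 0) y = y := rfl

theorem yAct_eq_one {s : Fin 3 × Fin 2} {y : C.D.Y} (h : C.yAct s y = 1) : y = 1 := by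
  rw [yAct_apply, ← Function.iterate_fixed (map_one C.α) (s.1 : ℕ)] at h
  have h' := C.α.injective.iterate _ h
  obtain ⟨k, e⟩ := s
  fin_cases e <;> simpa [invHom] using h'

theorem yAct_bijective (s : Fin 3 × Fin 2) : Function.Bijective (C.yAct s) :=
  Finite.injective_iff_bijective.1 ((injective_iff_map_eq_one _).2 fun _ h => C.yAct_eq_one h)

/-- The six images of a non-trivial character are distinct. -/
theorem thAct_inj {θ : C.D.Y →* ℂˣ} (hθ : θ ≠ 1) {s s' : Fin 3 × Fin 2}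
    (h : C.thAct s θ = C.thAct s' θ) : s = s' := by
  by_contra hne
  let f : C.D.Y →* C.D.Y := MonoidHom.mk' (fun y => C.yAct s y * (C.yAct s' y)⁻¹) fun a b => by
    have hc := C.Y_comm
    calc C.yAct s (a * b) * (C.yAct s' (a * b))⁻¹
        = C.yAct s a * (C.yAct s b * (C.yAct s' b)⁻¹) * (C.yAct s' a)⁻¹ := by
          rw [map_mul, map_mul, _root_.mul_inv_rev]; group
      _ = C.yAct s a * ((C.yAct s b * (C.yAct s' b)⁻¹) * (C.yAct s' a)⁻¹) := mul_assoc _ _ _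
      _ = C.yAct s a * ((C.yAct s' a)⁻¹ * (C.yAct s b * (C.yAct s' b)⁻¹)) := by rw [hc (C.yAct s b * _)]
      _ = _ := (mul_assoc _ _ _).symm
  have hf : Function.Bijective f := Finite.injective_iff_bijective.1
    ((injective_iff_map_eq_one _).2 fun y hy => by
      by_contra hy1
      exact hne (C.yAct_inj hy1 (mul_inv_eq_one.1 hy)))
  refine hθ (MonoidHom.ext fun y => ?_)
  obtain ⟨x, rfl⟩ := hf.2 y
  have hx : θ (C.yAct s x) = θ (C.yAct s' x) := DFunLike.congr_fun h x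
  show θ (C.yAct s x * (C.yAct s' x)⁻¹) = 1
  rw [map_mul, map_inv, hx, mul_inv_cancel]

theorem thAct_ne_one {θ : C.D.Y →* ℂˣ} (hθ : θ ≠ 1) (s : Fin 3 × Fin 2) : C.thAct s θ ≠ 1 := fun h =>
  hθ (MonoidHom.ext fun y => by
    obtain ⟨x, rfl⟩ := (C.yAct_bijective s).2 y
    exact DFunLike.congr_fun h x)

theorem thAct_zero (θ : C.D.Y →* ℂˣ) : C.thAct (0, 0) θ = θ := rfl

theorem aAct_bijective (s : Fin 3 × Fin 2) : Function.Bijective (C.aAct s) := by
  refine Finite.injective_iff_bijective.1 fun a b h => ?_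
  have h1 : tau^[(s.1 : ℕ)] a.p = tau^[(s.1 : ℕ)] b.p :=
    Prod.ext (congrArg (fun x : C.AG => x.1) h :) (congrArg (fun x : C.AG => x.2.1) h :)
  have h2 : a.p = b.p := by
    have ht : Function.Injective tau := by decide
    exact ht.iterate _ h1
  have h3 : a.2.2 = b.2.2 := (C.yAct_bijective s).1 (congrArg (fun x : C.AG => x.2.2) h :)
  exact Prod.ext (congrArg Prod.fst h2 :) (Prod.ext (congrArg Prod.snd h2 :) h3)

/-- The vectors only depend on the orbit of the pair of characters. -/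
theorem vc_act (s : Fin 3 × Fin 2) (μ : Option (Fin 3)) (θ : C.D.Y →* ℂˣ) (χ : IrrCharacter G) :
    C.vc (muStep^[(s.1 : ℕ)] μ) (C.thAct s θ) χ = C.vc μ θ χ := by
  apply Int.cast_injective (α := ℂ)
  rw [← C.vc_spec, ← C.vc_spec, cv, cv]
  congr 1
  refine Fintype.sum_bijective (C.aAct s) (C.aAct_bijective s) _ _ fun a => ?_
  rw [C.gfun_aAct, ← C.conj_rep s 1 a, isClassFunction_irr χ.2]

theorem cast_dotI {f g : IrrCharacter G → ℤ} {F F' : IrrCharacter G → ℂ}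
    (hf : ∀ χ, (f χ : ℂ) = F χ) (hg : ∀ χ, (g χ : ℂ) = F' χ) {z : ℤ}
    (h : ∑ χ : IrrCharacter G, F χ * conj (F' χ) = z) : dotI f g = z := by
  apply Int.cast_injective (α := ℂ)
  rw [← h, dotI, Int.cast_sum]
  exact Finset.sum_congr rfl fun χ _ => by rw [← hf, ← hg, map_intCast, Int.cast_mul]

theorem va_va : dotI C.va C.va = 4 := by
  refine cast_dotI (fun χ => (C.va_spec χ).symm) (fun χ => (C.va_spec χ).symm) ?_
  rw [C.sum_coef_mul C.D.even_a C.D.even_a (isGenChar_iff_coeff_int.1 C.D.gen_a).1, C.D.aa]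
  norm_num

theorem va_vb (i : Fin 2) : dotI C.va (C.vb i) = 2 := by
  refine cast_dotI (fun χ => (C.va_spec χ).symm) (fun χ => (C.vb_spec i χ).symm) ?_
  simp only [map_mul, map_neg, map_intCast, ← mul_assoc, mul_comm _ (-(C.D.δ : ℂ))]
  simp only [mul_assoc, ← Finset.mul_sum]
  rw [C.sum_coef_mul C.D.even_a (C.D.even_b i) (isGenChar_iff_coeff_int.1 (C.D.gen_b i)).1, C.D.ab]
  have := C.delta_sq
  push_cast
  linear_combination 2 * this

theorem vb_vb (i j : Fin 2) : dotI (C.vb i) (C.vb j) = if i = j then 4 else 2 := by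
  refine cast_dotI (fun χ => (C.vb_spec i χ).symm) (fun χ => (C.vb_spec j χ).symm) ?_
  have h : ∀ χ : IrrCharacter G, -(C.D.δ : ℂ) * C.coef (C.D.φb i) (χ : G → ℂ) *
      conj (-(C.D.δ : ℂ) * C.coef (C.D.φb j) (χ : G → ℂ)) =
      C.coef (C.D.φb i) (χ : G → ℂ) * conj (C.coef (C.D.φb j) (χ : G → ℂ)) := fun χ => by
    rw [map_mul, map_neg, map_intCast]
    linear_combination (C.coef (C.D.φb i) (χ : G → ℂ) * conj (C.coef (C.D.φb j) (χ : G → ℂ))) * C.delta_sq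
  rw [Finset.sum_congr rfl fun χ _ => h χ,
    C.sum_coef_mul (C.D.even_b i) (C.D.even_b j) (isGenChar_iff_coeff_int.1 (C.D.gen_b j)).1]
  fin_cases i <;> fin_cases j
  · simp [C.D.bb]; norm_num
  · simp [C.D.b01]
  · simp only [Fin.mk_one, Fin.zero_eta]
    rw [← classInner_comm, C.D.b01]
    simp
  · simp [C.D.bb]; norm_num

theorem vl_va {lam : C.D.Z →* ℂˣ} (h : lam ≠ 1) : dotI C.va (C.vl lam) = 0 := by
  refine cast_dotI (fun χ => (C.va_spec χ).symm) (fun χ => (C.vl_spec lam χ).symm) ?_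
  rw [C.sum_coef_mul C.D.even_a (C.φl_even lam) (isGenChar_iff_coeff_int.1 (C.φl_gen lam)).1,
    show classInner C.D.φa (C.φl lam) = 0 from C.D.la lam h]
  simp

theorem vl_vb (i : Fin 2) {lam : C.D.Z →* ℂˣ} (h : lam ≠ 1) : dotI (C.vb i) (C.vl lam) = 0 := by
  refine cast_dotI (fun χ => (C.vb_spec i χ).symm) (fun χ => (C.vl_spec lam χ).symm) ?_
  simp only [mul_assoc, ← Finset.mul_sum]
  rw [C.sum_coef_mul (C.D.even_b i) (C.φl_even lam) (isGenChar_iff_coeff_int.1 (C.φl_gen lam)).1,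
    show classInner (C.D.φb i) (C.φl lam) = 0 from C.D.lb i lam h]
  simp

theorem vl_vl {lam : C.D.Z →* ℂˣ} (h : lam ≠ 1) : dotI (C.vl lam) (C.vl lam) = 2 := by
  refine cast_dotI (fun χ => (C.vl_spec lam χ).symm) (fun χ => (C.vl_spec lam χ).symm) ?_
  rw [C.sum_coef_mul (C.φl_even lam) (C.φl_even lam) (isGenChar_iff_coeff_int.1 (C.φl_gen lam)).1,
    show classInner (C.φl lam) (C.φl lam) = 1 from C.D.ll lam h]
  simp

theorem deg_orth {f : IrrCharacter G → ℤ} {F : IrrCharacter G → ℂ} (hf : ∀ χ, (f χ : ℂ) = F χ)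
    (h : ∑ χ : IrrCharacter G, F χ * (χ : G → ℂ) 1 = 0) : dotI f C.deg = 0 := by
  apply Int.cast_injective (α := ℂ)
  rw [Int.cast_zero, ← h, dotI, Int.cast_sum]
  exact Finset.sum_congr rfl fun χ _ => by rw [← hf, (C.deg_spec χ).1, Int.cast_mul]

theorem va_deg : dotI C.va C.deg = 0 :=
  C.deg_orth (fun χ => (C.va_spec χ).symm) (C.sum_coef_deg C.D.even_a)

theorem vb_deg (i : Fin 2) : dotI (C.vb i) C.deg = 0 :=
  C.deg_orth (fun χ => (C.vb_spec i χ).symm)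
    (by simp only [mul_assoc, ← Finset.mul_sum, C.sum_coef_deg (C.D.even_b i), mul_zero])

theorem vl_deg (lam : C.D.Z →* ℂˣ) : dotI (C.vl lam) C.deg = 0 :=
  C.deg_orth (fun χ => (C.vl_spec lam χ).symm) (C.sum_coef_deg (C.φl_even lam))

theorem vc_deg (μ : Option (Fin 3)) (θ : C.D.Y →* ℂˣ) : dotI (C.vc μ θ) C.deg = 0 :=
  C.deg_orth (fun χ => (C.vc_spec μ θ χ).symm) (C.sum_cv_deg μ θ)

theorem vc_T (μ : Option (Fin 3)) (θ : C.D.Y →* ℂˣ) : dotI (C.vc μ θ) C.T = 0 := by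
  apply Int.cast_injective (α := ℂ)
  rw [Int.cast_zero, ← C.sum_cv_t μ θ, dotI, Int.cast_sum]
  exact Finset.sum_congr rfl fun χ _ => by rw [C.vc_spec, C.T_spec, Int.cast_mul]

theorem vc_va (μ : Option (Fin 3)) {θ : C.D.Y →* ℂˣ} (h : θ ≠ 1) : dotI (C.vc μ θ) C.va = 0 := by
  refine cast_dotI (fun χ => (C.vc_spec μ θ χ).symm) (fun χ => (C.va_spec χ).symm) ?_
  have := C.sum_cv_coef μ h C.D.even_a (isGenChar_iff_coeff_int.1 C.D.gen_a).1 C.D.a_Y
  simpa using this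

theorem vc_vb (μ : Option (Fin 3)) (i : Fin 2) {θ : C.D.Y →* ℂˣ} (h : θ ≠ 1) :
    dotI (C.vc μ θ) (C.vb i) = if μ = none then -3 else 1 := by
  refine cast_dotI (fun χ => (C.vc_spec μ θ χ).symm) (fun χ => (C.vb_spec i χ).symm) ?_
  have h2 := C.sum_cv_coef μ h (C.D.even_b i) (isGenChar_iff_coeff_int.1 (C.D.gen_b i)).1 (C.D.b_Y i)
  simp only [map_mul, map_ofNat, map_intCast, map_neg, mul_left_comm _ (-(C.D.δ : ℂ))] at h2 ⊢
  rw [← Finset.mul_sum]
  have := C.delta_sq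
  split_ifs with hm
  · rw [if_pos hm] at h2
    push_cast
    linear_combination (-(C.D.δ : ℂ) / 2) * h2 + (-3) * this
  · rw [if_neg hm] at h2
    push_cast
    linear_combination (-(C.D.δ : ℂ) / 2) * h2 + this

theorem vc_vl (μ : Option (Fin 3)) {θ : C.D.Y →* ℂˣ} (h : θ ≠ 1) (lam : C.D.Z →* ℂˣ) :
    dotI (C.vc μ θ) (C.vl lam) = 0 := by
  refine cast_dotI (fun χ => (C.vc_spec μ θ χ).symm) (fun χ => (C.vl_spec lam χ).symm) ?_
  have := C.sum_cv_coef μ h (C.φl_even lam) (isGenChar_iff_coeff_int.1 (C.φl_gen lam)).1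
    (κ := 0) fun x hx hx1 => by rw [φl, C.D.a_Y x hx hx1, C.D.lY lam x hx hx1, add_zero]
  simpa using this

open Classical in
theorem vc_vc (μ μ' : Option (Fin 3)) {θ θ' : C.D.Y →* ℂˣ} (h : θ ≠ 1) (h' : θ' ≠ 1) :
    dotI (C.vc μ θ) (C.vc μ' θ') = ∑ s : Fin 3 × Fin 2,
      (if muStep^[(s.1 : ℕ)] μ = μ' then 1 else 0) * (1 + if C.thAct s θ = θ' then 1 else 0) := by
  refine cast_dotI (fun χ => (C.vc_spec μ θ χ).symm) (fun χ => (C.vc_spec μ' θ' χ).symm) ?_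
  rw [C.sum_cv_mul μ μ' h' (C.thAct_ne_one h), Int.cast_sum]
  refine Finset.sum_congr rfl fun s _ => ?_
  by_cases h1 : C.thAct s θ = θ' <;> by_cases h2 : muStep^[(s.1 : ℕ)] μ = μ' <;> simp [h1, h2] <;> norm_num

theorem vc_vc_same (μ μ' : Option (Fin 3)) {θ : C.D.Y →* ℂˣ} (h : θ ≠ 1) :
    dotI (C.vc μ θ) (C.vc μ' θ) = muCount μ μ' + if μ = μ' then 1 else 0 := by
  classical
  rw [C.vc_vc μ μ' h h]
  have e : ∀ s : Fin 3 × Fin 2, C.thAct s θ = θ ↔ s = (0, 0) :=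
    fun s => ⟨fun hs => C.thAct_inj h (hs.trans (C.thAct_zero θ).symm), fun hs => hs ▸ C.thAct_zero θ⟩
  simp only [e, mul_add, mul_one, Finset.sum_add_distrib, mul_ite, mul_zero, Finset.sum_ite_eq',
    Finset.mem_univ, if_true, muCount]
  rfl

theorem vc_vc_other (μ μ' : Option (Fin 3)) {θ θ' : C.D.Y →* ℂˣ} (h : θ ≠ 1) (h' : θ' ≠ 1)
    (hne : ∀ s, C.thAct s θ ≠ θ') : dotI (C.vc μ θ) (C.vc μ' θ') = muCount μ μ' := by
  classical
  rw [C.vc_vc μ μ' h h']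
  simp only [hne, if_false, add_zero, mul_one, muCount]

theorem va_one : C.va (Blocks.oneIrr G) = 1 := by
  apply Int.cast_injective (α := ℂ)
  rw [← C.va_spec, C.coef_oneIrr, C.D.a_one, Int.cast_one]

theorem vb_one (i : Fin 2) : C.vb i (Blocks.oneIrr G) = 0 := by
  apply Int.cast_injective (α := ℂ)
  rw [← C.vb_spec, C.coef_oneIrr, C.D.b_one, mul_zero, Int.cast_zero]

theorem vc_one (μ : Option (Fin 3)) {θ : C.D.Y →* ℂˣ} (h : θ ≠ 1) :
    C.vc μ θ (Blocks.oneIrr G) = if μ = none then 1 else 0 := by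
  apply Int.cast_injective (α := ℂ)
  rw [← C.vc_spec, C.cv_oneIrr μ h]
  split_ifs <;> simp

theorem vn_va : dotI C.vn C.va = 0 := by
  show dotI (fun χ => C.va χ - C.vb 0 χ - C.vb 1 χ) C.va = 0
  rw [dotI_sub_left, dotI_sub_left, C.va_va, dotI_comm, C.va_vb, dotI_comm, C.va_vb]
  norm_num

theorem vn_vb (i : Fin 2) : dotI C.vn (C.vb i) = -4 := by
  show dotI (fun χ => C.va χ - C.vb 0 χ - C.vb 1 χ) (C.vb i) = -4
  rw [dotI_sub_left, dotI_sub_left, C.va_vb, C.vb_vb, C.vb_vb]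
  fin_cases i <;> simp

theorem vn_vn : dotI C.vn C.vn = 8 := by
  show dotI C.vn (fun χ => C.va χ - C.vb 0 χ - C.vb 1 χ) = 8
  rw [dotI_sub_right, dotI_sub_right, C.vn_va, C.vn_vb, C.vn_vb]
  norm_num

theorem vn_deg : dotI C.vn C.deg = 0 := by
  show dotI (fun χ => C.va χ - C.vb 0 χ - C.vb 1 χ) C.deg = 0
  rw [dotI_sub_left, dotI_sub_left, C.va_deg, C.vb_deg, C.vb_deg]
  norm_num

theorem vn_vl {lam : C.D.Z →* ℂˣ} (h : lam ≠ 1) : dotI C.vn (C.vl lam) = 0 := by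
  show dotI (fun χ => C.va χ - C.vb 0 χ - C.vb 1 χ) (C.vl lam) = 0
  rw [dotI_sub_left, dotI_sub_left, C.vl_va h, C.vl_vb 0 h, C.vl_vb 1 h]
  norm_num

theorem vc_vn (μ : Option (Fin 3)) {θ : C.D.Y →* ℂˣ} (h : θ ≠ 1) :
    dotI (C.vc μ θ) C.vn = if μ = none then 6 else -2 := by
  show dotI (C.vc μ θ) (fun χ => C.va χ - C.vb 0 χ - C.vb 1 χ) = _
  rw [dotI_sub_right, dotI_sub_right, C.vc_va μ h, C.vc_vb μ 0 h, C.vc_vb μ 1 h]
  split_ifs <;> norm_num

/-- `|C(t)|² / |G|`. -/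
noncomputable def Kq (_C : Cfg G L) : ℚ := 4 * (Nat.card L : ℚ) ^ 2 / Nat.card G

/-- The weighted sum `∑ f T² / deg`. -/
noncomputable def wsum (f : IrrCharacter G → ℤ) : ℚ :=
  ∑ χ : IrrCharacter G, (f χ : ℚ) * ((C.T χ : ℚ) ^ 2 / (C.deg χ : ℚ))

theorem cast_wsum {f : IrrCharacter G → ℤ} {F : IrrCharacter G → ℂ} (hf : ∀ χ, (f χ : ℂ) = F χ) :
    ((C.wsum f : ℚ) : ℂ) =
      ∑ χ : IrrCharacter G, F χ * ((χ : G → ℂ) C.t ^ 2 / (χ : G → ℂ) 1) := by
  rw [wsum, Rat.cast_sum]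
  exact Finset.sum_congr rfl fun χ _ => by
    rw [← hf, C.T_spec, (C.deg_spec χ).1]; push_cast; rfl

theorem cast_Kq : ((C.Kq : ℚ) : ℂ) = C.K := by
  rw [Kq, K]; push_cast; rfl

theorem qd_ne : ((C.D.q : ℚ) - C.D.δ) ≠ 0 := by
  have h : (C.D.q : ℚ) = 4 * C.D.y + C.D.δ := by exact_mod_cast C.D.hq
  have := C.seven_le
  rw [h, add_sub_cancel_right]
  exact mul_ne_zero (by norm_num) (Nat.cast_ne_zero.2 (by omega))

theorem wsum_va : C.wsum C.va = ((C.D.q : ℚ) + C.D.δ) * C.Kq := by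
  apply Rat.cast_injective (α := ℂ)
  rw [C.cast_wsum (fun χ => (C.va_spec χ).symm), C.sum_coef_weight C.D.even_a, C.D.wt_a, Rat.cast_mul,
    C.cast_Kq]
  have := cardL_ne (L := L)
  push_cast
  field_simp

theorem wsum_vb (i : Fin 2) :
    C.wsum (C.vb i) = -(C.D.δ : ℚ) * (3 * C.D.q + C.D.δ) / ((C.D.q : ℚ) - C.D.δ) * C.Kq := by
  apply Rat.cast_injective (α := ℂ)
  rw [C.cast_wsum (fun χ => (C.vb_spec i χ).symm)]
  simp only [mul_assoc, ← Finset.mul_sum]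
  rw [C.sum_coef_weight (C.D.even_b i), Rat.cast_mul, C.cast_Kq]
  have h1 : ((C.D.q : ℂ) - C.D.δ) ≠ 0 := by exact_mod_cast C.qd_ne
  have h2 := C.D.wt_b i
  have := cardL_ne (L := L)
  generalize ∑ x : L, C.D.φb i x * ((2 * invCount x : ℕ) : ℂ) = S at h2 ⊢
  push_cast at h2 ⊢
  field_simp
  linear_combination (-(C.D.δ : ℂ) * C.K) * h2

theorem wsum_vc (μ : Option (Fin 3)) {θ : C.D.Y →* ℂˣ} (h : θ ≠ 1) :
    C.wsum (C.vc μ θ) = if μ = none then 4 * (C.D.y : ℚ) * C.Kq else 0 := by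
  apply Rat.cast_injective (α := ℂ)
  rw [C.cast_wsum (fun χ => (C.vc_spec μ θ χ).symm), C.sum_cv_weight μ h]
  split_ifs
  · rw [Rat.cast_mul, C.cast_Kq]; push_cast; ring
  · rw [Rat.cast_zero, mul_zero]

theorem wsum_sub (f g : IrrCharacter G → ℤ) : C.wsum (fun χ => f χ - g χ) = C.wsum f - C.wsum g := by
  rw [wsum, wsum, wsum, ← Finset.sum_sub_distrib]
  exact Finset.sum_congr rfl fun χ _ => by push_cast; ring

end Cfg

end CfsgLib.JankoThompson
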