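import Cfsg.Agent.Lib.JankoThompson.LocalPSL
import Cfsg.Agent.Lib.JankoThompson.Setting
import Cfsg.Agent.Lib.E8Solv.Local

/-!
The four-group `V = ⟨t, v⟩`, its normaliser, and the subgroup `A = V × Y` of `blueprint/S0343.md`.
-/

set_option autoImplicit false
set_option linter.unusedSectionVars false
set_option linter.style.haveILetI false

namespace CfsgLib.JankoThompson

universe u v

theorem odd_pow_two {M : Type*} [Group M] {x : M} {n : ℕ} (hn : Odd n) (hx : x * x = 1) : x ^ n = x := by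
  obtain ⟨k, rfl⟩ := hn
  rw [pow_succ, pow_mul, pow_two, hx, one_pow, one_mul]

theorem pow_fin_add {M : Type*} [Group M] {x : M} (hx : x * x = 1) (i k : Fin 2) :
    x ^ ((i + k : Fin 2) : ℕ) = x ^ (i : ℕ) * x ^ (k : ℕ) := by
  fin_cases i <;> fin_cases k <;> simp [hx]

/-- The hypotheses of the local analysis. -/
structure Hyp (G : Type u) [Group G] (L : Type v) [Group L] where
  t : G
  ht : orderOf t = 2
  e : Subgroup.centralizer ({t} : Set G) ≃* Multiplicative (ZMod 2) × L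
  hZ : Subgroup.center L = ⊥
  hab : ∀ P : Sylow 2 G, ∀ a b : P, a * b = b * a
  no2 : ∀ H : Subgroup G, H.index ≠ 2
  q : ℕ
  y : ℕ
  z : ℕ
  δ : ℤ
  hδ : δ = 1 ∨ δ = -1
  hy : Odd y
  hy3 : 3 ≤ y
  hq : (q : ℤ) = 4 * y + δ
  hz : (z : ℤ) = 2 * y + δ
  Y : Subgroup L
  cycY : IsCyclic Y
  cardY : Nat.card Y = y
  F : LFacts L q y z Y

namespace Hyp

variable {G : Type u} [Group G] [Finite G] {L : Type v} [Group L] (H : Hyp G L)

/-- The copy of `L` in the centraliser of `t`. -/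
noncomputable abbrev E : L →* G := iota H.e

/-- The involution of the torus. -/
noncomputable abbrev tv : G := H.E H.F.v

theorem tt : H.t * H.t = 1 := two_sq H.ht

theorem vv : H.tv * H.tv = 1 := by rw [← map_mul, two_sq H.F.hv, map_one]

theorem E_comm (l : L) : Commute H.t (H.E l) := iota_comm H.e l

theorem t_not (l : L) : H.E l ≠ H.t := t_ne_iota H.e H.ht H.hZ l

theorem v_ne_one : H.tv ≠ 1 := fun e => two_ne_one H.F.hv (iota_inj H.e (e.trans (map_one _).symm))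

theorem v_ne_t : H.tv ≠ H.t := H.t_not _

theorem tv_ne_one : H.t * H.tv ≠ 1 := fun e =>
  H.v_ne_t ((eq_inv_of_mul_eq_one_right e).trans (two_inv H.tt))

theorem cent {g : G} (hg : Commute g H.t) : ∃ l, g = H.E l ∨ g = H.t * H.E l :=
  cent_cases H.e H.ht H.hZ (Subgroup.mem_centralizer_singleton_iff.mpr hg.eq)

theorem cent_fin {g : G} (hg : Commute g H.t) : ∃ (i : Fin 2) (l : L), g = H.t ^ (i : ℕ) * H.E l := by
  obtain ⟨l, h | h⟩ := H.cent hg
  · exact ⟨0, l, by simp [h]⟩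
  · exact ⟨1, l, by simp [h]⟩

theorem pair_inj {i k : Fin 2} {l r : L} (h : H.t ^ (i : ℕ) * H.E l = H.t ^ (k : ℕ) * H.E r) : i = k ∧ l = r := by
  fin_cases i <;> fin_cases k <;> simp at h
  · exact ⟨rfl, iota_inj H.e h⟩
  · exact absurd (by rw [eq_mul_inv_of_mul_eq h.symm, ← map_inv, ← map_mul] : H.t = H.E (l * r⁻¹)).symm (H.t_not _)
  · exact absurd (by rw [eq_mul_inv_of_mul_eq h, ← map_inv, ← map_mul] : H.t = H.E (r * l⁻¹)).symm (H.t_not _)
  · exact ⟨rfl, iota_inj H.e h⟩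

/-- An element of odd order of the centraliser lies in the copy of `L`. -/
theorem odd_mem {g : G} (hg : Commute g H.t) {n : ℕ} (hn : Odd n) (hgn : g ^ n = 1) :
    ∃ l, l ^ n = 1 ∧ g = H.E l := by
  obtain ⟨l, h | h⟩ := H.cent hg
  · exact ⟨l, iota_inj H.e (by rw [map_pow, map_one, ← h]; exact hgn), h⟩
  · exfalso
    rw [h, (H.E_comm l).mul_pow, odd_pow_two hn H.tt, ← map_pow] at hgn
    exact H.t_not ((l ^ n)⁻¹) (by rw [map_inv]; exact (eq_inv_of_mul_eq_one_left hgn).symm)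

theorem Y_odd {a : L} (ha : a ∈ H.Y) : Odd (orderOf a) := by
  have h : orderOf a ∣ H.y := by
    rw [← H.cardY, ← Subgroup.orderOf_mk a ha]
    exact orderOf_dvd_natCard _
  exact H.hy.of_dvd_nat h

theorem Y_pow {a : L} (ha : a ∈ H.Y) : a ^ H.y = 1 := by
  rw [← H.cardY]
  exact congrArg Subtype.val (pow_card_eq_one' (G := H.Y) (x := ⟨a, ha⟩))

theorem Y_sq {a : L} (ha : a ∈ H.Y) (h : a * a = 1) : a = 1 := by
  by_contra h1
  have h2 := H.Y_odd ha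
  rw [order_two h1 h] at h2
  exact absurd h2 (by decide)

theorem Y_comm {a b : L} (ha : a ∈ H.Y) (hb : b ∈ H.Y) : Commute a b := by
  haveI := H.cycY
  letI := IsCyclic.commGroup (α := H.Y)
  exact congrArg Subtype.val (mul_comm (⟨a, ha⟩ : H.Y) ⟨b, hb⟩)

theorem exists_Y : ∃ a ∈ H.Y, a ≠ 1 := by
  haveI : Finite L := Finite.of_injective _ (iota_inj H.e)
  by_contra h
  push Not at h
  have : Nat.card H.Y ≤ 1 := Finite.card_le_one_iff_subsingleton.mpr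
    ⟨fun a b => Subtype.ext ((h a a.2).trans (h b b.2).symm)⟩
  rw [H.cardY] at this
  have := H.hy3
  omega

/-- The elements of `A`. -/
def InA (g : G) : Prop := ∃ i j : Fin 2, ∃ b ∈ H.Y, g = aElt H.t H.E H.F.v i j b

theorem inA_mul {g h : G} (hg : H.InA g) (hh : H.InA h) : H.InA (g * h) := by
  obtain ⟨i, j, b, hb, rfl⟩ := hg
  obtain ⟨k, l, c, hc, rfl⟩ := hh
  refine ⟨i + k, j + l, b * c, mul_mem hb hc, ?_⟩
  unfold aElt
  rw [pow_fin_add H.tt, ((H.E_comm _).pow_left (k : ℕ)).symm.mul_mul_mul_comm, ← map_mul]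
  refine congrArg _ (congrArg H.E ?_)
  rw [pow_fin_add (two_sq H.F.hv), ((H.F.v_Y b hb).pow_left (l : ℕ)).symm.mul_mul_mul_comm]

theorem inA_t : H.InA H.t := ⟨1, 0, 1, one_mem _, by simp [aElt]⟩

theorem inA_v : H.InA H.tv := ⟨0, 1, 1, one_mem _, by simp [aElt]⟩

theorem inA_one : H.InA 1 := ⟨0, 0, 1, one_mem _, by simp [aElt]⟩

theorem inA_E {b : L} (hb : b ∈ H.Y) : H.InA (H.E b) := ⟨0, 0, b, hb, by simp [aElt]⟩

theorem inA_comm {g h : G} (hg : H.InA g) (hh : H.InA h) : Commute g h := by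
  obtain ⟨i, j, b, hb, rfl⟩ := hg
  obtain ⟨k, l, c, hc, rfl⟩ := hh
  have hL : Commute (H.F.v ^ (j : ℕ) * b) (H.F.v ^ (l : ℕ) * c) :=
    (((Commute.refl _).pow_pow _ _).mul_right ((H.F.v_Y c hc).pow_left _)).mul_left
      (((H.F.v_Y b hb).pow_left _).symm.mul_right (H.Y_comm hb hc))
  exact (((Commute.refl H.t).pow_pow _ _).mul_right ((H.E_comm _).pow_left _)).mul_left
    (((H.E_comm _).pow_left _).symm.mul_right (hL.map H.E))

theorem inA_inv {g : G} (hg : H.InA g) : H.InA g⁻¹ := by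
  have : ∀ n : ℕ, H.InA (g ^ n) := fun n => by
    induction n with
    | zero => rw [pow_zero]; exact H.inA_one
    | succ k ih => rw [pow_succ]; exact H.inA_mul ih hg
  rw [inv_eq_of_mul_eq_one_right (b := g ^ (orderOf g - 1)) (by
    rw [← pow_succ', Nat.sub_add_cancel (orderOf_pos g)]; exact pow_orderOf_eq_one g)]
  exact this _

/-- `A` as a subgroup. -/
def Asub : Subgroup G where
  carrier := {g | H.InA g}
  one_mem' := H.inA_one
  mul_mem' := H.inA_mul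
  inv_mem' := H.inA_inv

theorem mem_Asub {g : G} : g ∈ H.Asub ↔ H.InA g := Iff.rfl

theorem card_A : Nat.card H.Asub = 4 * H.y := by
  let f : Fin 2 × Fin 2 × H.Y → H.Asub := fun p => ⟨aElt H.t H.E H.F.v p.1 p.2.1 p.2.2, _, _, _, p.2.2.2, rfl⟩
  have hf : Function.Bijective f := by
    refine ⟨fun p r h => ?_, fun ⟨g, i, j, b, hb, e⟩ => ⟨(i, j, ⟨b, hb⟩), Subtype.ext e.symm⟩⟩
    obtain ⟨h1, h2⟩ := H.pair_inj (congrArg Subtype.val h)
    obtain ⟨i, j, b⟩ := p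
    obtain ⟨k, l, c⟩ := r
    simp only at h1 h2
    subst h1
    have hcj : j = l := by
      by_contra hne
      have hv : H.F.v ∈ H.Y := by
        fin_cases j <;> fin_cases l <;> simp at h2 hne
        · rw [eq_mul_inv_of_mul_eq h2.symm]; exact mul_mem b.2 (inv_mem c.2)
        · rw [eq_mul_inv_of_mul_eq h2]; exact mul_mem c.2 (inv_mem b.2)
      exact two_ne_one H.F.hv (H.Y_sq hv (two_sq H.F.hv))
    subst hcj
    rw [Subtype.ext (mul_left_cancel h2) (a1 := b) (a2 := c)]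
  rw [← Nat.card_congr (Equiv.ofBijective f hf), Nat.card_prod, Nat.card_prod, Nat.card_fin, H.cardY]
  ring

theorem inA_of_odd {g : G} (hg : H.InA g) {n : ℕ} (hn : Odd n) (hgn : g ^ n = 1) : ∃ b ∈ H.Y, g = H.E b := by
  obtain ⟨i, j, b, hb, rfl⟩ := hg
  obtain ⟨l, hl, e⟩ := H.odd_mem ((H.inA_comm ⟨i, j, b, hb, rfl⟩ H.inA_t)) hn hgn
  obtain ⟨h1, h2⟩ := H.pair_inj (i := i) (k := 0) (r := l) (e.trans (by simp))
  fin_cases j
  · simp at h2
    exact ⟨b, hb, by rw [e, h2]⟩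
  · exfalso
    simp at h2
    rw [← h2, (H.F.v_Y b hb).mul_pow, odd_pow_two hn (two_sq H.F.hv)] at hl
    have hv : H.F.v ∈ H.Y := by rw [eq_inv_of_mul_eq_one_left hl]; exact inv_mem (pow_mem hb _)
    exact two_ne_one H.F.hv (H.Y_sq hv (two_sq H.F.hv))

theorem inA_sq {g : G} (hg : H.InA g) (h : g * g = 1) : g = 1 ∨ g = H.t ∨ g = H.tv ∨ g = H.t * H.tv := by
  obtain ⟨i, j, b, hb, rfl⟩ := hg
  have hb1 : b = 1 := by
    have h' : aElt H.t H.E H.F.v 0 0 (b * b) = aElt H.t H.E H.F.v 0 0 1 := by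
      have e : aElt H.t H.E H.F.v i j b = H.t ^ (i : ℕ) * H.tv ^ (j : ℕ) * H.E b := by
        simp [aElt, map_mul, map_pow, mul_assoc]
      have hc : Commute (H.t ^ (i : ℕ) * H.tv ^ (j : ℕ)) (H.E b) :=
        ((H.E_comm b).pow_left _).mul_left (((H.F.v_Y b hb).map H.E).pow_left _)
      rw [e, hc.symm.mul_mul_mul_comm, ((H.E_comm _).pow_pow _ _).symm.mul_mul_mul_comm,
        ← ((Commute.refl H.t).mul_pow), H.tt, one_pow, ← ((Commute.refl H.tv).mul_pow), H.vv, one_pow, one_mul,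
        one_mul, ← map_mul] at h
      simpa [aElt] using h
    exact H.Y_sq hb (iota_inj H.e (by simpa [aElt] using h'))
  subst hb1
  fin_cases i <;> fin_cases j <;> simp [aElt]

/-- The centraliser of `t` and an element of `Y`. -/
theorem cent_t_Y {a : L} (ha : a ∈ H.Y) (h1 : a ≠ 1) {g : G} (hgt : Commute g H.t) (hga : Commute g (H.E a)) :
    H.InA g := by
  obtain ⟨i, l, rfl⟩ := H.cent_fin hgt
  have hla : Commute l a := by
    have h := ((H.E_comm a).pow_left (i : ℕ)).inv_left.mul_left hga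
    rw [inv_mul_cancel_left] at h
    exact iota_inj H.e (by rw [map_mul, map_mul]; exact h.eq)
  obtain ⟨j, b, hb, rfl⟩ := H.F.cent_Y a ha h1 l hla
  exact ⟨i, j, b, hb, rfl⟩

/-- The centraliser of `t` and `v`. -/
theorem cent_t_v {g : G} (hgt : Commute g H.t) (hgv : Commute g H.tv) :
    H.InA g ∨ H.InA (H.E H.F.j * g) := by
  obtain ⟨i, l, rfl⟩ := H.cent_fin hgt
  have hlv : Commute l H.F.v := by
    have h := ((H.E_comm H.F.v).pow_left (i : ℕ)).inv_left.mul_left hgv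
    rw [inv_mul_cancel_left] at h
    exact iota_inj H.e (by rw [map_mul, map_mul]; exact h.eq)
  obtain ⟨e, j, b, hb, rfl⟩ := H.F.cent_v l hlv
  fin_cases e
  · exact Or.inl ⟨i, j, b, hb, by simp [aElt]⟩
  · refine Or.inr ⟨i, j, b, hb, ?_⟩
    unfold aElt
    rw [← mul_assoc, ← ((H.E_comm H.F.j).pow_left (i : ℕ)).eq, mul_assoc, ← map_mul, ← mul_assoc]
    simp [two_sq H.F.hj]

theorem cardP : ∃ P : Sylow 2 G, Nat.card (P : Subgroup G) = 8 ∧
    ∀ g, g ∈ P ↔ ∃ a i k : Fin 2, g = H.t ^ (a : ℕ) * H.E (H.F.v ^ (i : ℕ) * H.F.j ^ (k : ℕ)) := by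
  classical
  haveI : Fact (Nat.Prime 2) := ⟨Nat.prime_two⟩
  haveI : Finite L := Finite.of_injective _ (iota_inj H.e)
  have hvv := two_sq H.F.hv
  have hjj := two_sq H.F.hj
  set K := four hvv hjj H.F.vj
  have hK : Nat.card K = 4 := card_four hvv hjj H.F.vj (two_ne_one H.F.hv) (two_ne_one H.F.hj) (Ne.symm H.F.j_ne)
  obtain ⟨S, hS⟩ := (IsPGroup.of_card (p := 2) (n := 2) hK).exists_le_sylow
  have hSK : K = (S : Subgroup L) := by
    refine Subgroup.eq_of_le_of_card_ge hS ?_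
    obtain ⟨k, hk⟩ := IsPGroup.iff_card.mp S.2
    rw [hK, hk]
    rcases le_or_gt k 2 with h | h
    · exact Nat.pow_le_pow_right (by norm_num) h
    · exact absurd ((pow_dvd_pow 2 h).trans (hk ▸ (S : Subgroup L).card_subgroup_dvd_card)) H.F.card8
  obtain ⟨P, -, hP, hPc⟩ := exists_sylow_prod H.e H.hab H.ht H.hZ S
  refine ⟨P, by rw [hPc, ← hSK, hK], fun g => ?_⟩
  rw [hP, ← hSK]
  constructor
  · rintro ⟨_, ⟨i, k, rfl⟩, rfl | rfl⟩
    · exact ⟨0, i, k, by simp⟩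
    · exact ⟨1, i, k, by simp⟩
  · rintro ⟨a, i, k, rfl⟩
    refine ⟨_, ⟨i, k, rfl⟩, ?_⟩
    fin_cases a <;> simp

/-- All involutions are conjugate. -/
theorem all_conj (u : G) (hu : orderOf u = 2) : ∃ g : G, g * H.t * g⁻¹ = u := by
  haveI : Fact (Nat.Prime 2) := ⟨Nat.prime_two⟩
  obtain ⟨P, h8, hP⟩ := H.cardP
  haveI : IsMulCommutative (P : Subgroup G) := ⟨⟨fun a b => H.hab P a b⟩⟩
  obtain ⟨T, hT⟩ := (IsPGroup.of_card (p := 2) (n := 1)
    (by rw [Nat.card_zpowers, hu, pow_one]) : IsPGroup 2 (Subgroup.zpowers u)).exists_le_sylow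
  obtain ⟨c, rfl⟩ := MulAction.exists_smul_eq G P T
  obtain ⟨w, hw, hwu⟩ := hT (Subgroup.mem_zpowers u)
  have hwu' : c * w * c⁻¹ = u := hwu
  have hw1 : w ≠ 1 := fun e => two_ne_one hu (by rw [← hwu', e, mul_one, mul_inv_cancel])
  obtain ⟨n, -, hn⟩ := E8Solv.transitive H.no2 P h8 H.t ((hP _).mpr ⟨1, 0, 0, by simp⟩) w hw
    (two_ne_one H.ht) hw1
  exact ⟨c * n, by rw [← hwu', ← hn]; group⟩

/-- The non-trivial elements of `V`. -/
def InV (g : G) : Prop := g = H.t ∨ g = H.tv ∨ g = H.t * H.tv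

theorem inV_sq {g : G} (h : H.InV g) : g * g = 1 := by
  rcases h with rfl | rfl | rfl
  · exact H.tt
  · exact H.vv
  · rw [(H.E_comm H.F.v).symm.mul_mul_mul_comm, H.tt, H.vv, one_mul]

theorem inV_ne {g : G} (h : H.InV g) : g ≠ 1 := by
  rcases h with rfl | rfl | rfl
  exacts [two_ne_one H.ht, H.v_ne_one, H.tv_ne_one]

theorem inV_inA {g : G} (h : H.InV g) : H.InA g := by
  rcases h with rfl | rfl | rfl
  exacts [H.inA_t, H.inA_v, H.inA_mul H.inA_t H.inA_v]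

/-- An element of `C(u) ∩ C(y)` lies in `A`, for every involution `u` of `V`. -/
theorem cent_V_Y {u : G} (hu : H.InV u) {a : L} (ha : a ∈ H.Y) (h1 : a ≠ 1) {g : G} (hgu : Commute g u)
    (hga : Commute g (H.E a)) : H.InA g := by
  classical
  obtain ⟨c, hc⟩ := H.all_conj u (order_two (H.inV_ne hu) (H.inV_sq hu))
  set C := Subgroup.centralizer ({u} : Set G) ⊓ Subgroup.centralizer ({H.E a} : Set G) with hC
  have hAC : H.Asub ≤ C := fun x hx => ⟨Subgroup.mem_centralizer_singleton_iff.mpr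
    (H.inA_comm hx (H.inV_inA hu)).eq, Subgroup.mem_centralizer_singleton_iff.mpr (H.inA_comm hx (H.inA_E ha)).eq⟩
  set a' := c⁻¹ * H.E a * c with ha'
  have hao : a' ^ H.y = 1 := by
    have e : a' = c⁻¹ * H.E a * (c⁻¹)⁻¹ := by rw [ha', inv_inv]
    rw [e, conj_pow, ← map_pow, H.Y_pow ha, map_one, mul_one, mul_inv_cancel]
  have hat : Commute a' H.t := by
    have h := commute_conj (H.inA_comm (H.inA_E ha) (H.inV_inA hu)) c⁻¹
    rwa [inv_inv, show c⁻¹ * u * c = H.t by rw [← hc]; group] at h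
  obtain ⟨l, hl, hal⟩ := H.odd_mem hat H.hy hao
  obtain ⟨k, hk⟩ := H.F.conj_Y l (orderOf_dvd_of_pow_eq_one hl)
  have hk1 : k * l * k⁻¹ ≠ 1 := fun e => h1 (iota_inj H.e (by
    rw [map_one, show H.E a = c * a' * c⁻¹ by rw [ha']; group, hal, conj_eq_one_iff.mp e, map_one, mul_one,
      mul_inv_cancel]))
  set d := H.E k * c⁻¹ with hd
  have hsub : ∀ x ∈ C, H.InA (d * x * d⁻¹) := by
    rintro x ⟨hxu, hxa⟩
    have h1' := commute_conj (show Commute x u from Subgroup.mem_centralizer_singleton_iff.mp hxu) d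
    have h2' := commute_conj (show Commute x (H.E a) from Subgroup.mem_centralizer_singleton_iff.mp hxa) d
    have e1 : d * u * d⁻¹ = H.t := by
      rw [hd, ← hc, show H.E k * c⁻¹ * (c * H.t * c⁻¹) * (H.E k * c⁻¹)⁻¹ = H.E k * H.t * (H.E k)⁻¹ by group,
        ← (H.E_comm k).eq, mul_inv_cancel_right]
    have e2 : d * H.E a * d⁻¹ = H.E (k * l * k⁻¹) := by
      rw [map_mul, map_mul, map_inv, ← hal, hd, ha']
      group
    rw [e1] at h1'
    rw [e2] at h2'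
    exact H.cent_t_Y hk hk1 h1' h2'
  have hle : Nat.card C ≤ Nat.card H.Asub :=
    Nat.card_le_card_of_injective (fun x : C => (⟨d * x * d⁻¹, hsub x x.2⟩ : H.Asub)) fun x x' e =>
      Subtype.ext (mul_left_cancel (mul_right_cancel (congrArg Subtype.val e)))
  rw [← mem_Asub, Subgroup.eq_of_le_of_card_ge hAC hle]
  exact ⟨Subgroup.mem_centralizer_singleton_iff.mpr hgu.eq, Subgroup.mem_centralizer_singleton_iff.mpr hga.eq⟩

/-- The rotation of `V`, with an involution outside `A` centralising it and `V`. -/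
structure Rot where
  σ : G
  w : G
  m : G
  s : L
  σ3 : σ ^ 3 = 1
  σ_t : σ * H.t * σ⁻¹ = H.tv
  σ_v : σ * H.tv * σ⁻¹ = H.t * H.tv
  σ_tv : σ * (H.t * H.tv) * σ⁻¹ = H.t
  w_σ : Commute w σ
  w_t : Commute w H.t
  w_v : Commute w H.tv
  ww : w * w = 1
  w_not : ¬ H.InA w
  w_Y : ∀ a ∈ H.Y, w * H.E a * w⁻¹ = H.E a⁻¹
  m_w : m * H.t * m⁻¹ = w
  m_s : m * H.E s * m⁻¹ = σ
  s_ord : orderOf s = 3

theorem exists_rot : Nonempty H.Rot := by
  classical
  obtain ⟨P, h8, hP⟩ := H.cardP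
  haveI : IsMulCommutative (P : Subgroup G) := ⟨⟨fun a b => H.hab P a b⟩⟩
  have htP : H.t ∈ P := (hP _).mpr ⟨1, 0, 0, by simp⟩
  have hvP : H.tv ∈ P := (hP _).mpr ⟨0, 1, 0, by simp⟩
  obtain ⟨n, hn, hnv⟩ := E8Solv.transitive H.no2 P h8 H.tv hvP H.t htP H.v_ne_one (two_ne_one H.ht)
  have hjP : H.E H.F.j ∈ P := (hP _).mpr ⟨0, 0, 1, by simp⟩
  obtain ⟨a, i, k, hc⟩ := (hP _).mp ((Subgroup.mem_normalizer_iff.mp hn _).mp hjP)
  have hne1 : H.F.v ^ (i : ℕ) * H.F.j ^ (k : ℕ) ≠ 1 := fun e => by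
    rw [e, map_one, mul_one] at hc
    fin_cases a
    · simp at hc
      exact two_ne_one H.F.hj (iota_inj H.e (hc.trans (map_one _).symm))
    · simp at hc
      rw [← hnv] at hc
      exact H.F.j_ne (iota_inj H.e (mul_left_cancel (mul_right_cancel hc)))
  -- turn the second involution to `v`
  obtain ⟨r, hr⟩ : ∃ r : L, r * (H.F.v ^ (i : ℕ) * H.F.j ^ (k : ℕ)) * r⁻¹ = H.F.v := by
    have hx := H.F.x_v
    have hxj := H.F.x_j
    fin_cases i <;> fin_cases k <;> simp at hne1 ⊢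
    · exact ⟨H.F.x⁻¹, by rw [inv_inv, ← hx]; group⟩
    · exact ⟨1, by simp⟩
    · refine ⟨H.F.x, ?_⟩
      rw [show H.F.x * (H.F.v * H.F.j) * H.F.x⁻¹ = (H.F.x * H.F.v * H.F.x⁻¹) * (H.F.x * H.F.j * H.F.x⁻¹) by group,
        hx, hxj, ← mul_assoc, ← H.F.vj.eq, mul_assoc, two_sq H.F.hj, mul_one]
  set m := H.E r * n with hm
  have hmv : m * H.tv * m⁻¹ = H.t := by
    rw [hm, show H.E r * n * H.tv * (H.E r * n)⁻¹ = H.E r * (n * H.tv * n⁻¹) * (H.E r)⁻¹ by group, hnv,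
      ← (H.E_comm r).eq, mul_inv_cancel_right]
  have hmj : m * H.E H.F.j * m⁻¹ = H.t ^ (a : ℕ) * H.tv := by
    rw [hm, show H.E r * n * H.E H.F.j * (H.E r * n)⁻¹ = H.E r * (n * H.E H.F.j * n⁻¹) * (H.E r)⁻¹ by group, hc,
      ← mul_assoc, ← ((H.E_comm r).pow_left (a : ℕ)).eq]
    rw [show H.t ^ (a : ℕ) * H.tv = H.t ^ (a : ℕ) * (H.E r * H.E (H.F.v ^ (i : ℕ) * H.F.j ^ (k : ℕ)) * (H.E r)⁻¹) by
      rw [← map_inv, ← map_mul, ← map_mul, hr]]
    group
  have hmvj : m * (H.tv * H.E H.F.j) * m⁻¹ = H.t * (H.t ^ (a : ℕ) * H.tv) := by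
    rw [show m * (H.tv * H.E H.F.j) * m⁻¹ = (m * H.tv * m⁻¹) * (m * H.E H.F.j * m⁻¹) by group, hmv, hmj]
  set ρ := m * H.E H.F.x * m⁻¹ with hρ
  have ex : ∀ l : L, ρ * (m * H.E l * m⁻¹) * ρ⁻¹ = m * H.E (H.F.x * l * H.F.x⁻¹) * m⁻¹ := fun l => by
    rw [map_mul, map_mul, map_inv, hρ]
    group
  have r1 : ρ * H.t * ρ⁻¹ = H.t ^ (a : ℕ) * H.tv := by
    have h := ex H.F.v
    rwa [H.F.x_v, hmv, hmj] at h
  have r2 : ρ * (H.t ^ (a : ℕ) * H.tv) * ρ⁻¹ = H.t * (H.t ^ (a : ℕ) * H.tv) := by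
    have h := ex H.F.j
    rwa [H.F.x_j, map_mul, hmvj, hmj] at h
  have r3 : ρ ^ 3 = 1 := by
    rw [hρ, conj_pow, ← map_pow, H.F.x3, map_one, mul_one, mul_inv_cancel]
  have hx_ne : H.F.x ≠ 1 := fun e => H.F.j_ne (by rw [← H.F.x_v, e, one_mul, inv_one, mul_one])
  have hxo : orderOf H.F.x = 3 := orderOf_eq_prime H.F.x3 hx_ne
  set w := m * H.t * m⁻¹ with hw
  have hwρ : Commute w ρ := commute_conj (H.E_comm _) m
  have hwt : Commute w H.t := by rw [← hmv]; exact commute_conj (H.E_comm _) m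
  have hwv : Commute w H.tv := by
    have h1 : Commute w (H.t ^ (a : ℕ) * H.tv) := by rw [← hmj]; exact commute_conj (H.E_comm _) m
    have h := (hwt.pow_right (a : ℕ)).inv_right.mul_right h1
    rwa [inv_mul_cancel_left] at h
  have hwn : ¬ H.InA w := by
    intro hA
    have hww : w * w = 1 := by
      rw [hw, show m * H.t * m⁻¹ * (m * H.t * m⁻¹) = m * (H.t * H.t) * m⁻¹ by group, H.tt, mul_one, mul_inv_cancel]
    have back : ∀ l : L, w ≠ m * H.E l * m⁻¹ := fun l e =>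
      H.t_not l (mul_left_cancel (mul_right_cancel e)).symm
    rcases H.inA_sq hA hww with e | e | e | e
    · exact back 1 (by rw [e, map_one, mul_one, mul_inv_cancel])
    · exact back H.F.v (by rw [e, hmv])
    · fin_cases a
      · exact back H.F.j (by rw [e, hmj]; simp)
      · exact back (H.F.v * H.F.j) (by
          rw [e, map_mul, hmvj]; simp [← mul_assoc, H.tt])
    · fin_cases a
      · exact back (H.F.v * H.F.j) (by rw [e, map_mul, hmvj]; simp)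
      · exact back H.F.j (by rw [e, hmj]; simp)
  have hwY : ∀ b ∈ H.Y, w * H.E b * w⁻¹ = H.E b⁻¹ := by
    intro b hb
    rcases H.cent_t_v hwt hwv with h | ⟨i', j', c, hc', e⟩
    · exact absurd h hwn
    · have hjc : Commute (aElt H.t H.E H.F.v i' j' c) (H.E b) := H.inA_comm ⟨i', j', c, hc', rfl⟩ (H.inA_E hb)
      rw [← inv_mul_cancel_left (H.E H.F.j) w, e,
        show (H.E H.F.j)⁻¹ * aElt H.t H.E H.F.v i' j' c * H.E b * ((H.E H.F.j)⁻¹ * aElt H.t H.E H.F.v i' j' c)⁻¹ =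
          (H.E H.F.j)⁻¹ * (aElt H.t H.E H.F.v i' j' c * H.E b * (aElt H.t H.E H.F.v i' j' c)⁻¹) * H.E H.F.j by group,
        hjc.eq, mul_inv_cancel_right, ← map_inv, ← map_mul, ← map_mul, two_inv (two_sq H.F.hj)]
      congr 1
      have := H.F.j_Y b hb
      rwa [two_inv (two_sq H.F.hj)] at this
  have hww : w * w = 1 := by
    rw [hw, show m * H.t * m⁻¹ * (m * H.t * m⁻¹) = m * (H.t * H.t) * m⁻¹ by group, H.tt, mul_one, mul_inv_cancel]
  fin_cases a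
  · simp at r1 r2
    refine ⟨⟨ρ, w, m, H.F.x, r3, r1, r2, ?_, hwρ, hwt, hwv, hww, hwn, hwY, rfl, rfl, hxo⟩⟩
    rw [show ρ * (H.t * H.tv) * ρ⁻¹ = (ρ * H.t * ρ⁻¹) * (ρ * H.tv * ρ⁻¹) by group, r1, r2,
      ← mul_assoc, ← (H.E_comm H.F.v).eq, mul_assoc, H.vv, mul_one]
  · replace r1 : ρ * H.t * ρ⁻¹ = H.t * H.tv := by simpa using r1
    replace r2 : ρ * (H.t * H.tv) * ρ⁻¹ = H.tv := by simpa [← mul_assoc, H.tt] using r2
    have r0 : ρ * H.tv * ρ⁻¹ = H.t := by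
      have e : H.tv = H.t * (H.t * H.tv) := by rw [← mul_assoc, H.tt, one_mul]
      nth_rewrite 1 [e]
      rw [show ρ * (H.t * (H.t * H.tv)) * ρ⁻¹ = (ρ * H.t * ρ⁻¹) * (ρ * (H.t * H.tv) * ρ⁻¹) by group, r1, r2,
        mul_assoc, H.vv, mul_one]
    refine ⟨⟨ρ⁻¹, w, m, H.F.x⁻¹, by rw [inv_pow, r3, inv_one], ?_, ?_, ?_, hwρ.inv_right, hwt, hwv, hww, hwn, hwY,
      rfl, by rw [map_inv, hρ]; group, by rw [orderOf_inv, hxo]⟩⟩
    · rw [inv_inv]; nth_rewrite 1 [← r0]; group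
    · rw [inv_inv]; nth_rewrite 1 [← r2]; group
    · rw [inv_inv]; nth_rewrite 1 [← r1]; group

namespace Rot

variable {H} (R : H.Rot)

theorem σ_V {g : G} (hg : H.InV g) : H.InV (R.σ * g * R.σ⁻¹) := by
  rcases hg with rfl | rfl | rfl
  exacts [Or.inr (Or.inl R.σ_t), Or.inr (Or.inr R.σ_v), Or.inl R.σ_tv]

theorem σ_pow_mul (k : ℕ) : R.σ ^ k = R.σ ^ (k % 3) := pow_eq_pow_mod k R.σ3

/-- The element `w` times `A` is the centraliser of `V` outside `A`. -/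
theorem cent_V {g : G} (hgt : Commute g H.t) (hgv : Commute g H.tv) :
    ∃ (e : Fin 2) (a : G), H.InA a ∧ g = R.w ^ (e : ℕ) * a := by
  rcases H.cent_t_v hgt hgv with h | h
  · exact ⟨0, g, h, by simp⟩
  · obtain h' | h' := H.cent_t_v R.w_t R.w_v
    · exact absurd h' R.w_not
    · refine ⟨1, (H.E H.F.j * R.w)⁻¹ * (H.E H.F.j * g), H.inA_mul (H.inA_inv h') h, ?_⟩
      rw [Fin.val_one, pow_one]; group

/-- The normaliser of `V`. -/
theorem norm_V {g : G} (h1 : H.InV (g * H.t * g⁻¹)) (h2 : H.InV (g * H.tv * g⁻¹)) :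
    ∃ (k : Fin 3) (e : Fin 2) (a : G), H.InA a ∧ g = R.σ ^ (k : ℕ) * R.w ^ (e : ℕ) * a := by
  obtain ⟨k, hk⟩ : ∃ k : Fin 3, R.σ ^ (k : ℕ) * H.t * (R.σ ^ (k : ℕ))⁻¹ = g * H.t * g⁻¹ := by
    rcases h1 with e | e | e
    · exact ⟨0, by rw [e]; simp⟩
    · exact ⟨1, by rw [e]; simpa using R.σ_t⟩
    · refine ⟨2, ?_⟩
      rw [e, ← R.σ_v, ← R.σ_t, show ((2 : Fin 3) : ℕ) = 2 from rfl, pow_two]
      group
  set h := (R.σ ^ (k : ℕ))⁻¹ * g with hh
  have ht : Commute h H.t := by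
    refine mul_inv_eq_iff_eq_mul.mp ?_
    rw [hh, show (R.σ ^ (k : ℕ))⁻¹ * g * H.t * ((R.σ ^ (k : ℕ))⁻¹ * g)⁻¹ =
      (R.σ ^ (k : ℕ))⁻¹ * (g * H.t * g⁻¹) * R.σ ^ (k : ℕ) by group, ← hk]
    group
  have hVk : ∀ n : ℕ, ∀ {x : G}, H.InV x → H.InV (R.σ ^ n * x * (R.σ ^ n)⁻¹) := by
    intro n
    induction n with
    | zero => intro x hx; simpa using hx
    | succ j ih =>
      intro x hx
      rw [show R.σ ^ (j + 1) * x * (R.σ ^ (j + 1))⁻¹ = R.σ * (R.σ ^ j * x * (R.σ ^ j)⁻¹) * R.σ⁻¹ by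
        rw [pow_succ']; group]
      exact R.σ_V (ih hx)
  have hv' : H.InV (h * H.tv * h⁻¹) := by
    have h3 : R.σ ^ (3 - (k : ℕ)) = (R.σ ^ (k : ℕ))⁻¹ := by
      rw [eq_inv_iff_mul_eq_one, ← pow_add, Nat.sub_add_cancel (by omega), R.σ3]
    rw [hh, show (R.σ ^ (k : ℕ))⁻¹ * g * H.tv * ((R.σ ^ (k : ℕ))⁻¹ * g)⁻¹ =
      (R.σ ^ (k : ℕ))⁻¹ * (g * H.tv * g⁻¹) * (R.σ ^ (k : ℕ))⁻¹⁻¹ by group, ← h3]
    exact hVk _ h2
  have hv : Commute h H.tv := by
    obtain ⟨i, l, hl⟩ := H.cent_fin ht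
    have e : h * H.tv * h⁻¹ = H.E (l * H.F.v * l⁻¹) := by
      rw [hl, map_mul, map_mul, map_inv, show H.t ^ (i : ℕ) * H.E l * H.tv * (H.t ^ (i : ℕ) * H.E l)⁻¹ =
        H.t ^ (i : ℕ) * (H.E l * H.tv * (H.E l)⁻¹) * (H.t ^ (i : ℕ))⁻¹ by group]
      have hc : Commute (H.t ^ (i : ℕ)) (H.E l * H.tv * (H.E l)⁻¹) := by
        rw [← map_inv, ← map_mul, ← map_mul]
        exact (H.E_comm _).pow_left _
      rw [hc.eq, mul_inv_cancel_right]
    rcases hv' with e' | e' | e'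
    · exact absurd (e ▸ e') (H.t_not _)
    · exact mul_inv_eq_iff_eq_mul.mp e'
    · exfalso
      rw [e] at e'
      exact H.t_not (l * H.F.v * l⁻¹ * H.F.v) (by
        rw [map_mul, e', mul_assoc, H.vv, mul_one])
  obtain ⟨e, a, ha, he⟩ := R.cent_V ht hv
  exact ⟨k, e, a, ha, by rw [mul_assoc, ← he, hh, mul_inv_cancel_left]⟩

/-- The rotation normalises `Y`. -/
theorem σ_Y {a : L} (ha : a ∈ H.Y) : ∃ b ∈ H.Y, R.σ * H.E a * R.σ⁻¹ = H.E b := by
  set x := R.σ * H.E a * R.σ⁻¹ with hx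
  have hxy : x ^ H.y = 1 := by rw [hx, conj_pow, ← map_pow, H.Y_pow ha, map_one, mul_one, mul_inv_cancel]
  have h1 : Commute x H.t := by
    rw [← R.σ_tv]; exact commute_conj (H.inA_comm (H.inA_E ha) (H.inA_mul H.inA_t H.inA_v)) _
  have h2 : Commute x H.tv := by
    rw [← R.σ_t]; exact commute_conj (H.inA_comm (H.inA_E ha) H.inA_t) _
  obtain ⟨e, b, hb, he⟩ := R.cent_V h1 h2
  fin_cases e
  · simp at he
    exact H.inA_of_odd (he ▸ hb) H.hy hxy
  · exfalso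
    simp at he
    obtain ⟨i, j, c, hc, hbc⟩ := hb
    have hbw : R.w * b * R.w = b * (H.E (c * c))⁻¹ := by
      rw [hbc, aElt, map_mul, map_pow]
      have hwE := R.w_Y c hc
      rw [two_inv R.ww, map_inv] at hwE
      have hwt := R.w_t.pow_right (i : ℕ)
      have hwv := R.w_v.pow_right (j : ℕ)
      calc R.w * (H.t ^ (i : ℕ) * (H.tv ^ (j : ℕ) * H.E c)) * R.w
          = R.w * H.t ^ (i : ℕ) * H.tv ^ (j : ℕ) * H.E c * R.w := by simp only [mul_assoc]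
        _ = H.t ^ (i : ℕ) * H.tv ^ (j : ℕ) * (R.w * H.E c * R.w) := by
          rw [hwt.eq, mul_assoc (H.t ^ (i : ℕ)), hwv.eq]; simp only [mul_assoc]
        _ = H.t ^ (i : ℕ) * (H.tv ^ (j : ℕ) * H.E c) * (H.E (c * c))⁻¹ := by
          rw [hwE, map_mul]; group
    have hsq : x * x = 1 := by
      rw [he, show R.w * b * (R.w * b) = R.w * b * R.w * b by group, hbw]
      have hc2 : Commute ((H.E (c * c))⁻¹) b :=
        (H.inA_comm (H.inA_inv (H.inA_E (mul_mem hc hc))) ⟨i, j, c, hc, hbc⟩)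
      rw [mul_assoc, hc2.eq, ← mul_assoc, hbc]
      simp only [aElt, map_mul, map_pow]
      have k1 : Commute (H.t ^ (i : ℕ)) (H.tv ^ (j : ℕ) * H.E c) :=
        ((H.E_comm _).pow_pow _ _).mul_right ((H.E_comm _).pow_left _)
      have k2 : Commute (H.tv ^ (j : ℕ)) (H.E c) := ((H.F.v_Y c hc).map H.E).pow_left _
      rw [k1.symm.mul_mul_mul_comm, k2.symm.mul_mul_mul_comm, ← ((Commute.refl H.t).mul_pow), H.tt, one_pow,
        ← ((Commute.refl H.tv).mul_pow), H.vv, one_pow, one_mul, one_mul, mul_inv_cancel]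
    have hx1 : x = 1 := by
      obtain ⟨n, hn⟩ := H.hy
      rwa [hn, pow_succ, pow_mul, pow_two, hsq, one_pow, one_mul] at hxy
    exact R.w_not (by
      have hw : R.w = b⁻¹ := eq_inv_of_mul_eq_one_left (he ▸ hx1)
      rw [hw]; exact H.inA_inv ⟨i, j, c, hc, hbc⟩)

end Rot

end Hyp

end CfsgLib.JankoThompson
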