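import Cfsg.Agent.Lib.JankoThompson.LocalBase
import Cfsg.Agent.Lib.CoprimeGen
import Mathlib.GroupTheory.SpecificGroups.Alternating

/-!
The centraliser of an element of `Y`: `A` without the rotation, and the two shapes with it.
-/

set_option autoImplicit false
set_option linter.unusedSectionVars false
set_option linter.style.haveILetI false
set_option maxHeartbeats 800000

namespace CfsgLib.JankoThompson

universe u v

namespace Hyp

variable {G : Type u} [Group G] [Finite G] {L : Type v} [Group L] (H : Hyp G L)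

theorem inA_conj_inA {a : G} (ha : H.InA a) {g : G} (hg : H.InA g) : g * a * g⁻¹ = a := by
  rw [(H.inA_comm hg ha).eq, mul_inv_cancel_right]

/-- The four-group `V`. -/
noncomputable def Vsub : Subgroup G := four H.tt H.vv (H.E_comm H.F.v)

theorem card_V : Nat.card H.Vsub = 4 :=
  card_four _ _ _ (two_ne_one H.ht) H.v_ne_one H.v_ne_t.symm

theorem mem_V {g : G} : g ∈ H.Vsub ↔ g = 1 ∨ H.InV g := by
  constructor
  · rintro ⟨i, j, rfl⟩
    unfold InV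
    fin_cases i <;> fin_cases j <;> simp
  · rintro (rfl | rfl | rfl | rfl)
    exacts [one_mem _, ⟨1, 0, by simp⟩, ⟨0, 1, by simp⟩, ⟨1, 1, by simp⟩]

theorem V_inA {g : G} (hg : g ∈ H.Vsub) : H.InA g := by
  rcases H.mem_V.mp hg with rfl | h
  exacts [H.inA_one, H.inV_inA h]

/-- The centraliser of `E a`. -/
noncomputable abbrev M (a : L) : Subgroup G := Subgroup.centralizer ({H.E a} : Set G)

theorem mem_M {a : L} {x : G} : x ∈ H.M a ↔ Commute x (H.E a) :=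
  ⟨fun h => Subgroup.mem_centralizer_singleton_iff.mp h, fun h => Subgroup.mem_centralizer_singleton_iff.mpr h.eq⟩

theorem V_le_M {a : L} (ha : a ∈ H.Y) : H.Vsub ≤ H.M a := fun _ hg =>
  H.mem_M.mpr (H.inA_comm (H.V_inA hg) (H.inA_E ha))

/-- A two-subgroup of `C(a)` containing `t` has order at most four. -/
theorem card_two_le {a : L} (ha : a ∈ H.Y) (h1 : a ≠ 1) {S : Subgroup G} (hS : IsPGroup 2 S) (hSM : S ≤ H.M a)
    (ht : H.t ∈ S) : Nat.card S ≤ 4 := by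
  haveI : Fact (Nat.Prime 2) := ⟨Nat.prime_two⟩
  obtain ⟨P, hP⟩ := hS.exists_le_sylow
  have hle : S ≤ H.Asub := fun g hg => H.cent_t_Y ha h1
    (congrArg Subtype.val (H.hab P ⟨g, hP hg⟩ ⟨H.t, hP ht⟩)) (H.mem_M.mp (hSM hg))
  have hd := Subgroup.card_dvd_of_le hle
  rw [H.card_A] at hd
  obtain ⟨k, hk⟩ := IsPGroup.iff_card.mp hS
  rw [hk] at hd ⊢
  have : 2 ^ k ∣ 4 := (Nat.Coprime.pow_left k (Nat.coprime_two_left.mpr H.hy)).dvd_of_dvd_mul_right hd
  exact Nat.le_of_dvd (by norm_num) this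

/-- `V` is a Sylow subgroup of `C(a)`. -/
theorem exists_sylow {a : L} (ha : a ∈ H.Y) (h1 : a ≠ 1) :
    ∃ S : Sylow 2 (H.M a), (S : Subgroup (H.M a)) = H.Vsub.subgroupOf (H.M a) := by
  haveI : Fact (Nat.Prime 2) := ⟨Nat.prime_two⟩
  have hp : IsPGroup 2 (H.Vsub.subgroupOf (H.M a)) := IsPGroup.of_card (n := 2) (by
    rw [Nat.card_congr (Subgroup.subgroupOfEquivOfLe (H.V_le_M ha)).toEquiv, H.card_V]; norm_num)
  obtain ⟨S, hS⟩ := hp.exists_le_sylow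
  refine ⟨S, (Subgroup.eq_of_le_of_card_ge hS ?_).symm⟩
  rw [Nat.card_congr (Subgroup.subgroupOfEquivOfLe (H.V_le_M ha)).toEquiv, H.card_V]
  have h := H.card_two_le ha h1 (S.2.map (H.M a).subtype) (Subgroup.map_subtype_le _)
    ⟨⟨H.t, H.V_le_M ha (H.mem_V.mpr (Or.inr (Or.inl rfl)))⟩,
      hS (H.mem_V.mpr (Or.inr (Or.inl rfl))), rfl⟩
  rwa [Subgroup.card_map_of_injective (H.M a).subtype_injective] at h

/-- Any four-group of `C(a)` is conjugate there to `V`. -/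
theorem conj_V {a : L} (ha : a ∈ H.Y) (h1 : a ≠ 1) {t' v' : G} (ht : t' * t' = 1) (hv : v' * v' = 1)
    (htv : Commute t' v') (htM : Commute t' (H.E a)) (hvM : Commute v' (H.E a)) :
    ∃ m, Commute m (H.E a) ∧ m * t' * m⁻¹ ∈ H.Vsub ∧ m * v' * m⁻¹ ∈ H.Vsub := by
  haveI : Fact (Nat.Prime 2) := ⟨Nat.prime_two⟩
  obtain ⟨S, hS⟩ := H.exists_sylow ha h1
  set W := four ht hv htv with hW
  have hWM : W ≤ H.M a := by
    rintro _ ⟨i, j, rfl⟩
    exact H.mem_M.mpr ((htM.pow_left _).mul_left (hvM.pow_left _))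
  have hp : IsPGroup 2 (W.subgroupOf (H.M a)) := by
    intro x
    refine ⟨1, ?_⟩
    obtain ⟨i, j, e⟩ := Subgroup.mem_subgroupOf.mp x.2
    refine Subtype.ext (Subtype.ext ?_)
    show ((x : H.M a) : G) ^ 2 ^ 1 = 1
    rw [e, pow_one, pow_two, ((htv.pow_pow _ _).symm).mul_mul_mul_comm, ← ((Commute.refl t').mul_pow), ht, one_pow,
      ← ((Commute.refl v').mul_pow), hv, one_pow, one_mul]
  obtain ⟨S', hS'⟩ := hp.exists_le_sylow
  obtain ⟨m, hm⟩ := MulAction.exists_smul_eq (H.M a) S' S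
  have key : ∀ w, w ∈ W → (m : G) * w * (m : G)⁻¹ ∈ H.Vsub := by
    intro w hw
    have h : m * ⟨w, hWM hw⟩ * m⁻¹ ∈ (S : Subgroup (H.M a)) := by
      rw [← hm, Sylow.coe_subgroup_smul]
      exact Subgroup.smul_mem_pointwise_smul _ (MulAut.conj m) _ (hS' (show (⟨w, hWM hw⟩ : H.M a) ∈ W.subgroupOf _ from hw))
    rw [hS] at h
    exact h
  exact ⟨m, H.mem_M.mp m.2, key t' ⟨1, 0, by simp⟩, key v' ⟨0, 1, by simp⟩⟩

namespace Rot

variable {H} (R : H.Rot)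

theorem σ_pow_A {k : ℕ} (h : H.InA (R.σ ^ k)) : k % 3 = 0 := by
  have hc : R.σ ^ k * H.t * (R.σ ^ k)⁻¹ = H.t := by rw [H.inA_conj_inA H.inA_t h]
  rw [R.σ_pow_mul k] at hc
  have : k % 3 < 3 := Nat.mod_lt _ (by norm_num)
  interval_cases h3 : k % 3
  · rfl
  · rw [pow_one, R.σ_t] at hc
    exact absurd hc H.v_ne_t
  · rw [pow_two, show R.σ * R.σ * H.t * (R.σ * R.σ)⁻¹ = R.σ * (R.σ * H.t * R.σ⁻¹) * R.σ⁻¹ by group, R.σ_t,
      R.σ_v] at hc
    exact absurd (mul_eq_left.mp hc) H.v_ne_one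

theorem inA_σ {g : G} (hg : H.InA g) : H.InA (R.σ * g * R.σ⁻¹) := by
  obtain ⟨i, j, b, hb, rfl⟩ := hg
  obtain ⟨b', hb', e⟩ := R.σ_Y hb
  rw [aElt, map_mul, map_pow,
    show R.σ * (H.t ^ (i : ℕ) * (H.tv ^ (j : ℕ) * H.E b)) * R.σ⁻¹ =
      (R.σ * H.t ^ (i : ℕ) * R.σ⁻¹) * ((R.σ * H.tv ^ (j : ℕ) * R.σ⁻¹) * (R.σ * H.E b * R.σ⁻¹)) by group,
    ← conj_pow, ← conj_pow, R.σ_t, R.σ_v, e]
  exact H.Asub.mul_mem (H.Asub.pow_mem H.inA_v _)
    (H.Asub.mul_mem (H.Asub.pow_mem (H.inA_mul H.inA_t H.inA_v) _) (H.inA_E hb'))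

theorem inA_σ_pow {g : G} (hg : H.InA g) (k : ℕ) : H.InA (R.σ ^ k * g * (R.σ ^ k)⁻¹) := by
  induction k with
  | zero => simpa using hg
  | succ j ih =>
    rw [show R.σ ^ (j + 1) * g * (R.σ ^ (j + 1))⁻¹ = R.σ * (R.σ ^ j * g * (R.σ ^ j)⁻¹) * R.σ⁻¹ by rw [pow_succ']; group]
    exact R.inA_σ ih

theorem σ_comm_pow {a : L} (h : Commute R.σ (H.E a)) (n : ℕ) : Commute R.σ (H.E (a ^ n)) := by
  rw [map_pow]; exact h.pow_right n

/-- Without a commuting rotation the centraliser of `a` is `A`. -/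
theorem cent_not {a : L} (ha : a ∈ H.Y) (h1 : a ≠ 1) (hσ : ¬ Commute R.σ (H.E a)) {g : G}
    (hg : Commute g (H.E a)) : H.InA g := by
  classical
  haveI : Fact (Nat.Prime 2) := ⟨Nat.prime_two⟩
  obtain ⟨S, hS⟩ := H.exists_sylow ha h1
  have hainv : a⁻¹ ≠ a := fun e => h1 (H.Y_sq ha (mul_eq_one_iff_eq_inv.mpr e.symm))
  have hN : Subgroup.normalizer ((S : Subgroup (H.M a)) : Set (H.M a)) ≤
      Subgroup.centralizer ((S : Subgroup (H.M a)) : Set (H.M a)) := by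
    intro x hx
    have hV : ∀ {w : G}, w ∈ H.Vsub → (x : G) * w * (x : G)⁻¹ ∈ H.Vsub := fun {w} hw => by
      have h : x * ⟨w, H.V_le_M ha hw⟩ * x⁻¹ ∈ (S : Subgroup (H.M a)) := (Subgroup.mem_normalizer_iff.mp hx _).mp
        (by rw [hS]; exact hw)
      rw [hS] at h
      exact h
    have hVne : ∀ {w : G}, H.InV w → H.InV ((x : G) * w * (x : G)⁻¹) := fun {w} hw =>
      (H.mem_V.mp (hV (H.mem_V.mpr (Or.inr hw)))).resolve_left fun e => H.inV_ne hw (conj_eq_one_iff.mp e)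
    obtain ⟨k, e, b, hb, hxe⟩ := R.norm_V (hVne (Or.inl rfl)) (hVne (Or.inr (Or.inl rfl)))
    have hxa : (x : G) * H.E a * (x : G)⁻¹ = H.E a := mul_inv_eq_iff_eq_mul.mpr (H.mem_M.mp x.2).eq
    rw [hxe, show R.σ ^ (k : ℕ) * R.w ^ (e : ℕ) * b * H.E a * (R.σ ^ (k : ℕ) * R.w ^ (e : ℕ) * b)⁻¹ =
      R.σ ^ (k : ℕ) * (R.w ^ (e : ℕ) * (b * H.E a * b⁻¹) * (R.w ^ (e : ℕ))⁻¹) * (R.σ ^ (k : ℕ))⁻¹ by group,
      H.inA_conj_inA (H.inA_E ha) hb] at hxa
    have hs : Commute R.σ (H.E a) → False := hσ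
    have hk : (k : ℕ) = 0 := by
      by_contra hk
      -- some power of the rotation fixes or inverts `a`
      obtain ⟨c, hc, hca⟩ : ∃ c, (c = H.E a ∨ c = H.E a⁻¹) ∧ R.σ ^ (k : ℕ) * c * (R.σ ^ (k : ℕ))⁻¹ = H.E a := by
        refine ⟨_, ?_, hxa⟩
        fin_cases e
        · exact Or.inl (by simp)
        · exact Or.inr (by simpa using R.w_Y a ha)
      have h2 : Commute (R.σ ^ (k : ℕ) * R.σ ^ (k : ℕ)) (H.E a) := by
        refine mul_inv_eq_iff_eq_mul.mp ?_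
        rcases hc with rfl | rfl
        · rw [show R.σ ^ (k : ℕ) * R.σ ^ (k : ℕ) * H.E a * (R.σ ^ (k : ℕ) * R.σ ^ (k : ℕ))⁻¹ =
            R.σ ^ (k : ℕ) * (R.σ ^ (k : ℕ) * H.E a * (R.σ ^ (k : ℕ))⁻¹) * (R.σ ^ (k : ℕ))⁻¹ by group, hca, hca]
        · rw [map_inv, show R.σ ^ (k : ℕ) * (H.E a)⁻¹ * (R.σ ^ (k : ℕ))⁻¹ =
            (R.σ ^ (k : ℕ) * H.E a * (R.σ ^ (k : ℕ))⁻¹)⁻¹ by group, inv_eq_iff_eq_inv] at hca
          rw [show R.σ ^ (k : ℕ) * R.σ ^ (k : ℕ) * H.E a * (R.σ ^ (k : ℕ) * R.σ ^ (k : ℕ))⁻¹ =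
            R.σ ^ (k : ℕ) * (R.σ ^ (k : ℕ) * H.E a * (R.σ ^ (k : ℕ))⁻¹) * (R.σ ^ (k : ℕ))⁻¹ by group, hca,
            show R.σ ^ (k : ℕ) * (H.E a)⁻¹ * (R.σ ^ (k : ℕ))⁻¹ =
              (R.σ ^ (k : ℕ) * H.E a * (R.σ ^ (k : ℕ))⁻¹)⁻¹ by group, hca, inv_inv]
      have hk3 := k.2
      refine hs ?_
      rcases Nat.lt_or_ge (k : ℕ) 2 with h | h
      · rw [show (k : ℕ) = 1 by omega, pow_one] at h2
        have : R.σ = (R.σ * R.σ) * (R.σ * R.σ) := by
          rw [show R.σ * R.σ * (R.σ * R.σ) = R.σ * R.σ ^ 3 by rw [pow_succ, pow_two]; group, R.σ3, mul_one]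
        rw [this]; exact h2.mul_left h2
      · rw [show (k : ℕ) = 2 by omega] at h2
        have : R.σ = R.σ ^ 2 * R.σ ^ 2 := by rw [← pow_add, show 2 + 2 = 3 + 1 from rfl, pow_succ, R.σ3, one_mul]
        rw [this]; exact h2
    have he : (e : ℕ) = 0 := by
      fin_cases e
      · rfl
      · exfalso
        rw [hk] at hxa
        simp [R.w_Y a ha] at hxa
        exact hainv (iota_inj H.e (by rw [map_inv]; exact hxa))
    rw [hk, he, pow_zero, pow_zero, one_mul, one_mul] at hxe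
    refine Subgroup.mem_centralizer_iff.mpr fun s hs' => Subtype.ext ?_
    rw [hS] at hs'
    exact (H.inA_comm (H.V_inA hs') (hxe ▸ hb)).eq
  haveI hSc : IsMulCommutative (S : Subgroup (H.M a)) := ⟨⟨fun p r => Subtype.ext (Subtype.ext
    ((H.inA_comm (H.V_inA (hS.le p.2)) (H.V_inA (hS.le r.2))).eq))⟩⟩
  have hcompl := MonoidHom.ker_transferSylow_isComplement' S hN
  set K := (MonoidHom.transferSylow S hN).ker with hK
  have hSK := hcompl.card_mul
  have hSc4 : Nat.card (S : Subgroup (H.M a)) = 4 := by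
    rw [hS, Nat.card_congr (Subgroup.subgroupOfEquivOfLe (H.V_le_M ha)).toEquiv, H.card_V]
  have hKodd : ¬ 2 ∣ Nat.card K := by
    intro h
    have hidx := S.not_dvd_index
    rw [hcompl.index_eq_card] at hidx
    exact hidx h
  set K' := K.map (H.M a).subtype with hK'
  haveI : IsMulCommutative H.Vsub := ⟨⟨fun p r => Subtype.ext (H.inA_comm (H.V_inA p.2) (H.V_inA r.2)).eq⟩⟩
  have hVnc : ¬ IsCyclic H.Vsub := fun hc => by
    obtain ⟨g, hg⟩ := hc.exists_generator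
    have h4 := orderOf_eq_card_of_forall_mem_zpowers hg
    rw [H.card_V] at h4
    have h2 : g ^ 2 = 1 := Subtype.ext (by
      rcases H.mem_V.mp g.2 with h | h
      · show (g : G) ^ 2 = 1
        rw [h, one_pow]
      · show (g : G) ^ 2 = 1
        rw [pow_two, H.inV_sq h])
    have := Nat.le_of_dvd (by norm_num) (orderOf_dvd_of_pow_eq_one h2)
    omega
  have hKn : K.Normal := MonoidHom.normal_ker _
  clear_value K
  have hVK : H.Vsub ≤ Subgroup.normalizer (K' : Set G) := fun w hw => by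
    refine mem_normalizer_of_conj fun x hx => ?_
    rw [hK'] at hx ⊢
    obtain ⟨x', hx', ex⟩ := Subgroup.mem_map.mp hx
    refine Subgroup.mem_map.mpr ⟨(⟨w, H.V_le_M ha hw⟩ : H.M a) * x' * (⟨w, H.V_le_M ha hw⟩ : H.M a)⁻¹,
      hKn.conj_mem x' hx' _, ?_⟩
    rw [← ex]
    simp only [Subgroup.coe_subtype, Subgroup.coe_mul, Subgroup.coe_inv]
  have hKle : K' ≤ H.Asub := by
    have hcop : (Nat.card H.Vsub).Coprime (Nat.card K') := by
      rw [H.card_V, hK', Subgroup.card_map_of_injective (H.M a).subtype_injective, show (4 : ℕ) = 2 ^ 2 by norm_num]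
      exact Nat.Coprime.pow_left 2 (Nat.prime_two.coprime_iff_not_dvd.mpr hKodd)
    rw [← CfsgLib.coprime_generated_by_centralizers hVnc hVK hcop]
    refine iSup₂_le fun w hw x hx => ?_
    obtain ⟨x', -, rfl⟩ := hx.1
    exact H.cent_V_Y ((H.mem_V.mp hw.1).resolve_left hw.2) ha h1 (Subgroup.mem_centralizer_singleton_iff.mp hx.2)
      (H.mem_M.mp x'.2)
  obtain ⟨⟨k, s⟩, hks⟩ := hcompl.2 (⟨g, H.mem_M.mpr hg⟩ : H.M a)
  have e : g = ((k : H.M a) : G) * ((s : H.M a) : G) := (congrArg Subtype.val hks).symm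
  rw [e]
  exact H.Asub.mul_mem (hKle ⟨_, k.2, rfl⟩) (H.V_inA (hS.le s.2))

/-- The two shapes of the centraliser of an element of `Y` commuting with the rotation. -/
def Alt (a : L) : Prop :=
  (∀ x, Commute x (H.E a) → ∃ (k : Fin 3) (g : G), H.InA g ∧ x = R.σ ^ (k : ℕ) * g) ∨
  ∃ φ : alternatingGroup (Fin 5) →* G, Function.Injective φ ∧ (∀ r, Commute (φ r) (H.E a)) ∧
    (∀ r, ∀ b ∈ H.Y, Commute (φ r) (H.E b)) ∧ ∀ x, Commute x (H.E a) → ∃ r, ∃ b ∈ H.Y, x = φ r * H.E b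

theorem a5_two_invol : ∀ r : alternatingGroup (Fin 5),
    ∃ p q : alternatingGroup (Fin 5), p * p = 1 ∧ q * q = 1 ∧ r = p * q := by decide +kernel

theorem a5_cent : ∀ r0 r : alternatingGroup (Fin 5), r0 * r0 * r0 = 1 → r0 ≠ 1 → r * r0 = r0 * r →
    r = 1 ∨ r = r0 ∨ r = r0 * r0 := by decide +kernel

theorem a5_center (r : alternatingGroup (Fin 5)) (h : ∀ s, s * r = r * s) : r = 1 := by
  revert r
  decide +kernel

include R in
/-- Consequences of the decomposition. -/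
theorem range_inter {φ : alternatingGroup (Fin 5) →* G} (hφ : Function.Injective φ)
    (hc : ∀ r, ∀ b ∈ H.Y, Commute (φ r) (H.E b)) {r : alternatingGroup (Fin 5)} {b : L} (hb : b ∈ H.Y)
    (h : φ r = H.E b) : r = 1 ∧ b = 1 := by
  have hr : r = 1 := a5_center r fun s => hφ (by rw [map_mul, map_mul, h]; exact (hc s b hb).eq)
  exact ⟨hr, iota_inj H.e (by rw [map_one, ← h, hr, map_one])⟩

include R in
theorem unique {φ : alternatingGroup (Fin 5) →* G} (hφ : Function.Injective φ)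
    (hc : ∀ r, ∀ b ∈ H.Y, Commute (φ r) (H.E b)) {r r' : alternatingGroup (Fin 5)} {b b' : L} (hb : b ∈ H.Y)
    (hb' : b' ∈ H.Y) (h : φ r * H.E b = φ r' * H.E b') : r = r' ∧ b = b' := by
  obtain ⟨h1, h2⟩ := R.range_inter hφ hc (r := r'⁻¹ * r) (b := b' * b⁻¹) (mul_mem hb' (inv_mem hb)) (by
    rw [map_mul, map_inv, map_mul, map_inv, eq_mul_inv_iff_mul_eq, mul_assoc, h, inv_mul_cancel_left])
  exact ⟨(inv_mul_eq_one.mp h1).symm, (mul_inv_eq_one.mp h2).symm⟩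

include R in
/-- An element of square one lies in the alternating group. -/
theorem invol_range {φ : alternatingGroup (Fin 5) →* G} (hφ : Function.Injective φ)
    (hc : ∀ r, ∀ b ∈ H.Y, Commute (φ r) (H.E b)) {r : alternatingGroup (Fin 5)} {b : L} (hb : b ∈ H.Y)
    (h : φ r * H.E b * (φ r * H.E b) = 1) : b = 1 := by
  refine H.Y_sq hb ?_
  rw [(hc r b hb).symm.mul_mul_mul_comm, ← map_mul, ← map_mul] at h
  exact (R.unique hφ hc (r := r * r) (r' := 1) (mul_mem hb hb) (one_mem _) (h.trans (by simp))).2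

/-- The rotation lies in the alternating group. -/
theorem σ_mem {a : L} (ha : a ∈ H.Y) (hσ : Commute R.σ (H.E a)) {φ : alternatingGroup (Fin 5) →* G}
    (hφ : Function.Injective φ) (hφa : ∀ r, Commute (φ r) (H.E a))
    (hc : ∀ r, ∀ b ∈ H.Y, Commute (φ r) (H.E b))
    (hdec : ∀ x, Commute x (H.E a) → ∃ r, ∃ b ∈ H.Y, x = φ r * H.E b) :
    ∃ r0 : alternatingGroup (Fin 5), R.σ = φ r0 ∧ r0 * r0 * r0 = 1 ∧ r0 ≠ 1 := by
  obtain ⟨r0, b0, hb0, e⟩ := hdec R.σ hσ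
  -- conjugation by the involution keeps the elements of square one
  have hwa : R.w * (H.E a) * R.w⁻¹ = (H.E a)⁻¹ := by rw [R.w_Y a ha, map_inv]
  have himg : ∀ p : alternatingGroup (Fin 5), p * p = 1 → ∃ p', R.w * φ p * R.w⁻¹ = φ p' := by
    intro p hp
    have hcm : Commute (R.w * φ p * R.w⁻¹) (H.E a) := by
      have h := commute_conj (hφa p).inv_right R.w
      rwa [show R.w * (H.E a)⁻¹ * R.w⁻¹ = H.E a by rw [← conj_inv, hwa, inv_inv]] at h
    obtain ⟨p', b, hb, e'⟩ := hdec _ hcm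
    have hsq : φ p' * H.E b * (φ p' * H.E b) = 1 := by
      rw [← e', show R.w * φ p * R.w⁻¹ * (R.w * φ p * R.w⁻¹) = R.w * (φ p * φ p) * R.w⁻¹ by group, ← map_mul, hp,
        map_one, mul_one, mul_inv_cancel]
    rw [R.invol_range hφ hc hb hsq, map_one, mul_one] at e'
    exact ⟨p', e'⟩
  obtain ⟨p, q, hp, hq, rfl⟩ := a5_two_invol r0
  obtain ⟨p', hp'⟩ := himg p hp
  obtain ⟨q', hq'⟩ := himg q hq
  have hfix : R.w * R.σ * R.w⁻¹ = R.σ := mul_inv_eq_iff_eq_mul.mpr R.w_σ.eq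
  rw [e, show R.w * (φ (p * q) * H.E b0) * R.w⁻¹ = (R.w * φ p * R.w⁻¹) * (R.w * φ q * R.w⁻¹) * (R.w * H.E b0 * R.w⁻¹) by
    rw [map_mul]; group, hp', hq', R.w_Y b0 hb0, ← map_mul] at hfix
  obtain ⟨-, hb⟩ := R.unique hφ hc (inv_mem hb0) hb0 hfix
  have hb1 : b0 = 1 := H.Y_sq hb0 (mul_eq_one_iff_eq_inv.mpr hb.symm)
  rw [hb1, map_one, mul_one] at e
  refine ⟨p * q, e, hφ ?_, fun h1 => ?_⟩
  · rw [map_mul, map_mul, map_one, ← e, ← R.σ3, pow_succ, pow_two]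
  · have := R.σ_pow_A (k := 1) (by rw [pow_one, e, h1, map_one]; exact H.inA_one)
    simp at this

/-- **(F1)** The common centraliser of the rotation and `a`. -/
theorem cent_σ {a : L} (ha : a ∈ H.Y) (hσ : Commute R.σ (H.E a)) (hA : R.Alt a)
    {x : G} (hxa : Commute x (H.E a)) (hxσ : Commute x R.σ) :
    ∃ k : ℕ, ∃ c ∈ H.Y, Commute R.σ (H.E c) ∧ x = R.σ ^ k * H.E c := by
  rcases hA with hS | ⟨φ, hφ, hφa, hc, hdec⟩
  · obtain ⟨k, g, hg, rfl⟩ := hS x hxa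
    have hgσ : Commute g R.σ := by
      have h := ((Commute.refl R.σ).pow_left (k : ℕ)).inv_left.mul_left hxσ
      rwa [inv_mul_cancel_left] at h
    obtain ⟨i, j, c, hc, rfl⟩ := hg
    set g := aElt H.t H.E H.F.v i j c with hgdef
    have hpow : g ^ H.y = aElt H.t H.E H.F.v i j 1 := by
      rw [hgdef, aElt, ((H.E_comm _).pow_left _).mul_pow, odd_pow_two H.hy (by
        rw [← ((Commute.refl H.t).mul_pow), H.tt, one_pow]), ← map_pow, ((H.F.v_Y c hc).pow_left _).mul_pow,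
        H.Y_pow hc, mul_one, odd_pow_two H.hy (by rw [← ((Commute.refl H.F.v).mul_pow), two_sq H.F.hv, one_pow])]
      simp [aElt]
    have hfix : R.σ * g ^ H.y * R.σ⁻¹ = g ^ H.y := mul_inv_eq_iff_eq_mul.mpr (hgσ.pow_left _).symm.eq
    have hij : i = 0 ∧ j = 0 := by
      rw [hpow] at hfix
      have e1 := R.σ_t
      have e2 := R.σ_v
      have e3 := R.σ_tv
      fin_cases i <;> fin_cases j <;> simp [aElt] at hfix ⊢
      · rw [e2] at hfix
        exact two_ne_one H.ht (mul_eq_right.mp hfix)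
      · rw [e1] at hfix
        exact H.v_ne_t hfix
      · rw [e3] at hfix
        exact H.v_ne_one (mul_eq_left.mp hfix.symm)
    rw [hij.1, hij.2] at hgdef
    have hgc : g = H.E c := by rw [hgdef]; simp [aElt]
    exact ⟨k, c, hc, (hgc ▸ hgσ).symm, by rw [hgc]⟩
  · obtain ⟨r0, hr0, h3, hne⟩ := R.σ_mem ha hσ hφ hφa hc hdec
    obtain ⟨r, b, hb, rfl⟩ := hdec x hxa
    have hσb : Commute R.σ (H.E b) := hr0 ▸ hc r0 b hb
    have hrr : r * r0 = r0 * r := hφ (by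
      have h := hxσ.mul_left hσb.symm.inv_left
      rw [mul_inv_cancel_right, hr0] at h
      rw [map_mul, map_mul]; exact h.eq)
    rcases a5_cent r0 r h3 hne hrr with h | h | h
    · exact ⟨0, b, hb, hσb, by rw [h, map_one, pow_zero]⟩
    · exact ⟨1, b, hb, hσb, by rw [h, ← hr0, pow_one]⟩
    · exact ⟨2, b, hb, hσb, by rw [h, map_mul, ← hr0, pow_two]⟩

/-- **(F2)** An element of odd order fuses no two generators of a subgroup fixed by the rotation. -/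
theorem fusion {a b : L} (ha : a ∈ H.Y) (h1 : a ≠ 1) (hσ : Commute R.σ (H.E a))
    (hba : b ∈ Subgroup.zpowers a) (hab : a ∈ Subgroup.zpowers b) {g : G} {n : ℕ} (hn : Odd n) (hgn : g ^ n = 1)
    (hg : g * H.E a * g⁻¹ = H.E b) : b = a := by
  have hMb : ∀ {x : G}, Commute x (H.E a) ↔ Commute x (H.E b) := fun {x} => by
    constructor
    · intro hx
      obtain ⟨k, rfl⟩ := Subgroup.mem_zpowers_iff.mp hba
      rw [map_zpow]; exact hx.zpow_right k
    · intro hx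
      obtain ⟨k, rfl⟩ := Subgroup.mem_zpowers_iff.mp hab
      rw [map_zpow]; exact hx.zpow_right k
  have hV : ∀ {w : G}, H.InV w → Commute (g * w * g⁻¹) (H.E a) := fun {w} hw =>
    hMb.mpr (hg ▸ commute_conj (H.inA_comm (H.inV_inA hw) (H.inA_E ha)) g)
  obtain ⟨m, hm, hmt, hmv⟩ := H.conj_V ha h1 (t' := g * H.t * g⁻¹) (v' := g * H.tv * g⁻¹)
    (by rw [show g * H.t * g⁻¹ * (g * H.t * g⁻¹) = g * (H.t * H.t) * g⁻¹ by group, H.tt, mul_one, mul_inv_cancel])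
    (by rw [show g * H.tv * g⁻¹ * (g * H.tv * g⁻¹) = g * (H.tv * H.tv) * g⁻¹ by group, H.vv, mul_one, mul_inv_cancel])
    (commute_conj (H.E_comm _) g) (hV (Or.inl rfl)) (hV (Or.inr (Or.inl rfl)))
  have key : ∀ {w : G}, w ≠ 1 → m * (g * w * g⁻¹) * m⁻¹ ∈ H.Vsub → H.InV (m * g * w * (m * g)⁻¹) := by
    intro w hw hmem
    rw [show m * (g * w * g⁻¹) * m⁻¹ = m * g * w * (m * g)⁻¹ by group] at hmem
    exact (H.mem_V.mp hmem).resolve_left fun e => hw (conj_eq_one_iff.mp e)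
  obtain ⟨k, e, c, hc, hmg⟩ := R.norm_V (key (two_ne_one H.ht) hmt) (key H.v_ne_one hmv)
  have h2 : m * g * H.E a * (m * g)⁻¹ = H.E b := by
    rw [show m * g * H.E a * (m * g)⁻¹ = m * (g * H.E a * g⁻¹) * m⁻¹ by group, hg]
    exact mul_inv_eq_iff_eq_mul.mpr (hMb.mp hm).eq
  rw [hmg, show R.σ ^ (k : ℕ) * R.w ^ (e : ℕ) * c * H.E a * (R.σ ^ (k : ℕ) * R.w ^ (e : ℕ) * c)⁻¹ =
      R.σ ^ (k : ℕ) * (R.w ^ (e : ℕ) * (c * H.E a * c⁻¹) * (R.w ^ (e : ℕ))⁻¹) * (R.σ ^ (k : ℕ))⁻¹ by group,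
    H.inA_conj_inA (H.inA_E ha) hc] at h2
  fin_cases e
  · simp at h2
    rw [(hσ.pow_left (k : ℕ)).eq, mul_inv_cancel_right] at h2
    exact (iota_inj H.e h2).symm
  · exfalso
    simp [R.w_Y a ha] at h2
    rw [(hσ.inv_right.pow_left (k : ℕ)).eq, mul_inv_cancel_right, ← map_inv] at h2
    have hb : b = a⁻¹ := (iota_inj H.e h2).symm
    subst hb
    have h2g : Commute (g * g) (H.E a) := by
      refine mul_inv_eq_iff_eq_mul.mp ?_
      rw [show g * g * H.E a * (g * g)⁻¹ = g * (g * H.E a * g⁻¹) * g⁻¹ by group, hg, map_inv, ← conj_inv, hg,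
        map_inv, inv_inv]
    obtain ⟨i, rfl⟩ := hn
    have hgg : g = (g * g) ^ (i + 1) := by
      rw [← pow_two, ← pow_mul, show 2 * (i + 1) = 2 * i + 1 + 1 by ring, pow_succ, hgn, one_mul]
    have hga : Commute g (H.E a) := by rw [hgg]; exact h2g.pow_left _
    rw [hga.eq, mul_inv_cancel_right, map_inv] at hg
    exact h1 (H.Y_sq ha (iota_inj H.e (by rw [map_mul, map_one]; exact mul_eq_one_iff_eq_inv.mpr hg)))

end Rot

end Hyp

end CfsgLib.JankoThompson
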