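import Mathlib

/-!
Two general lemmas: a normal complement by the transfer, and the square formula for an involution inverting an
element acting without fixed points.
-/

set_option autoImplicit false
set_option linter.unusedSectionVars false
set_option linter.style.haveILetI false

namespace CfsgLib.JankoThompson

variable {X : Type*} [Group X] [Finite X]

/-- A commutative subgroup of coprime order and index without fusion has a normal complement. -/
theorem exists_complement (C : Subgroup X) [IsMulCommutative C] (hcop : (Nat.card C).Coprime C.index)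
    (hfus : ∀ g : X, ∀ a ∈ C, g * a * g⁻¹ ∈ C → g * a * g⁻¹ = a) :
    ∃ K : Subgroup X, K.Normal ∧ Nat.card K = C.index ∧ ∀ x, x ∈ K ↔ x ^ C.index = 1 := by
  classical
  letI : CommGroup C := { (inferInstance : Group C) with
    mul_comm := fun a b => (inferInstance : IsMulCommutative C).1.comm a b }
  let v : X →* C := MonoidHom.transfer (MonoidHom.id C)
  have hv : ∀ c : C, v c = c ^ C.index := fun c => by
    refine (MonoidHom.transfer_eq_pow _ (c : X) fun k g₀ hk => ?_).trans (Subtype.ext (by simp))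
    have h := hfus g₀⁻¹ _ (pow_mem c.2 k) (by rwa [inv_inv])
    rwa [inv_inv] at h
  have hsurj : Function.Surjective v := fun c => by
    obtain ⟨k, hk⟩ := exists_pow_eq_self_of_coprime (x := c) (n := C.index)
      (Nat.Coprime.coprime_dvd_right (orderOf_dvd_natCard c) hcop.symm)
    exact ⟨(c : X) ^ k, by rw [map_pow, hv, hk]⟩
  have hcard : Nat.card v.ker = C.index := by
    have h1 := v.ker.card_mul_index
    rw [Subgroup.index_ker, MonoidHom.range_eq_top.mpr hsurj, Subgroup.card_top, ← C.card_mul_index,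
      mul_comm (Nat.card C)] at h1
    exact Nat.eq_of_mul_eq_mul_right Nat.card_pos h1
  refine ⟨v.ker, inferInstance, hcard, fun x => ⟨fun hx => ?_, fun hx => ?_⟩⟩
  · rw [← hcard]
    exact congrArg Subtype.val (pow_card_eq_one' (G := v.ker) (x := ⟨x, hx⟩))
  · refine MonoidHom.mem_ker.mpr (orderOf_eq_one_iff.mp (Nat.eq_one_of_dvd_coprimes hcop (orderOf_dvd_natCard _) ?_))
    exact orderOf_dvd_of_pow_eq_one (by rw [← map_pow, hx, map_one])

/-- An involution inverting an element acting without fixed points fixes a square root of the order. -/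
theorem card_eq_sq {K : Subgroup X} [K.Normal] {a u : X} (hu : u * u = 1) (hua : u * a * u⁻¹ = a⁻¹)
    (ho : Odd (orderOf a)) (hfpf : ∀ k ∈ K, Commute k a → k = 1) :
    Nat.card K = Nat.card ↥(K ⊓ Subgroup.centralizer ({u} : Set X)) ^ 2 := by
  classical
  have hui : u⁻¹ = u := inv_eq_of_mul_eq_one_right hu
  set b := a ^ ((orderOf a + 1) / 2) with hb
  have hbb : b * b = a := by
    obtain ⟨n, hn⟩ := ho
    rw [hb, ← pow_add, show (orderOf a + 1) / 2 + (orderOf a + 1) / 2 = orderOf a + 1 by omega, pow_succ,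
      pow_orderOf_eq_one, one_mul]
  set u' := a * u with hu'
  have hbu : b * u * b⁻¹ = u' := by
    have h : u * b⁻¹ * u⁻¹ = b := by
      rw [hb, ← inv_pow, ← conj_pow, ← conj_inv, hua, inv_inv]
    calc b * u * b⁻¹ = b * (u * b⁻¹ * u⁻¹) * u := by group
      _ = u' := by rw [h, hbb]
  have hnorm : ∀ g : X, ∀ k ∈ K, g * k * g⁻¹ ∈ K := fun g k hk => (inferInstance : K.Normal).conj_mem k hk g
  let O : X → Type _ := fun x => {y : X // ∃ k : K, (k : X) * x * (k : X)⁻¹ = y}
  let Φ : K → O u × O u' := fun k => (⟨_, k, rfl⟩, ⟨_, k, rfl⟩)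
  have hinj : Function.Injective Φ := by
    intro k k' e
    have e1 : (k : X) * u * (k : X)⁻¹ = k' * u * (k' : X)⁻¹ := congrArg (fun p => p.1.1) e
    have e2 : (k : X) * u' * (k : X)⁻¹ = k' * u' * (k' : X)⁻¹ := congrArg (fun p => p.2.1) e
    set d := (k' : X)⁻¹ * k with hd
    have c1 : Commute d u := by
      refine mul_inv_eq_iff_eq_mul.mp ?_
      rw [hd, show (k' : X)⁻¹ * k * u * ((k' : X)⁻¹ * k)⁻¹ = (k' : X)⁻¹ * (k * u * (k : X)⁻¹) * k' by group, e1]
      group
    have c2 : Commute d u' := by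
      refine mul_inv_eq_iff_eq_mul.mp ?_
      rw [hd, show (k' : X)⁻¹ * k * u' * ((k' : X)⁻¹ * k)⁻¹ = (k' : X)⁻¹ * (k * u' * (k : X)⁻¹) * k' by group, e2]
      group
    have hda : Commute d a := by
      have h := c2.mul_right c1.inv_right
      rwa [hu', mul_inv_cancel_right] at h
    exact (Subtype.ext (inv_mul_eq_one.mp (hfpf d (mul_mem (inv_mem k'.2) k.2) hda))).symm
  have hsurj : Function.Surjective Φ := by
    rintro ⟨⟨x, k1, hx⟩, ⟨x', k2, hx'⟩⟩
    -- the product lies in the coset of `a`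
    let c : K → K := fun k => ⟨(k : X) * a * (k : X)⁻¹ * a⁻¹, by
      rw [show (k : X) * a * (k : X)⁻¹ * a⁻¹ = k * (a * (k : X)⁻¹ * a⁻¹) by group]
      exact mul_mem k.2 (hnorm a _ (inv_mem k.2))⟩
    have hc : Function.Injective c := by
      intro k k' e
      have e' : (k : X) * a * (k : X)⁻¹ * a⁻¹ = k' * a * (k' : X)⁻¹ * a⁻¹ := congrArg Subtype.val e
      have e'' := mul_right_cancel e'
      have hd : Commute ((k' : X)⁻¹ * k) a := by
        refine mul_inv_eq_iff_eq_mul.mp ?_
        rw [show (k' : X)⁻¹ * k * a * ((k' : X)⁻¹ * k)⁻¹ = (k' : X)⁻¹ * (k * a * (k : X)⁻¹) * k' by group, e'']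
        group
      exact (Subtype.ext (inv_mul_eq_one.mp (hfpf _ (mul_mem (inv_mem k'.2) k.2) hd))).symm
    have hmem : x' * x * a⁻¹ ∈ K := by
      rw [← hx, ← hx', hu', show (k2 : X) * (a * u) * (k2 : X)⁻¹ * ((k1 : X) * u * (k1 : X)⁻¹) * a⁻¹ =
        k2 * (a * (u * ((k2 : X)⁻¹ * k1) * u⁻¹) * a⁻¹) * (a * (u * u) * (k1 : X)⁻¹ * a⁻¹) by group, hu, mul_one]
      exact mul_mem (mul_mem k2.2 (hnorm a _ (hnorm u _ (mul_mem (inv_mem k2.2) k1.2)))) (hnorm a _ (inv_mem k1.2))
    obtain ⟨k, hk⟩ := (Finite.injective_iff_surjective.mp hc) ⟨_, hmem⟩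
    have hk' : (k : X) * a * (k : X)⁻¹ = x' * x := mul_right_cancel (congrArg Subtype.val hk)
    have hxx : x * x = 1 := by
      rw [← hx, show (k1 : X) * u * (k1 : X)⁻¹ * ((k1 : X) * u * (k1 : X)⁻¹) = k1 * (u * u) * (k1 : X)⁻¹ by group,
        hu, mul_one, mul_inv_cancel]
    have hxx' : x' * x' = 1 := by
      rw [← hx', show (k2 : X) * u' * (k2 : X)⁻¹ * ((k2 : X) * u' * (k2 : X)⁻¹) = k2 * (u' * u') * (k2 : X)⁻¹ by group,
        show u' * u' = a * (u * a * u⁻¹) * (u * u) by rw [hu']; group, hua, hu, mul_one, mul_inv_cancel, mul_one,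
        mul_inv_cancel]
    -- the conjugate of the involution inverts `a`
    set s := (k : X)⁻¹ * x * k * u with hs
    have hsK : s ∈ K := by
      rw [hs, ← hx, show (k : X)⁻¹ * ((k1 : X) * u * (k1 : X)⁻¹) * k * u =
        ((k : X)⁻¹ * k1) * (u * ((k1 : X)⁻¹ * k) * u⁻¹) * (u * u) by group, hu, mul_one]
      exact mul_mem (mul_mem (inv_mem k.2) k1.2) (hnorm u _ (mul_mem (inv_mem k1.2) k.2))
    have hxinv : x * (x' * x) * x⁻¹ = (x' * x)⁻¹ := by
      rw [mul_inv_rev, inv_eq_of_mul_eq_one_right hxx, inv_eq_of_mul_eq_one_right hxx',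
        show x * (x' * x) * x = x * x' * (x * x) by group, hxx, mul_one]
    rw [← hk'] at hxinv
    have hsa : Commute s a⁻¹ := by
      refine mul_inv_eq_iff_eq_mul.mp ?_
      calc s * a⁻¹ * s⁻¹ = (k : X)⁻¹ * (x * (k * (u * a⁻¹ * u⁻¹) * (k : X)⁻¹) * x⁻¹) * k := by rw [hs]; group
        _ = a⁻¹ := by rw [← conj_inv, hua, inv_inv, hxinv]; group
    have hs1 : s = 1 := hfpf s hsK (by simpa using hsa.inv_right)
    have hxk : (k : X) * u * (k : X)⁻¹ = x := by
      rw [hs, mul_eq_one_iff_eq_inv, hui] at hs1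
      rw [← hs1]; group
    have hxk' : (k : X) * u' * (k : X)⁻¹ = x' := by
      rw [hu', show (k : X) * (a * u) * (k : X)⁻¹ = (k * a * (k : X)⁻¹) * (k * u * (k : X)⁻¹) by group, hk', hxk,
        mul_assoc, hxx, mul_one]
    exact ⟨k, Prod.ext (Subtype.ext hxk) (Subtype.ext hxk')⟩
  have h1 : Nat.card K = Nat.card (O u) * Nat.card (O u') := by
    rw [← Nat.card_prod]
    exact Nat.card_eq_of_bijective Φ ⟨hinj, hsurj⟩
  have h2 : Nat.card (O u') = Nat.card (O u) := by
    refine (Nat.card_congr (Equiv.subtypeEquiv (MulAut.conj b).toEquiv fun y => ?_)).symm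
    show (∃ k : K, (k : X) * u * (k : X)⁻¹ = y) ↔ ∃ k : K, (k : X) * u' * (k : X)⁻¹ = b * y * b⁻¹
    constructor
    · rintro ⟨k, rfl⟩
      exact ⟨⟨_, hnorm b _ k.2⟩, by rw [← hbu]; group⟩
    · rintro ⟨k, e⟩
      refine ⟨⟨_, hnorm b⁻¹ _ k.2⟩, ?_⟩
      show b⁻¹ * k * b⁻¹⁻¹ * u * (b⁻¹ * k * b⁻¹⁻¹)⁻¹ = y
      rw [show y = b⁻¹ * (b * y * b⁻¹) * b by group, ← e, ← hbu]
      group
  have h3 : Nat.card (O u) * Nat.card ↥(K ⊓ Subgroup.centralizer ({u} : Set X)) = Nat.card K := by
    have hle : K ⊓ Subgroup.centralizer ({u} : Set X) ≤ K := inf_le_left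
    rw [← Nat.card_congr (Subgroup.subgroupOfEquivOfLe hle).toEquiv]
    set C := (K ⊓ Subgroup.centralizer ({u} : Set X)).subgroupOf K
    have : Nat.card (O u) = C.index := by
      rw [Subgroup.index]
      refine (Nat.card_eq_of_bijective (fun q : K ⧸ C => Quotient.liftOn' q
        (fun k => (⟨_, k, rfl⟩ : O u)) fun g k hgk => Subtype.ext ?_) ⟨?_, fun y => ?_⟩).symm
      · have hm : ((g⁻¹ * k : K) : X) ∈ K ⊓ Subgroup.centralizer ({u} : Set X) :=
          Subgroup.mem_subgroupOf.mp (QuotientGroup.leftRel_apply.mp hgk)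
        have hc : Commute ((g : X)⁻¹ * k) u := Subgroup.mem_centralizer_singleton_iff.mp hm.2
        calc (g : X) * u * (g : X)⁻¹ = g * (((g : X)⁻¹ * k) * u * ((g : X)⁻¹ * k)⁻¹) * (g : X)⁻¹ := by
              rw [hc.eq, mul_inv_cancel_right]
          _ = k * u * (k : X)⁻¹ := by group
      · intro p q
        refine Quotient.inductionOn₂' p q fun g k e => Quotient.sound' (QuotientGroup.leftRel_apply.mpr ?_)
        have e' : (g : X) * u * (g : X)⁻¹ = k * u * (k : X)⁻¹ := congrArg Subtype.val e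
        refine ⟨(g⁻¹ * k).2, Subgroup.mem_centralizer_singleton_iff.mpr ?_⟩
        show (g : X)⁻¹ * k * u = u * ((g : X)⁻¹ * k)
        calc (g : X)⁻¹ * k * u = (g : X)⁻¹ * (k * u * (k : X)⁻¹) * k := by group
          _ = (g : X)⁻¹ * (g * u * (g : X)⁻¹) * k := by rw [e']
          _ = u * ((g : X)⁻¹ * k) := by group
      · obtain ⟨k, hk⟩ := y.2
        exact ⟨QuotientGroup.mk k, Subtype.ext hk⟩
    rw [this, mul_comm, C.card_mul_index]
  have h4 : Nat.card (O u) = Nat.card ↥(K ⊓ Subgroup.centralizer ({u} : Set X)) := by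
    have hpos : 0 < Nat.card (O u) := by
      haveI : Nonempty (O u) := ⟨⟨u, 1, by simp⟩⟩
      exact Nat.card_pos
    exact Nat.eq_of_mul_eq_mul_left hpos ((h1.trans (by rw [h2])).symm.trans h3.symm)
  rw [h1, h2, h4, pow_two]

/-- A group acted on without fixed points by an element of prime order `l` has order `1` modulo `l`. -/
theorem card_modEq_one {K : Subgroup X} [K.Normal] {a : X} {l : ℕ} [Fact l.Prime] (ha : orderOf a = l)
    (hfpf : ∀ k ∈ K, Commute k a → k = 1) : Nat.card K ≡ 1 [MOD l] := by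
  classical
  letI act : MulAction (Subgroup.zpowers a) K :=
    MulAction.compHom K ((MulAut.conjNormal : X →* MulAut K).comp (Subgroup.zpowers a).subtype)
  have hp : IsPGroup l (Subgroup.zpowers a) := IsPGroup.of_card (n := 1) (by rw [Nat.card_zpowers, ha, pow_one])
  have h := hp.card_modEq_card_fixedPoints K
  have hsm : ∀ (g : Subgroup.zpowers a) (k : K), ((g • k : K) : X) = (g : X) * k * (g : X)⁻¹ := fun g k => rfl
  have hfix : MulAction.fixedPoints (Subgroup.zpowers a) K = {1} := by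
    ext k
    simp only [Set.mem_singleton_iff, MulAction.mem_fixedPoints]
    constructor
    · intro hk
      have e := congrArg Subtype.val (hk ⟨a, Subgroup.mem_zpowers a⟩)
      rw [hsm] at e
      exact Subtype.ext (hfpf k k.2 (mul_inv_eq_iff_eq_mul.mp e).symm)
    · rintro rfl g
      exact Subtype.ext (by rw [hsm]; simp)
  rw [hfix, Nat.card_eq_fintype_card (α := ({1} : Set K))] at h
  simpa using h

end CfsgLib.JankoThompson
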