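import Cfsg.Agent.Lib.JankoThompson.LocalCent
import Cfsg.Agent.Lib.JankoThompson.LocalCount
import Cfsg.Agent.Lib.JankoThompson.FourCent

/-!
The rotation of `V` centralises no element of `Y` (the key lemma of `blueprint/S0343.md`, section 1).
-/

set_option autoImplicit false
set_option linter.unusedSectionVars false
set_option linter.style.haveILetI false
set_option maxHeartbeats 1600000

namespace CfsgLib.JankoThompson

universe u v

theorem a5_three : ∀ r : alternatingGroup (Fin 5), r * r * r = 1 → r ≠ 1 →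
    ∃ p : alternatingGroup (Fin 5), p * r * p⁻¹ =
      ⟨Equiv.swap 0 1 * Equiv.swap 1 2, Equiv.Perm.mem_alternatingGroup.mpr (by decide)⟩ := by decide +kernel

theorem a5_three_conj {r r' : alternatingGroup (Fin 5)} (h : r * r * r = 1) (h1 : r ≠ 1) (h' : r' * r' * r' = 1)
    (h1' : r' ≠ 1) : ∃ p, p * r * p⁻¹ = r' := by
  obtain ⟨p, hp⟩ := a5_three r h h1
  obtain ⟨p', hp'⟩ := a5_three r' h' h1'
  exact ⟨p'⁻¹ * p, by rw [show p'⁻¹ * p * r * (p'⁻¹ * p)⁻¹ = p'⁻¹ * (p * r * p⁻¹) * p' by group, hp, ← hp']; group⟩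

/-- An element permuting two inverse pairs has fourth power fixing the first. -/
theorem four_act {G : Type*} [Group G] {g z₁ z₂ : G} (h1 : g * z₁ * g⁻¹ ∈ ({z₁, z₁⁻¹, z₂, z₂⁻¹} : Set G))
    (h2 : g * z₂ * g⁻¹ ∈ ({z₁, z₁⁻¹, z₂, z₂⁻¹} : Set G)) (hne : z₁ ≠ z₂) (hne' : z₁ ≠ z₂⁻¹) :
    g ^ 4 * z₁ * (g ^ 4)⁻¹ = z₁ := by
  set f : G → G := fun x => g * x * g⁻¹ with hf
  have hinv : ∀ x, f x⁻¹ = (f x)⁻¹ := fun x => conj_inv.symm
  have hfi : Function.Injective f := fun x y e => mul_left_cancel (mul_right_cancel e)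
  have h4 : g ^ 4 * z₁ * (g ^ 4)⁻¹ = f (f (f (f z₁))) := by
    simp only [hf, pow_succ, pow_zero, one_mul]; group
  rw [h4]
  have hsq : f (f z₁) = z₁ ∨ f (f z₁) = z₁⁻¹ := by
    simp only [Set.mem_insert_iff, Set.mem_singleton_iff] at h1 h2
    change f z₁ = z₁ ∨ f z₁ = z₁⁻¹ ∨ f z₁ = z₂ ∨ f z₁ = z₂⁻¹ at h1
    change f z₂ = z₁ ∨ f z₂ = z₁⁻¹ ∨ f z₂ = z₂ ∨ f z₂ = z₂⁻¹ at h2
    rcases h1 with e | e | e | e
    · exact Or.inl (by rw [e, e])
    · exact Or.inl (by rw [e, hinv, e, inv_inv])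
    · rcases h2 with k | k | k | k
      · exact Or.inl (by rw [e, k])
      · exact Or.inr (by rw [e, k])
      · exact absurd (hfi (e.trans k.symm)) hne
      · exact absurd (hfi (e.trans (by rw [hinv, k, inv_inv]))) hne'
    · rcases h2 with k | k | k | k
      · exact Or.inr (by rw [e, hinv, k])
      · exact Or.inl (by rw [e, hinv, k, inv_inv])
      · exact absurd (hfi (e.trans (by rw [hinv, k]))) hne'
      · exact absurd (hfi (e.trans k.symm)) hne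
  rcases hsq with e | e
  · rw [e, e]
  · rw [e, hinv, hinv, e, inv_inv]

/-- The image in the quotient by a normal subgroup inside. -/
theorem card_map_mk {X : Type*} [Group X] [Finite X] (Z : Subgroup X) [Z.Normal] {K : Subgroup X} (h : Z ≤ K) :
    Nat.card (K.map (QuotientGroup.mk' Z)) * Nat.card Z = Nat.card K := by
  set f := (QuotientGroup.mk' Z).comp K.subtype
  have hr : f.range = K.map (QuotientGroup.mk' Z) := by
    rw [MonoidHom.range_comp, Subgroup.range_subtype]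
  have hk : f.ker = Z.subgroupOf K := by
    ext x
    rw [MonoidHom.mem_ker, Subgroup.mem_subgroupOf]
    exact QuotientGroup.eq_one_iff _
  have := f.ker.card_mul_index
  rw [Subgroup.index_ker, hr, hk, Nat.card_congr (Subgroup.subgroupOfEquivOfLe h).toEquiv] at this
  rw [← this, mul_comm]

namespace Hyp

variable {G : Type u} [Group G] [Finite G] {L : Type v} [Group L] {H : Hyp G L}

theorem zpowers_eq (H : Hyp G L) {a b : L} (ha : a ∈ H.Y) (hb : b ∈ H.Y) (h : orderOf a = orderOf b) :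
    b ∈ Subgroup.zpowers a ∧ a ∈ Subgroup.zpowers b := by
  haveI := H.cycY
  haveI : Finite L := Finite.of_injective _ (iota_inj H.e)
  letI := IsCyclic.commGroup (α := H.Y)
  have key : ∀ {x y : H.Y}, orderOf x = orderOf y → y ∈ Subgroup.zpowers x := by
    intro x y hxy
    have hle : Subgroup.zpowers x ≤ (powMonoidHom (orderOf x) : H.Y →* H.Y).ker := by
      rw [Subgroup.zpowers_le, MonoidHom.mem_ker, powMonoidHom_apply]
      exact pow_orderOf_eq_one x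
    have heq := Subgroup.eq_of_le_of_card_ge hle (by
      rw [IsCyclic.card_powMonoidHom_ker, Nat.card_zpowers]
      exact Nat.le_of_dvd (orderOf_pos x) (Nat.gcd_dvd_right _ _))
    rw [heq, MonoidHom.mem_ker, powMonoidHom_apply, hxy]
    exact pow_orderOf_eq_one y
  constructor
  · obtain ⟨k, hk⟩ := Subgroup.mem_zpowers_iff.mp
      (key (x := ⟨a, ha⟩) (y := ⟨b, hb⟩) (by rw [Subgroup.orderOf_mk, Subgroup.orderOf_mk, h]))
    exact ⟨k, congrArg Subtype.val hk⟩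
  · obtain ⟨k, hk⟩ := Subgroup.mem_zpowers_iff.mp
      (key (x := ⟨b, hb⟩) (y := ⟨a, ha⟩) (by rw [Subgroup.orderOf_mk, Subgroup.orderOf_mk, h]))
    exact ⟨k, congrArg Subtype.val hk⟩

namespace Rot

variable (R : H.Rot)

theorem σ_not_t : ¬ Commute R.σ H.t := fun h => H.v_ne_t (by
  rw [← R.σ_t, h.eq, mul_inv_cancel_right])

/-- The two shapes. -/
theorem alt {a : L} (ha : a ∈ H.Y) (h1 : a ≠ 1) (hσ : Commute R.σ (H.E a)) : R.Alt a := by
  classical
  haveI : Finite L := Finite.of_injective _ (iota_inj H.e)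
  haveI : Fact (Nat.Prime 2) := ⟨Nat.prime_two⟩
  have hYM : H.Y.map H.E ≤ H.M a := by
    rintro _ ⟨b, hb, rfl⟩
    exact H.mem_M.mpr (H.inA_comm (H.inA_E hb) (H.inA_E ha))
  let tM : H.M a := ⟨H.t, H.V_le_M ha (H.mem_V.mpr (Or.inr (Or.inl rfl)))⟩
  let vM : H.M a := ⟨H.tv, H.V_le_M ha (H.mem_V.mpr (Or.inr (Or.inr (Or.inl rfl))))⟩
  let sM : H.M a := ⟨R.σ, H.mem_M.mpr hσ⟩
  set Y' := (H.Y.map H.E).subgroupOf (H.M a) with hY'
  have hY'mem : ∀ {x : H.M a}, x ∈ Y' ↔ ∃ b ∈ H.Y, H.E b = (x : G) := fun {x} =>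
    Subgroup.mem_subgroupOf.trans Subgroup.mem_map
  have hcard : Nat.card Y' = H.y := by
    rw [hY', Nat.card_congr (Subgroup.subgroupOfEquivOfLe hYM).toEquiv,
      Subgroup.card_map_of_injective (iota_inj H.e), H.cardY]
  have hcyc : IsCyclic Y' := by
    haveI := H.cycY
    let f : H.Y →* Y' := (((H.E).comp H.Y.subtype).codRestrict (H.M a) fun b => hYM ⟨b, b.2, rfl⟩).codRestrict Y'
      fun b => hY'mem.mpr ⟨b, b.2, rfl⟩
    exact isCyclic_of_surjective f fun x => by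
      obtain ⟨b, hb, e⟩ := hY'mem.mp x.2
      exact ⟨⟨b, hb⟩, Subtype.ext (Subtype.ext e)⟩
  obtain ⟨S, hS⟩ := H.exists_sylow ha h1
  have h8 : ¬ 8 ∣ Nat.card (H.M a) := by
    rintro ⟨k, hk⟩
    have hm := (S : Subgroup (H.M a)).card_mul_index
    rw [hS, Nat.card_congr (Subgroup.subgroupOfEquivOfLe (H.V_le_M ha)).toEquiv, H.card_V, hk] at hm
    exact S.not_dvd_index ⟨k, by rw [hS]; omega⟩
  have hY'ab : ∀ x ∈ Y', Commute x tM ∧ Commute x vM := by
    intro x hx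
    obtain ⟨b, hb, e⟩ := hY'mem.mp hx
    constructor <;> refine Subtype.ext ?_
    · show (x : G) * H.t = H.t * x
      rw [← e]; exact (H.inA_comm (H.inA_E hb) H.inA_t).eq
    · show (x : G) * H.tv = H.tv * x
      rw [← e]; exact (H.inA_comm (H.inA_E hb) H.inA_v).eq
  have hcent : ∀ w : H.M a, (w = tM ∨ w = vM ∨ w = tM * vM) → ∀ x, Commute x w →
      ∃ i j : Fin 2, ∃ y ∈ Y', x = tM ^ (i : ℕ) * vM ^ (j : ℕ) * y := by
    intro w hw x hx
    have hwV : H.InV (w : G) := by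
      rcases hw with rfl | rfl | rfl
      exacts [Or.inl rfl, Or.inr (Or.inl rfl), Or.inr (Or.inr rfl)]
    obtain ⟨i, j, b, hb, e⟩ := H.cent_V_Y hwV ha h1 (congrArg Subtype.val hx.eq) (H.mem_M.mp x.2)
    refine ⟨i, j, ⟨H.E b, hYM ⟨b, hb, rfl⟩⟩, hY'mem.mpr ⟨b, hb, rfl⟩, Subtype.ext ?_⟩
    rw [e, Subgroup.coe_mul, Subgroup.coe_mul, Subgroup.coe_pow, Subgroup.coe_pow]
    simp [aElt, tM, vM, map_mul, map_pow, mul_assoc]
  have hsY : ∀ x ∈ Y', sM * x * sM⁻¹ ∈ Y' := by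
    intro x hx
    obtain ⟨b, hb, e⟩ := hY'mem.mp hx
    obtain ⟨b', hb', e'⟩ := R.σ_Y hb
    exact hY'mem.mpr ⟨b', hb', by rw [← e']; simp [sM, e]⟩
  have htv : tM ≠ vM := fun e => H.v_ne_t (congrArg Subtype.val e).symm
  rcases four_cent_structure (a := tM) (b := vM) (s := sM) (Y := Y')
      (by rw [← Subgroup.orderOf_coe]; exact H.ht)
      (by rw [← Subgroup.orderOf_coe]; exact order_two H.v_ne_one H.vv)
      (Subtype.ext (H.E_comm H.F.v).eq) htv h8 (by rw [hcard]; exact H.hy) hcyc hY'ab hcent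
      (Subtype.ext (by simp [sM, R.σ3])) (Subtype.ext (by simpa [sM, tM, vM] using R.σ_t))
      (Subtype.ext (by simpa [sM, tM, vM] using R.σ_v)) hsY with hS' | ⟨φ, hφ, -, -, hφY, hdec⟩
  · left
    intro x hx
    obtain ⟨k, i, j, y, hy, e⟩ := hS' ⟨x, H.mem_M.mpr hx⟩
    obtain ⟨b, hb, eb⟩ := hY'mem.mp hy
    refine ⟨k, aElt H.t H.E H.F.v i j b, ⟨i, j, b, hb, rfl⟩, ?_⟩
    have e' := congrArg Subtype.val e
    simp only [Subgroup.coe_mul, Subgroup.coe_pow, sM, tM, vM] at e'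
    rw [e', ← eb]
    simp [aElt, map_mul, map_pow, mul_assoc]
  · right
    refine ⟨(H.M a).subtype.comp φ, (H.M a).subtype_injective.comp hφ, fun r => H.mem_M.mp (φ r).2, ?_, ?_⟩
    · intro r b hb
      exact congrArg Subtype.val (hφY r ⟨H.E b, hYM ⟨b, hb, rfl⟩⟩ (hY'mem.mpr ⟨b, hb, rfl⟩)).eq
    · intro x hx
      obtain ⟨r, y, hy, e⟩ := hdec ⟨x, H.mem_M.mpr hx⟩
      obtain ⟨b, hb, eb⟩ := hY'mem.mp hy
      refine ⟨r, b, hb, ?_⟩
      rw [eb]
      exact congrArg Subtype.val e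

/-- An element of odd order of `⟨σ⟩ A` inverted by an involution is trivial. -/
theorem no_inverted {w' x : G} {a : L} (hA : ∀ y, Commute y (H.E a) → ∃ (k : Fin 3) (g : G), H.InA g ∧
      y = R.σ ^ (k : ℕ) * g) (hw : w' * w' = 1) (hwa : Commute w' (H.E a)) (hxa : Commute x (H.E a))
    {n : ℕ} (hn : Odd n) (hxn : x ^ n = 1) (hinv : w' * x * w'⁻¹ = x⁻¹) : x = 1 := by
  obtain ⟨k, g, hg, hk⟩ := hA w' hwa
  obtain ⟨l, g', hg', hl⟩ := hA x hxa
  have hk3 := k.2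
  have hl3 := l.2
  have hk0 : (k : ℕ) = 0 := by
    have h : H.InA (R.σ ^ ((k : ℕ) + k)) := by
      have e : R.σ ^ ((k : ℕ) + k) = (R.σ ^ (k : ℕ) * g * (R.σ ^ (k : ℕ)) * g) *
          (g⁻¹ * ((R.σ ^ ((k : ℕ) + k))⁻¹ * (R.σ ^ (k : ℕ) * g⁻¹ * (R.σ ^ (k : ℕ))⁻¹) * R.σ ^ ((k : ℕ) + k))) := by
        rw [pow_add]; group
      rw [e, show R.σ ^ (k : ℕ) * g * R.σ ^ (k : ℕ) * g = w' * w' by rw [hk]; group, hw, one_mul]
      refine H.inA_mul (H.inA_inv hg) ?_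
      have h3 : (R.σ ^ ((k : ℕ) + k))⁻¹ = R.σ ^ (2 * ((k : ℕ) + k)) := by
        rw [inv_eq_iff_mul_eq_one, ← pow_add, show (k : ℕ) + k + 2 * ((k : ℕ) + k) = 3 * ((k : ℕ) + k) by ring,
          pow_mul, R.σ3, one_pow]
      have h4 : R.σ ^ ((k : ℕ) + k) = (R.σ ^ (2 * ((k : ℕ) + k)))⁻¹ := by rw [← h3, inv_inv]
      nth_rewrite 2 [h4]
      rw [h3]
      exact R.inA_σ_pow (R.inA_σ_pow (H.inA_inv hg) _) _
    have := R.σ_pow_A h
    omega
  rw [hk0, pow_zero, one_mul] at hk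
  rw [hk] at hinv
  have hl0 : (l : ℕ) = 0 := by
    have hxi : x⁻¹ = R.σ ^ (l : ℕ) * ((R.σ ^ (l : ℕ))⁻¹ * g * R.σ ^ (l : ℕ) * g' * g⁻¹) := by
      rw [← hinv, hl]; group
    rw [hl, mul_inv_rev] at hxi
    set B := (R.σ ^ (l : ℕ))⁻¹ * g * R.σ ^ (l : ℕ) * g' * g⁻¹ with hB
    have h3 : (R.σ ^ (l : ℕ))⁻¹ = R.σ ^ (2 * (l : ℕ)) := by
      rw [inv_eq_iff_mul_eq_one, ← pow_add, show (l : ℕ) + 2 * (l : ℕ) = 3 * (l : ℕ) by ring, pow_mul, R.σ3, one_pow]
    have hBA : H.InA B := by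
      rw [hB]
      refine H.inA_mul (H.inA_mul ?_ hg') (H.inA_inv hg)
      have h4 : R.σ ^ (l : ℕ) = (R.σ ^ (2 * (l : ℕ)))⁻¹ := by rw [← h3, inv_inv]
      nth_rewrite 2 [h4]
      rw [h3]
      exact R.inA_σ_pow hg _
    have hA' : H.InA (R.σ ^ (l : ℕ) * g' * (R.σ ^ (l : ℕ))) := by
      have e : R.σ ^ (l : ℕ) * g' * R.σ ^ (l : ℕ) = B⁻¹ := by
        have e' : g'⁻¹ * (R.σ ^ (l : ℕ))⁻¹ * (R.σ ^ (l : ℕ) * g' * R.σ ^ (l : ℕ)) =
            R.σ ^ (l : ℕ) * B * B⁻¹ := by rw [mul_inv_cancel_right]; group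
        rw [hxi] at e'
        exact mul_left_cancel e'
      rw [e]; exact H.inA_inv hBA
    have h : H.InA (R.σ ^ ((l : ℕ) + l)) := by
      have e : R.σ ^ ((l : ℕ) + l) = (R.σ ^ (l : ℕ) * g' * R.σ ^ (l : ℕ)) *
          ((R.σ ^ (l : ℕ))⁻¹ * g'⁻¹ * R.σ ^ (l : ℕ)) := by rw [pow_add]; group
      rw [e]
      refine H.inA_mul hA' ?_
      have h4 : R.σ ^ (l : ℕ) = (R.σ ^ (2 * (l : ℕ)))⁻¹ := by rw [← h3, inv_inv]
      nth_rewrite 2 [h4]
      rw [h3]
      exact R.inA_σ_pow (H.inA_inv hg') _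
    have := R.σ_pow_A h
    omega
  rw [hl0, pow_zero, one_mul] at hl
  subst hl
  rw [H.inA_conj_inA hg' hg] at hinv
  have h2 : x * x = 1 := mul_eq_one_iff_eq_inv.mpr hinv
  rw [odd_pow_two hn h2] at hxn
  exact hxn

/-- The case `3 ∣ y`. -/
theorem false_three {a : L} (ha : a ∈ H.Y) (h1 : a ≠ 1) (hσ : Commute R.σ (H.E a)) (h3 : 3 ∣ H.y) : False := by
  classical
  haveI : Fact (Nat.Prime 2) := ⟨Nat.prime_two⟩
  obtain ⟨k, hk⟩ := H.F.conj_Y R.s (by rw [R.s_ord]; exact h3)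
  set c := k * R.s * k⁻¹ with hc
  have hco : orderOf c = 3 := by rw [hc, order_conj, R.s_ord]
  have hc1 : c ≠ 1 := fun e => by rw [e, orderOf_one] at hco; omega
  set g := R.m * (H.E k)⁻¹ with hg
  have hgc : g * H.E c * g⁻¹ = R.σ := by
    rw [← R.m_s, hg, hc, map_mul, map_mul, map_inv]; group
  set h := g⁻¹ with hh
  have hgh : ∀ x, g * (h * x * h⁻¹) * g⁻¹ = x := fun x => by rw [hh]; group
  have hinvol : h * R.w * h⁻¹ * (h * R.w * h⁻¹) = 1 := by
    rw [show h * R.w * h⁻¹ * (h * R.w * h⁻¹) = h * (R.w * R.w) * h⁻¹ by group, R.ww, mul_one, mul_inv_cancel]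
  have hwc : Commute (h * R.w * h⁻¹) (H.E c) := by
    have := commute_conj R.w_σ h
    rwa [← hgc, show h * (g * H.E c * g⁻¹) * h⁻¹ = H.E c by rw [hh]; group] at this
  have hstep : ∀ e ∈ H.Y, Commute R.σ (H.E e) → Commute (h * H.E e * h⁻¹) (H.E c) ∧
      (h * R.w * h⁻¹) * (h * H.E e * h⁻¹) * (h * R.w * h⁻¹)⁻¹ = (h * H.E e * h⁻¹)⁻¹ := by
    intro e he hσe
    constructor
    · have := commute_conj hσe.symm h
      rwa [← hgc, show h * (g * H.E c * g⁻¹) * h⁻¹ = H.E c by rw [hh]; group] at this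
    · rw [show h * R.w * h⁻¹ * (h * H.E e * h⁻¹) * (h * R.w * h⁻¹)⁻¹ = h * (R.w * H.E e * R.w⁻¹) * h⁻¹ by group,
        R.w_Y e he, map_inv, conj_inv]
  obtain ⟨hac, hainv⟩ := hstep a ha hσ
  have hane : h * H.E a * h⁻¹ ≠ 1 := fun e =>
    h1 (iota_inj H.e (by rw [map_one]; exact conj_eq_one_iff.mp e))
  have hyY : ∀ e ∈ H.Y, (h * H.E e * h⁻¹) ^ H.y = 1 := fun e he => by
    rw [conj_pow, ← map_pow, H.Y_pow he, map_one, mul_one, mul_inv_cancel]
  -- the rotation fixes `c`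
  have hσc : Commute R.σ (H.E c) := by
    by_contra hnot
    have hA : H.InA (h * H.E a * h⁻¹) := R.cent_not hk hc1 hnot hac
    rw [H.inA_conj_inA hA (R.cent_not hk hc1 hnot hwc)] at hainv
    have h2 := mul_eq_one_iff_eq_inv.mpr hainv
    have := hyY a ha
    rw [odd_pow_two H.hy h2] at this
    exact hane this
  rcases R.alt hk hc1 hσc with hS | ⟨φ, hφ, hφc, hφY, hdec⟩
  · exact hane (R.no_inverted hS hinvol hwc hac H.hy (hyY a ha) hainv)
  have hrange : ∀ e ∈ H.Y, Commute R.σ (H.E e) → ∃ r, h * H.E e * h⁻¹ = φ r := by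
    intro e he hσe
    obtain ⟨hec, heinv⟩ := hstep e he hσe
    obtain ⟨r, b, hb, hrb⟩ := hdec _ hec
    obtain ⟨p, b', hb', hpb⟩ := hdec _ hwc
    have hb'1 : b' = 1 := R.invol_range hφ hφY hb' (by rw [← hpb]; exact hinvol)
    rw [hb'1, map_one, mul_one] at hpb
    rw [hpb, hrb, mul_inv_rev, ← map_inv, ← map_inv, ← map_inv,
      show φ p * (φ r * H.E b) * φ p⁻¹ = φ p * φ r * (H.E b * φ p⁻¹) by group, (hφY p⁻¹ b hb).symm.eq,
      ← mul_assoc, ← map_mul, ← map_mul, (hφY r⁻¹ b⁻¹ (inv_mem hb)).symm.eq] at heinv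
    obtain ⟨-, hbb⟩ := R.unique hφ hφY hb (inv_mem hb) heinv
    rw [H.Y_sq hb (mul_eq_one_iff_eq_inv.mpr hbb), map_one, mul_one] at hrb
    exact ⟨r, hrb⟩
  obtain ⟨r1, hr1⟩ := hrange a ha hσ
  -- `Y` is generated by `c`
  have hYc : ∀ b ∈ H.Y, ∃ i : ℕ, b = c ^ i := by
    intro b hb
    have hdσ : Commute (g * H.E b * g⁻¹) R.σ := hgc ▸ commute_conj (H.inA_comm (H.inA_E hb) (H.inA_E hk)) g
    have hda : Commute (g * H.E b * g⁻¹) (H.E a) := by
      have h' : Commute (H.E b) (h * H.E a * h⁻¹) := by rw [hr1]; exact (hφY r1 b hb).symm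
      have := commute_conj h' g
      rwa [hgh] at this
    obtain ⟨i, e, he, hσe, hde⟩ := R.cent_σ ha hσ (R.alt ha h1 hσ) hda hdσ
    obtain ⟨r, hr⟩ := hrange e he hσe
    have hb' : H.E b = H.E (c ^ i) * φ r := by
      rw [← hr, map_pow]
      calc H.E b = h * (g * H.E b * g⁻¹) * h⁻¹ := by rw [hh]; group
        _ = h * (R.σ ^ i * H.E e) * h⁻¹ := by rw [hde]
        _ = (h * R.σ * h⁻¹) ^ i * (h * H.E e * h⁻¹) := by rw [conj_pow]; group
        _ = _ := by rw [← hgc, show h * (g * H.E c * g⁻¹) * h⁻¹ = H.E c by rw [hh]; group]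
    have hφr : φ r = H.E ((c ^ i)⁻¹ * b) := by rw [map_mul, map_inv, hb', inv_mul_cancel_left]
    obtain ⟨-, h'⟩ := R.range_inter hφ hφY (mul_mem (inv_mem (pow_mem hk i)) hb) hφr
    exact ⟨i, (inv_mul_eq_one.mp h').symm⟩
  -- the two lines
  obtain ⟨r0, hr0, hr03, hr0ne⟩ := R.σ_mem hk hσc hφ hφc hφY hdec
  obtain ⟨rc, hrc⟩ := hrange c hk hσc
  have hc3 : H.E c ^ 3 = 1 := by rw [← map_pow, ← hco, pow_orderOf_eq_one, map_one]
  have hEc1 : H.E c ≠ 1 := fun e => hc1 (iota_inj H.e (e.trans (map_one _).symm))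
  obtain ⟨p, hp⟩ := a5_three_conj (r := rc) (r' := r0) (hφ (by
      rw [map_mul, map_mul, map_one, ← hrc, show h * H.E c * h⁻¹ * (h * H.E c * h⁻¹) * (h * H.E c * h⁻¹) =
        h * (H.E c * H.E c * H.E c) * h⁻¹ by group, show H.E c * H.E c * H.E c = H.E c ^ 3 by
        rw [pow_succ, pow_two], hc3, mul_one, mul_inv_cancel]))
    (fun e => hEc1 (conj_eq_one_iff.mp (by rw [hrc, e, map_one]))) hr03 hr0ne
  set n := φ p * h with hn
  have hnσ : n * R.σ * n⁻¹ = H.E c := by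
    rw [hn, ← hgc, show φ p * h * (g * H.E c * g⁻¹) * (φ p * h)⁻¹ = φ p * H.E c * (φ p)⁻¹ by rw [hh]; group,
      (hφc p).eq, mul_inv_cancel_right]
  have hnc : n * H.E c * n⁻¹ = R.σ := by
    rw [hn, show φ p * h * H.E c * (φ p * h)⁻¹ = φ p * (h * H.E c * h⁻¹) * (φ p)⁻¹ by group, hrc, ← map_inv,
      ← map_mul, ← map_mul, hp, hr0]
  have hne : R.σ ≠ H.E c := fun e => R.σ_not_t (e ▸ (H.E_comm c).symm)
  have hne' : R.σ ≠ (H.E c)⁻¹ := fun e => R.σ_not_t (e ▸ (H.E_comm c).symm.inv_left)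
  -- the stabiliser of the four elements
  set X : Set G := {R.σ, R.σ⁻¹, H.E c, (H.E c)⁻¹} with hX
  set N := Subgroup.normalizer X with hN
  have hmemN : ∀ x : G, x * R.σ * x⁻¹ ∈ X → x * H.E c * x⁻¹ ∈ X → x ∈ N := by
    intro x hx1 hx2
    have hsymm : ∀ z ∈ X, z⁻¹ ∈ X := by
      intro z hz
      simp only [hX, Set.mem_insert_iff, Set.mem_singleton_iff] at hz ⊢
      rcases hz with rfl | rfl | rfl | rfl <;> simp
    have hmaps : ∀ z ∈ X, x * z * x⁻¹ ∈ X := by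
      intro z hz
      simp only [hX, Set.mem_insert_iff, Set.mem_singleton_iff] at hz
      rcases hz with rfl | rfl | rfl | rfl
      · exact hx1
      · rw [← conj_inv]; exact hsymm _ hx1
      · exact hx2
      · rw [← conj_inv]; exact hsymm _ hx2
    have hpow : ∀ (j : ℕ) (z : G), z ∈ X → x ^ j * z * (x ^ j)⁻¹ ∈ X := by
      intro j
      induction j with
      | zero => intro z hz; simpa using hz
      | succ i ih =>
        intro z hz
        rw [show x ^ (i + 1) * z * (x ^ (i + 1))⁻¹ = x * (x ^ i * z * (x ^ i)⁻¹) * x⁻¹ by rw [pow_succ']; group]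
        exact hmaps _ (ih z hz)
    refine Subgroup.mem_set_normalizer_iff.mpr fun z => ⟨hmaps z, fun hz => ?_⟩
    have h' := hpow (orderOf x - 1) _ hz
    have hxi : x ^ (orderOf x - 1) = x⁻¹ := (inv_eq_of_mul_eq_one_right (by
      rw [← pow_succ', Nat.sub_add_cancel (orderOf_pos x)]; exact pow_orderOf_eq_one x)).symm
    rw [hxi] at h'
    simpa [mul_assoc] using h'
  have hXof : ∀ {x : G}, x ∈ N → ∀ z ∈ X, x * z * x⁻¹ ∈ X := fun hx z hz =>
    (Subgroup.mem_set_normalizer_iff.mp hx z).mp hz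
  have hwN : R.w ∈ N := hmemN _
    (by rw [R.w_σ.eq, mul_inv_cancel_right]; simp [hX]) (by rw [R.w_Y c hk, map_inv]; simp [hX])
  have hnN : n ∈ N := hmemN _ (by rw [hnσ]; simp [hX]) (by rw [hnc]; simp [hX])
  set K := (Subgroup.centralizer ({R.σ} : Set G) ⊓ Subgroup.centralizer ({H.E c} : Set G)).subgroupOf N with hK
  have hKmem : ∀ {x : N}, x ∈ K ↔ Commute (x : G) R.σ ∧ Commute (x : G) (H.E c) := fun {x} => by
    rw [hK, Subgroup.mem_subgroupOf, Subgroup.mem_inf, Subgroup.mem_centralizer_singleton_iff,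
      Subgroup.mem_centralizer_singleton_iff]
    exact Iff.rfl
  haveI hKn : K.Normal := ⟨fun x hx y => by
    obtain ⟨hx1, hx2⟩ := hKmem.mp hx
    have hall : ∀ z ∈ X, Commute (x : G) z := by
      intro z hz
      simp only [hX, Set.mem_insert_iff, Set.mem_singleton_iff] at hz
      rcases hz with rfl | rfl | rfl | rfl
      exacts [hx1, hx1.inv_right, hx2, hx2.inv_right]
    have hy : ∀ z ∈ X, Commute (((y * x * y⁻¹ : N)) : G) z := by
      intro z hz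
      have h' := commute_conj (hall _ (hXof (inv_mem y.2) z hz)) (y : G)
      rw [show (y : G) * ((y : G)⁻¹ * z * ((y : G)⁻¹)⁻¹) * (y : G)⁻¹ = z by group] at h'
      simpa using h'
    exact hKmem.mpr ⟨hy _ (by simp [hX]), hy _ (by simp [hX])⟩⟩
  have hfour : ∀ x : N, x ^ 4 ∈ K := by
    intro x
    refine hKmem.mpr ?_
    rw [Subgroup.coe_pow]
    have m1 := hXof x.2 R.σ (by simp [hX])
    have m2 := hXof x.2 (H.E c) (by simp [hX])
    simp only [hX, Set.mem_insert_iff, Set.mem_singleton_iff] at m1 m2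
    constructor
    · exact mul_inv_eq_iff_eq_mul.mp (four_act (z₂ := H.E c) (by simpa using m1) (by simpa using m2) hne hne')
    · refine mul_inv_eq_iff_eq_mul.mp (four_act (z₂ := R.σ) ?_ ?_ hne.symm fun e => hne' (by rw [e, inv_inv]))
      · simp only [Set.mem_insert_iff, Set.mem_singleton_iff]; tauto
      · simp only [Set.mem_insert_iff, Set.mem_singleton_iff]; tauto
  have hQ : IsPGroup 2 (N ⧸ K) := by
    intro q
    obtain ⟨x, rfl⟩ := QuotientGroup.mk'_surjective K q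
    exact ⟨2, by rw [← map_pow]; exact (QuotientGroup.eq_one_iff _).mpr (hfour x)⟩
  obtain ⟨S⟩ : Nonempty (Sylow 2 N) := inferInstance
  let Sb : Sylow 2 (N ⧸ K) := S.mapSurjective (QuotientGroup.mk'_surjective K)
  have hSb : (Sb : Subgroup (N ⧸ K)) = ⊤ :=
    (Sb.3 (fun q : (⊤ : Subgroup (N ⧸ K)) => (hQ (q : N ⧸ K)).imp fun i hi => Subtype.ext (by simpa using hi))
      le_top).symm
  have hlift : ∀ x : N, ∃ s ∈ (S : Subgroup N), QuotientGroup.mk' K s = QuotientGroup.mk' K x := by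
    intro x
    obtain ⟨s, hs, e⟩ : QuotientGroup.mk' K x ∈ (S : Subgroup N).map (QuotientGroup.mk' K) := by
      rw [show (S : Subgroup N).map (QuotientGroup.mk' K) = (Sb : Subgroup (N ⧸ K)) from rfl, hSb]
      exact Subgroup.mem_top _
    exact ⟨s, hs, e⟩
  obtain ⟨P, hP⟩ := (S.2.map N.subtype).exists_le_sylow
  obtain ⟨s1, hs1, e1⟩ := hlift ⟨R.w, hwN⟩
  obtain ⟨s2, hs2, e2⟩ := hlift ⟨n, hnN⟩
  have hcomm : s1 * s2 = s2 * s1 := Subtype.ext
    (show (s1 : G) * (s2 : G) = (s2 : G) * (s1 : G) from congrArg Subtype.val (H.hab P ⟨s1, hP ⟨s1, hs1, rfl⟩⟩ ⟨s2, hP ⟨s2, hs2, rfl⟩⟩))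
  have hq : QuotientGroup.mk' K (⟨R.w, hwN⟩ * ⟨n, hnN⟩) = QuotientGroup.mk' K (⟨n, hnN⟩ * ⟨R.w, hwN⟩) := by
    rw [map_mul, map_mul, ← e1, ← e2, ← map_mul, ← map_mul, hcomm]
  obtain ⟨z, hz, hzz⟩ := (QuotientGroup.mk'_eq_mk' K).mp hq
  have hz' : R.w * n * (z : G) = n * R.w := congrArg Subtype.val hzz
  have hσz : (z : G) * R.σ * (z : G)⁻¹ = R.σ := mul_inv_eq_iff_eq_mul.mpr (hKmem.mp hz).1.eq
  have hbad : (H.E c)⁻¹ = H.E c := by
    calc (H.E c)⁻¹ = R.w * n * (z : G) * R.σ * (R.w * n * (z : G))⁻¹ := by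
          rw [show R.w * n * (z : G) * R.σ * (R.w * n * (z : G))⁻¹ =
            R.w * (n * ((z : G) * R.σ * (z : G)⁻¹) * n⁻¹) * R.w⁻¹ by group, hσz, hnσ, R.w_Y c hk, map_inv]
      _ = H.E c := by
          rw [hz', show n * R.w * R.σ * (n * R.w)⁻¹ = n * (R.w * R.σ * R.w⁻¹) * n⁻¹ by group, R.w_σ.eq,
            mul_inv_cancel_right, hnσ]
  exact hc1 (H.Y_sq hk (iota_inj H.e (by rw [map_mul, map_one]; exact mul_eq_one_iff_eq_inv.mpr hbad.symm)))

end Rot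

end Hyp

end CfsgLib.JankoThompson
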