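import Cfsg.Agent.Lib.JankoThompson.PSLChar
import Cfsg.Agent.Lib.AbelianSylowInvolutions
import Cfsg.Agent.Lib.DicksonFull.Tori

/-!
The facts about `PSL₂(q)`, `q ≡ 3, 5 (mod 8)`, used in the local analysis of `blueprint/S0343.md`.
-/

set_option autoImplicit false
set_option linter.unusedSectionVars false
set_option linter.style.haveILetI false

namespace CfsgLib.JankoThompson

universe v

/-- An element of order two. -/
theorem two_sq {M : Type*} [Group M] {x : M} (hx : orderOf x = 2) : x * x = 1 := by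
  rw [← pow_two, ← hx]
  exact pow_orderOf_eq_one x

theorem two_ne_one {M : Type*} [Group M] {x : M} (hx : orderOf x = 2) : x ≠ 1 := fun e => by
  rw [e, orderOf_one] at hx; omega

theorem order_two {M : Type*} [Group M] {x : M} (h1 : x ≠ 1) (h : x * x = 1) : orderOf x = 2 :=
  orderOf_eq_prime (by rw [pow_two]; exact h) h1

theorem two_inv {M : Type*} [Group M] {x : M} (hx : x * x = 1) : x⁻¹ = x :=
  inv_eq_of_mul_eq_one_right hx

theorem order_conj {M : Type*} [Group M] (g x : M) : orderOf (g * x * g⁻¹) = orderOf x :=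
  (MulAut.conj g).orderOf_eq x

theorem commute_conj {M : Type*} [Group M] {a b : M} (h : Commute a b) (g : M) :
    Commute (g * a * g⁻¹) (g * b * g⁻¹) := h.map (MulAut.conj g).toMonoidHom

/-- The four-group of two commuting involutions. -/
def four {M : Type*} [Group M] {a b : M} (ha : a * a = 1) (hb : b * b = 1) (hab : Commute a b) : Subgroup M where
  carrier := {g | ∃ i j : Fin 2, g = a ^ (i : ℕ) * b ^ (j : ℕ)}
  one_mem' := ⟨0, 0, by simp⟩
  mul_mem' := by
    rintro _ _ ⟨i, j, rfl⟩ ⟨k, l, rfl⟩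
    refine ⟨i + k, j + l, ?_⟩
    have key : ∀ {c : M}, c * c = 1 → ∀ i k : Fin 2, c ^ (i : ℕ) * c ^ (k : ℕ) = c ^ ((i + k : Fin 2) : ℕ) := by
      intro c hc i k
      fin_cases i <;> fin_cases k <;> simp [hc]
    rw [mul_assoc, ← mul_assoc (b ^ (j : ℕ)), ((hab.pow_pow (k : ℕ) (j : ℕ)).symm).eq, mul_assoc (a ^ (k : ℕ)),
      ← mul_assoc (a ^ (i : ℕ)), key ha, key hb]
  inv_mem' := by
    rintro _ ⟨i, j, rfl⟩
    refine ⟨i, j, ?_⟩
    rw [mul_inv_rev, ← inv_pow, ← inv_pow, two_inv ha, two_inv hb, (hab.pow_pow _ _).eq]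

theorem card_four {M : Type*} [Group M] {a b : M} (ha : a * a = 1) (hb : b * b = 1) (hab : Commute a b) (a1 : a ≠ 1)
    (b1 : b ≠ 1) (hne : a ≠ b) : Nat.card (four ha hb hab) = 4 := by
  let f : Fin 2 × Fin 2 → four ha hb hab := fun p => ⟨a ^ (p.1 : ℕ) * b ^ (p.2 : ℕ), p.1, p.2, rfl⟩
  have hab1 : a * b ≠ 1 := fun e => hne (by rw [mul_eq_one_iff_eq_inv.mp e, two_inv hb])
  have hf : Function.Bijective f := by
    refine ⟨fun p r h => ?_, fun ⟨g, i, j, e⟩ => ⟨(i, j), Subtype.ext e.symm⟩⟩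
    have h' : a ^ (p.1 : ℕ) * b ^ (p.2 : ℕ) = a ^ (r.1 : ℕ) * b ^ (r.2 : ℕ) := congrArg Subtype.val h
    obtain ⟨i, j⟩ := p
    obtain ⟨k, l⟩ := r
    fin_cases i <;> fin_cases j <;> fin_cases k <;> fin_cases l <;>
      simp [a1, b1, hne, hne.symm, hab1, hab1.symm, a1.symm, b1.symm] at h' ⊢
  rw [← Nat.card_congr (Equiv.ofBijective f hf), Nat.card_prod, Nat.card_fin]

/-- The facts about the group. -/
structure LFacts (L : Type v) [Group L] (q y z : ℕ) (Y : Subgroup L) where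
  v : L
  j : L
  x : L
  hv : orderOf v = 2
  hj : orderOf j = 2
  vj : Commute v j
  j_ne : j ≠ v
  x3 : x ^ 3 = 1
  x_v : x * v * x⁻¹ = j
  x_j : x * j * x⁻¹ = v * j
  v_Y : ∀ a ∈ Y, Commute v a
  j_Y : ∀ a ∈ Y, j * a * j⁻¹ = a⁻¹
  cent_Y : ∀ a ∈ Y, a ≠ 1 → ∀ g, Commute g a → ∃ i : Fin 2, ∃ b ∈ Y, g = v ^ (i : ℕ) * b
  cent_v : ∀ g, Commute g v → ∃ e i : Fin 2, ∃ b ∈ Y, g = j ^ (e : ℕ) * (v ^ (i : ℕ) * b)
  conj : ∀ u : L, orderOf u = 2 → ∃ g, g * v * g⁻¹ = u
  conj_Y : ∀ g : L, orderOf g ∣ y → ∃ h, h * g * h⁻¹ ∈ Y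
  three : ∀ s : L, orderOf s = 3 → 3 ∣ y ∨ ∃ N : ℕ, 3 ∣ N ∧ Odd N ∧ (N = q ∨ N = z) ∧ N.Coprime y ∧
    Nat.card ↥(Subgroup.centralizer ({s} : Set L)) = N ∧ ∀ g h : L, Commute g s → Commute h s → Commute g h
  card8 : ¬ 8 ∣ Nat.card L

section Build

variable {L : Type v} [Group L] [Finite L]

/-- An element of order three permuting the involutions of a four-group. -/
theorem exists_rot {v j : L} (hv : orderOf v = 2) (hj : orderOf j = 2) (hvj : Commute v j) (hne : j ≠ v)
    (h8 : ¬ 8 ∣ Nat.card L) (h2 : ∀ H : Subgroup L, H.index ≠ 2)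
    (hcent : ∀ g, Commute g v → Commute g j → ∃ i k : Fin 2, g = v ^ (i : ℕ) * j ^ (k : ℕ)) :
    ∃ x : L, x ^ 3 = 1 ∧ x * v * x⁻¹ = j ∧ x * j * x⁻¹ = v * j := by
  classical
  haveI : Fact (Nat.Prime 2) := ⟨Nat.prime_two⟩
  have hvv := two_sq hv
  have hjj := two_sq hj
  have v1 := two_ne_one hv
  have j1 := two_ne_one hj
  set K := four hvv hjj hvj with hK
  have hK4 : Nat.card K = 4 := card_four hvv hjj hvj v1 j1 (Ne.symm hne)
  have hKp : IsPGroup 2 K := IsPGroup.of_card (n := 2) hK4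
  obtain ⟨S, hS⟩ := hKp.exists_le_sylow
  have hSK : (S : Subgroup L) = K := by
    refine (Subgroup.eq_of_le_of_card_ge hS ?_).symm
    obtain ⟨k, hk⟩ := IsPGroup.iff_card.mp S.2
    rw [hK4, hk]
    rcases le_or_gt k 2 with h | h
    · exact Nat.pow_le_pow_right (by norm_num) h
    · exact absurd ((pow_dvd_pow 2 h).trans (hk ▸ (S : Subgroup L).card_subgroup_dvd_card)) h8
  have hSmem : ∀ g, g ∈ (S : Subgroup L) ↔ ∃ i k : Fin 2, g = v ^ (i : ℕ) * j ^ (k : ℕ) := fun g => by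
    rw [hSK]; rfl
  haveI : IsMulCommutative (S : Subgroup L) := ⟨⟨fun a b => Subtype.ext (by
    obtain ⟨i, k, e⟩ := (hSmem _).mp a.2
    obtain ⟨i', k', e'⟩ := (hSmem _).mp b.2
    show (a : L) * b = b * a
    rw [e, e']
    exact ((((Commute.refl v).pow_pow _ _).mul_right (hvj.pow_pow _ _)).mul_left
      ((hvj.symm.pow_pow _ _).mul_right ((Commute.refl j).pow_pow _ _))).eq)⟩⟩
  have hvS : v ∈ (S : Subgroup L) := (hSmem v).mpr ⟨1, 0, by simp⟩
  have hjS : j ∈ (S : Subgroup L) := (hSmem j).mpr ⟨0, 1, by simp⟩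
  obtain ⟨n, hn, hnv⟩ : ∃ n ∈ Subgroup.normalizer ((S : Subgroup L) : Set L), n * v * n⁻¹ ≠ v := by
    by_contra hcon
    push Not at hcon
    obtain ⟨H, hH⟩ := AbelianInvolutions.exists_index_two_of_fixed S hvS v1 fun n hn =>
      mul_inv_eq_iff_eq_mul.mp (hcon n hn)
    exact h2 H hH
  have hnS : ∀ {s : L}, s ∈ (S : Subgroup L) → n * s * n⁻¹ ∈ (S : Subgroup L) := fun hs =>
    (Subgroup.mem_normalizer_iff.mp hn _).mp hs
  have hcases : ∀ {s : L}, s ∈ (S : Subgroup L) → s ≠ 1 → s = v ∨ s = j ∨ s = v * j := by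
    intro s hs h1
    obtain ⟨i, k, e⟩ := (hSmem s).mp hs
    fin_cases i <;> fin_cases k <;> simp_all
  set a := n * v * n⁻¹ with ha
  have haS : a ∈ (S : Subgroup L) := hnS hvS
  have ha1 : a ≠ 1 := fun e => v1 (conj_eq_one_iff.mp e)
  have hSC : ∀ g, Commute g v → Commute g a → g ∈ (S : Subgroup L) := by
    intro g hgv hga
    refine (hSmem g).mpr (hcent g hgv ?_)
    rcases hcases haS ha1 with e | e | e
    · exact absurd e hnv
    · exact e ▸ hga
    · have h := hgv.mul_right (e ▸ hga)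
      rwa [← mul_assoc, hvv, one_mul] at h
  set b := n * a * n⁻¹ with hb
  have hbS : b ∈ (S : Subgroup L) := hnS haS
  have hb1 : b ≠ 1 := fun e => ha1 (conj_eq_one_iff.mp e)
  have hba : b ≠ a := fun e => hnv (mul_left_cancel (mul_right_cancel e))
  have hbv : b ≠ v := by
    intro e
    have h2a : n * n * v * (n * n)⁻¹ = v := by
      calc n * n * v * (n * n)⁻¹ = n * (n * v * n⁻¹) * n⁻¹ := by group
        _ = v := by rw [← ha, ← hb, e]
    have h2b : n * n * a * (n * n)⁻¹ = a := by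
      calc n * n * a * (n * n)⁻¹ = n * (n * a * n⁻¹) * n⁻¹ := by group
        _ = a := by rw [← hb, e]
    have hn2 := hSC (n * n) (mul_inv_eq_iff_eq_mul.mp h2a) (mul_inv_eq_iff_eq_mul.mp h2b)
    have h4 : n ^ 4 = 1 := by
      have : (n * n) * (n * n) = 1 := by
        obtain ⟨i, k, e'⟩ := (hSmem _).mp hn2
        rw [e']
        fin_cases i <;> fin_cases k <;> simp [hvv, hjj]
        rw [show v * j * (v * j) = v * (j * v) * j by group, ← hvj.eq, ← mul_assoc, hvv, one_mul, hjj]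
      rw [← this]; simp only [pow_succ, pow_zero, one_mul, mul_assoc]
    obtain ⟨k, -, hk⟩ := (Nat.dvd_prime_pow Nat.prime_two (m := 2)).mp
      (by simpa using orderOf_dvd_of_pow_eq_one h4)
    have hz : IsPGroup 2 (Subgroup.zpowers n) := IsPGroup.of_card (n := k) (by rw [Nat.card_zpowers, hk])
    have hsup := hz.to_sup_of_normal_right' S.2 (Subgroup.zpowers_le.2 hn)
    have hnin : n ∈ (S : Subgroup L) := (S.3 hsup le_sup_right).le (Subgroup.mem_sup_left (Subgroup.mem_zpowers n))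
    exact hnv (by rw [ha, Subgroup.mul_comm_of_mem_isMulCommutative (S : Subgroup L) hnin hvS, mul_inv_cancel_right])
  have hba' : b = v * a := by
    have hav : a ≠ v := hnv
    rcases hcases haS ha1 with e | e | e <;> rcases hcases hbS hb1 with e' | e' | e' <;>
      first
        | exact absurd e hav
        | exact absurd e' hbv
        | exact absurd (e'.trans e.symm) hba
        | (rw [e', e, ← mul_assoc, hvv, one_mul])
        | (rw [e', e])
  -- the third power fixes everything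
  have h3v : n ^ 3 * v * (n ^ 3)⁻¹ = v := by
    have hnb : n * b * n⁻¹ = v := by
      rw [hba', show n * (v * a) * n⁻¹ = (n * v * n⁻¹) * (n * a * n⁻¹) by group, ← ha, ← hb, hba', ← mul_assoc,
        show a * v = v * a from Subgroup.mul_comm_of_mem_isMulCommutative (S : Subgroup L) haS hvS, mul_assoc,
        show a * a = 1 by rw [ha, show n * v * n⁻¹ * (n * v * n⁻¹) = n * (v * v) * n⁻¹ by group, hvv, mul_one,
          mul_inv_cancel], mul_one]
    calc n ^ 3 * v * (n ^ 3)⁻¹ = n * (n * (n * v * n⁻¹) * n⁻¹) * n⁻¹ := by simp only [pow_succ, pow_zero, one_mul]; group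
      _ = v := by rw [← ha, ← hb, hnb]
  have h3a : n ^ 3 * a * (n ^ 3)⁻¹ = a := by
    calc n ^ 3 * a * (n ^ 3)⁻¹ = n * (n ^ 3 * v * (n ^ 3)⁻¹) * n⁻¹ := by rw [ha]; simp only [pow_succ, pow_zero, one_mul]; group
      _ = a := by rw [h3v]
  have hc3 := hSC (n ^ 3) (mul_inv_eq_iff_eq_mul.mp h3v) (mul_inv_eq_iff_eq_mul.mp h3a)
  have h12 : (n ^ 4) ^ 3 = 1 := by
    have hsq : (n ^ 3) * (n ^ 3) = 1 := by
      obtain ⟨i, k, e'⟩ := (hSmem _).mp hc3
      rw [e']
      fin_cases i <;> fin_cases k <;> simp [hvv, hjj]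
      rw [show v * j * (v * j) = v * (j * v) * j by group, ← hvj.eq, ← mul_assoc, hvv, one_mul, hjj]
    calc (n ^ 4) ^ 3 = (n ^ 3 * n ^ 3) * (n ^ 3 * n ^ 3) := by simp only [pow_succ, pow_zero, one_mul, mul_assoc]
      _ = 1 := by rw [hsq, one_mul]
  have hact : ∀ {s : L}, s ∈ (S : Subgroup L) → n ^ 4 * s * (n ^ 4)⁻¹ = n * s * n⁻¹ := fun {s} hs => by
    have h : Commute (n ^ 3) s := Subgroup.mul_comm_of_mem_isMulCommutative (S : Subgroup L) hc3 hs
    calc n ^ 4 * s * (n ^ 4)⁻¹ = n * (n ^ 3 * s * (n ^ 3)⁻¹) * n⁻¹ := by rw [pow_succ' n 3]; group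
      _ = n * s * n⁻¹ := by rw [h.eq, mul_inv_cancel_right]
  set x := n ^ 4 with hx
  have xv : x * v * x⁻¹ = a := (hact hvS).trans ha.symm
  have xa : x * a * x⁻¹ = v * a := ((hact haS).trans hb.symm).trans hba'
  rcases hcases haS ha1 with e | e | e
  · exact absurd e hnv
  · exact ⟨x, h12, xv.trans e, by rw [← e]; exact xa⟩
  · have xj : x * j * x⁻¹ = v := by
      have hj' : j = v * a := by rw [e, ← mul_assoc, hvv, one_mul]
      rw [hj', show x * (v * a) * x⁻¹ = (x * v * x⁻¹) * (x * a * x⁻¹) by group, xv, xa, ← mul_assoc,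
        show a * v = v * a from Subgroup.mul_comm_of_mem_isMulCommutative (S : Subgroup L) haS hvS, mul_assoc,
        show a * a = 1 by rw [ha, show n * v * n⁻¹ * (n * v * n⁻¹) = n * (v * v) * n⁻¹ by group, hvv, mul_one,
          mul_inv_cancel], mul_one]
    refine ⟨x⁻¹, by rw [inv_pow, h12, inv_one], ?_, ?_⟩
    · rw [inv_inv]
      nth_rewrite 1 [← xj]
      group
    · rw [inv_inv]
      have xvj : x * (v * j) * x⁻¹ = j := by
        rw [show x * (v * j) * x⁻¹ = (x * v * x⁻¹) * (x * j * x⁻¹) by group, xv, xj, e,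
          show v * j * v = v * (j * v) by group, ← hvj.eq, ← mul_assoc, hvv, one_mul]
      nth_rewrite 1 [← xvj]
      group

end Build

namespace Tbl

open Matrix CfsgLib.SL2Char

variable {F : Type*} [Field F] [Fintype F] [DecidableEq F] (T : Tbl F)

local notation "SL2" => Matrix.SpecialLinearGroup (Fin 2) F
local notation "PSL" => Matrix.ProjectiveSpecialLinearGroup (Fin 2) F
local notation "π" => (PSL2.mk : Matrix.SpecialLinearGroup (Fin 2) F →* Matrix.ProjectiveSpecialLinearGroup (Fin 2) F)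

include T in
/-- The centraliser of a unipotent element. -/
theorem cent_unip {e : Fˣ} (he : e ^ 2 = 1) {x : F} (hx : x ≠ 0) :
    Nat.card ↥(Subgroup.centralizer ({π (bor e x)} : Set PSL)) = Fintype.card F ∧
      ∀ g h : PSL, Commute g (π (bor e x)) → Commute h (π (bor e x)) → Commute g h := by
  classical
  have h2 := T.two_ne
  set x' : F := ((e⁻¹ : Fˣ) : F) * x with hx'
  have hx0 : x' ≠ 0 := mul_ne_zero (Units.ne_zero _) hx
  have hb : π (bor e x) = π (bor 1 x') := by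
    refine (mk_eq_iff'.mpr ⟨e, he, ?_⟩).symm
    rw [bor_mul, mul_one, hx']; congr 1; simp
  rw [hb]
  have key : ∀ g : PSL, Commute g (π (bor 1 x')) ↔ ∃ s : F, g = π (bor 1 s) := by
    intro g
    constructor
    · intro h
      obtain ⟨d, rfl⟩ := mk_surj g
      have ht : (bor (1 : Fˣ) x').1.trace = 2 := by rw [trace_bor]; simp; norm_num
      have hcm := congrArg Subtype.val (DicksonFull.commute_lift ht h)
      simp only [Matrix.SpecialLinearGroup.coe_mul, bor_coe] at hcm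
      have h00 := congrFun (congrFun hcm 0) 0
      have h01 := congrFun (congrFun hcm 0) 1
      simp [Matrix.mul_apply, Fin.sum_univ_two] at h00 h01
      have hd10 : d.1 1 0 = 0 := h00.resolve_left hx0
      have hdd : d.1 0 0 = d.1 1 1 := mul_right_cancel₀ hx0 (by linear_combination h01)
      have hdet : d.1 0 0 * d.1 1 1 - d.1 0 1 * d.1 1 0 = 1 := by rw [← Matrix.det_fin_two]; exact d.2
      have hsq : d.1 0 0 * d.1 0 0 = 1 := by rw [hd10] at hdet; rw [← hdd] at hdet; linear_combination hdet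
      set a : Fˣ := ⟨d.1 0 0, d.1 0 0, hsq, hsq⟩ with ha
      refine ⟨d.1 0 0 * d.1 0 1, (mk_eq_iff'.mpr ⟨a, Units.ext (by rw [pow_two]; exact hsq), ?_⟩).symm⟩
      refine Subtype.ext ?_
      rw [Matrix.SpecialLinearGroup.coe_mul, bor_coe, bor_coe]
      ext i k
      fin_cases i <;> fin_cases k <;> simp [Matrix.mul_apply, Fin.sum_univ_two, ha, hd10, ← hdd]
      linear_combination (-d.1 0 1) * hsq
    · rintro ⟨s, rfl⟩
      show π (bor 1 s) * π (bor 1 x') = π (bor 1 x') * π (bor 1 s)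
      rw [← map_mul, ← map_mul, bor_mul, bor_mul]
      simp [add_comm]
  have hinj : Function.Injective fun s : F => π (bor 1 s) := fun s r h => by
    obtain ⟨a, ha, hab⟩ := mk_eq_iff'.mp h
    rw [bor_mul, mul_one] at hab
    obtain ⟨h1, h3⟩ := bor_injective hab
    rw [← h1] at h3
    simpa using h3.symm
  refine ⟨?_, fun g h hg hh => ?_⟩
  · rw [← Nat.card_eq_fintype_card]
    refine (Nat.card_eq_of_bijective (fun s : F => (⟨π (bor 1 s), Subgroup.mem_centralizer_singleton_iff.mpr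
      ((key _).mpr ⟨s, rfl⟩).eq⟩ : ↥(Subgroup.centralizer ({π (bor 1 x')} : Set PSL))))
      ⟨fun s r h => hinj (congrArg Subtype.val h), fun g => ?_⟩).symm
    obtain ⟨s, hs⟩ := (key g).mp (Subgroup.mem_centralizer_singleton_iff.mp g.2)
    exact ⟨s, Subtype.ext hs.symm⟩
  · obtain ⟨s, rfl⟩ := (key g).mp hg
    obtain ⟨r, rfl⟩ := (key h).mp hh
    show π (bor 1 s) * π (bor 1 r) = π (bor 1 r) * π (bor 1 s)
    rw [← map_mul, ← map_mul, bor_mul, bor_mul]
    simp [add_comm]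

/-- **The facts**, around any cyclic subgroup of order `y`. -/
theorem exists_lFacts [Finite PSL] (hsimple : IsSimpleGroup PSL) (Y : Subgroup PSL) (hYc : IsCyclic Y)
    (hY : Nat.card Y = T.y) (hy3 : 3 ≤ T.y) : Nonempty (LFacts PSL (Fintype.card F) T.y T.z Y) := by
  classical
  haveI := hsimple
  have h2 := T.two_ne
  obtain ⟨c1, c2, c3, hzo⟩ := T.coprimes
  have hy0 := T.hy.pos
  haveI := T.torA.isCyclic_map
  have hcy : (Fintype.card F).Coprime T.y := c1.coprime_mul_left_right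
  have hzy : T.y.Coprime T.z := c3.coprime_mul_left
  -- elements whose order divides `y`
  have hinA : ∀ g : PSL, g ^ T.y = 1 → g = 1 ∨ ∃ h, h * g * h⁻¹ ∈ T.tT := by
    intro g hg
    rcases T.kinds g with h | ⟨e, x, he, -, h⟩ | ⟨a, ha, -, h⟩ | ⟨b, hb, -, h⟩
    · exact Or.inl h
    · exact Or.inl (eq_one_of_pow_coprime hg (isConj_pow_eq_one h.symm (T.pow_unip he x)) hcy.symm)
    · obtain ⟨k, hk⟩ := isConj_iff.mp h
      exact Or.inr ⟨k, hk ▸ Subgroup.mem_map_of_mem _ ha⟩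
    · exact Or.inl (eq_one_of_pow_coprime hg (isConj_pow_eq_one h.symm (T.pow_B hb)) hzy)
  -- the generator of `Y` and the torus around it
  obtain ⟨⟨γ, hγY⟩, hgen⟩ := IsCyclic.exists_generator (α := Y)
  have hγo : orderOf γ = T.y := by
    rw [← hY, ← Subgroup.orderOf_mk γ hγY, orderOf_eq_card_of_forall_mem_zpowers hgen]
  obtain ⟨h, hh⟩ := (hinA γ (by rw [← hγo]; exact pow_orderOf_eq_one γ)).resolve_left fun e => by
    rw [e, orderOf_one] at hγo; omega
  let c := (MulAut.conj h⁻¹).toMonoidHom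
  set T2 : Subgroup PSL := T.tT.map c with hT2def
  have hcT : ∀ {g}, g ∈ T2 ↔ h * g * h⁻¹ ∈ T.tT := fun {g} => by
    constructor
    · rintro ⟨k, hk, rfl⟩
      show h * (h⁻¹ * k * h⁻¹⁻¹) * h⁻¹ ∈ T.tT
      rwa [show h * (h⁻¹ * k * h⁻¹⁻¹) * h⁻¹ = k by group]
    · intro hg
      exact ⟨_, hg, show h⁻¹ * (h * g * h⁻¹) * h⁻¹⁻¹ = g by group⟩
  have hYT : Y ≤ T2 := fun g hg => by
    obtain ⟨n, hn⟩ := Subgroup.mem_zpowers_iff.mp (hgen ⟨g, hg⟩)
    rw [show g = γ ^ n from (congrArg Subtype.val hn).symm]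
    exact zpow_mem (hcT.mpr hh) n
  haveI : IsCyclic T2 := isCyclic_of_surjective (c.subgroupMap T.tT) (c.subgroupMap_surjective _)
  have hT2c : Nat.card T2 = 2 * T.y := by
    rw [hT2def, Subgroup.card_map_of_injective (f := c) (MulAut.conj h⁻¹).injective, T.card_tT]
  have hcent : ∀ x ∈ T2, x * x ≠ 1 → ∀ g, Commute g x → g ∈ T2 := by
    intro x hx hx2 g hg
    have h2' : h * x * h⁻¹ * (h * x * h⁻¹) ≠ 1 := fun e => hx2 (by
      rw [show h * x * h⁻¹ * (h * x * h⁻¹) = h * (x * x) * h⁻¹ by group] at e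
      exact conj_eq_one_iff.mp e)
    refine hcT.mpr ((T.torA.centralizer_eq h2 (hcT.mp hx) h2').le ?_)
    exact Subgroup.mem_centralizer_singleton_iff.mpr (commute_conj hg h).eq
  -- the involution of the torus
  obtain ⟨v, hvT, hv⟩ : ∃ v ∈ T2, orderOf v = 2 := by
    haveI : Fact (Nat.Prime 2) := ⟨Nat.prime_two⟩
    obtain ⟨v, hv⟩ := exists_prime_orderOf_dvd_card' (G := T2) 2 (by rw [hT2c]; exact dvd_mul_right _ _)
    exact ⟨v, v.2, by rwa [Subgroup.orderOf_coe]⟩
  have hvY : ∀ a ∈ Y, Commute v a := fun a ha => by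
    letI := IsCyclic.commGroup (α := T2)
    exact congrArg Subtype.val (mul_comm (⟨v, hvT⟩ : T2) ⟨a, hYT ha⟩)
  have hYodd : ∀ a ∈ Y, a * a = 1 → a = 1 := fun a ha e => by
    refine eq_one_of_pow_coprime (m := 2) (n := T.y) (by rw [pow_two]; exact e) ?_
      (Nat.coprime_two_left.mpr T.hy)
    rw [← hY]
    exact congrArg Subtype.val (pow_card_eq_one' (G := Y) (x := ⟨a, ha⟩))
  have hsplit : ∀ g ∈ T2, ∃ i : Fin 2, ∃ b ∈ Y, g = v ^ (i : ℕ) * b := by
    have hinj : Function.Injective fun p : Fin 2 × Y =>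
        (⟨v ^ (p.1 : ℕ) * p.2, mul_mem (pow_mem hvT _) (hYT p.2.2)⟩ : T2) := by
      rintro ⟨i, b⟩ ⟨k, d⟩ e
      have e' : v ^ (i : ℕ) * b = v ^ (k : ℕ) * d := congrArg Subtype.val e
      have hnv : ∀ {w : PSL}, w ∈ Y → v ≠ w := fun hw ew =>
        two_ne_one hv (ew ▸ hYodd _ hw (by rw [← ew]; exact two_sq hv))
      fin_cases i <;> fin_cases k <;> simp at e'
      · exact Prod.ext rfl e'
      · exact absurd ((mul_inv_eq_of_eq_mul e').symm) (hnv (mul_mem b.2 (inv_mem d.2)))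
      · exact absurd ((eq_mul_inv_of_mul_eq e')) (hnv (mul_mem d.2 (inv_mem b.2)))
      · exact Prod.ext rfl e'
    intro g hg
    obtain ⟨⟨i, b⟩, e⟩ := ((Nat.bijective_iff_injective_and_card _).mpr ⟨hinj, by
      rw [Nat.card_prod, Nat.card_fin, hY, hT2c]⟩).2 ⟨g, hg⟩
    exact ⟨i, b, b.2, (congrArg Subtype.val e).symm⟩
  have hY2 : ∀ a ∈ Y, a ≠ 1 → a * a ≠ 1 := fun a ha h1 e => h1 (hYodd a ha e)
  have hcentY : ∀ a ∈ Y, a ≠ 1 → ∀ g, Commute g a → ∃ i : Fin 2, ∃ b ∈ Y, g = v ^ (i : ℕ) * b :=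
    fun a ha h1 g hg => hsplit g (hcent a (hYT ha) (hY2 a ha h1) g hg)
  -- the inverting involution
  obtain ⟨w, hw⟩ := T.torA.exists_inv h2 hh
  set j := h⁻¹ * w * h with hjdef
  have hjγ : j * γ * j⁻¹ = γ⁻¹ := by
    rw [hjdef, show h⁻¹ * w * h * γ * (h⁻¹ * w * h)⁻¹ = h⁻¹ * (w * (h * γ * h⁻¹) * w⁻¹) * h by group, hw]
    group
  have hγ2 : h * γ * h⁻¹ * (h * γ * h⁻¹) ≠ 1 := fun e => by
    rw [show h * γ * h⁻¹ * (h * γ * h⁻¹) = h * (γ * γ) * h⁻¹ by group] at e
    rw [hYodd γ hγY (conj_eq_one_iff.mp e), orderOf_one] at hγo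
    omega
  have hjj : j * j = 1 := by
    rw [hjdef, show h⁻¹ * w * h * (h⁻¹ * w * h) = h⁻¹ * (w * w) * h by group,
      T.torA.sq_eq_one_of_inverts h2 hh hγ2 hw]
    group
  have hjY : ∀ a ∈ Y, j * a * j⁻¹ = a⁻¹ := fun a ha => by
    obtain ⟨n, hn⟩ := Subgroup.mem_zpowers_iff.mp (hgen ⟨a, ha⟩)
    rw [show a = γ ^ n from (congrArg Subtype.val hn).symm]
    calc j * γ ^ n * j⁻¹ = (j * γ * j⁻¹) ^ n := (conj_zpow).symm
      _ = (γ ^ n)⁻¹ := by rw [hjγ, _root_.inv_zpow]
  have hj1 : j ≠ 1 := fun e => by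
    have h' := hjY γ hγY
    rw [e, one_mul, inv_one, mul_one] at h'
    refine hγ2 ?_
    rw [show h * γ * h⁻¹ * (h * γ * h⁻¹) = h * (γ * γ) * h⁻¹ by group, mul_eq_one_iff_eq_inv.mpr h', mul_one,
      mul_inv_cancel]
  have hjT : j ∉ T2 := fun hjT => by
    letI := IsCyclic.commGroup (α := T2)
    have h' := hjY γ hγY
    rw [show j * γ = γ * j from congrArg Subtype.val (mul_comm (⟨j, hjT⟩ : T2) ⟨γ, hYT hγY⟩), mul_inv_cancel_right] at h'
    refine hγ2 ?_
    rw [show h * γ * h⁻¹ * (h * γ * h⁻¹) = h * (γ * γ) * h⁻¹ by group, mul_eq_one_iff_eq_inv.mpr h', mul_one,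
      mul_inv_cancel]
  -- `j` fixes the involution
  have huniq : ∀ u ∈ T2, u * u = 1 → u = 1 ∨ u = v := fun u hu huu => by
    obtain ⟨i, b, hb, e⟩ := hsplit u hu
    have hb1 : b = 1 := hYodd b hb (by
      rw [e, (show v ^ (i : ℕ) * b * (v ^ (i : ℕ) * b) = v ^ (i : ℕ) * v ^ (i : ℕ) * (b * b) from
        ((hvY b hb).pow_left _).symm.mul_mul_mul_comm _ _)] at huu
      rwa [← ((Commute.refl v).mul_pow (i : ℕ)), two_sq hv, one_pow, one_mul] at huu)
    rw [hb1, mul_one] at e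
    fin_cases i <;> simp at e
    exacts [Or.inl e, Or.inr e]
  have hvj : Commute v j := by
    have hmem : j * v * j⁻¹ ∈ T2 := by
      refine hcent γ (hYT hγY) (hY2 γ hγY fun e => by rw [e, orderOf_one] at hγo; omega) _ ?_
      have hj' : j⁻¹ * γ * j⁻¹⁻¹ = γ⁻¹ := by rw [two_inv hjj]; exact hjγ
      have hc := commute_conj ((hvY γ hγY).inv_right) j
      rwa [show j * γ⁻¹ * j⁻¹ = γ by rw [← conj_inv, hjγ, inv_inv]] at hc
    rcases huniq _ hmem (by
        rw [show j * v * j⁻¹ * (j * v * j⁻¹) = j * (v * v) * j⁻¹ by group, two_sq hv, mul_one, mul_inv_cancel])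
      with e | e
    · exact absurd (conj_eq_one_iff.mp e) (two_ne_one hv)
    · exact (mul_inv_eq_iff_eq_mul.mp e).symm
  have hjne : j ≠ v := fun e => hjT (e ▸ hvT)
  -- the centraliser of the involution
  have hcv : ∀ g, Commute g v → ∃ e i : Fin 2, ∃ b ∈ Y, g = j ^ (e : ℕ) * (v ^ (i : ℕ) * b) := by
    have hcard : Nat.card (Subgroup.centralizer ({v} : Set PSL)) = 4 * T.y := by
      have h1 := T.torA.card_centralizer_invol h2 T.odd_card (hcT.mp hvT) (by rw [order_conj, hv])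
      rw [T.cardA] at h1
      rw [← h1]
      refine Nat.card_congr ((Equiv.subtypeEquiv (MulAut.conj h).toEquiv fun g => ?_))
      simp only [Subgroup.mem_centralizer_singleton_iff]
      exact ⟨fun e => (commute_conj e h).eq, fun e => by
        have e' := (commute_conj e h⁻¹).eq
        simpa [mul_assoc] using e'⟩
    let f : Fin 2 × T2 → Subgroup.centralizer ({v} : Set PSL) := fun p => ⟨j ^ (p.1 : ℕ) * p.2,
      Subgroup.mem_centralizer_singleton_iff.mpr (by
        have hc : Commute (p.2 : PSL) v := by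
          letI := IsCyclic.commGroup (α := T2)
          exact congrArg Subtype.val (mul_comm p.2 ⟨v, hvT⟩)
        exact ((hvj.symm.pow_left _).mul_left hc).eq)⟩
    have hf : Function.Bijective f := (Nat.bijective_iff_injective_and_card f).mpr ⟨by
      rintro ⟨i, b⟩ ⟨k, d⟩ e
      have e' : j ^ (i : ℕ) * b = j ^ (k : ℕ) * d := congrArg Subtype.val e
      fin_cases i <;> fin_cases k <;> simp at e'
      · exact Prod.ext rfl e'
      · exact absurd (by rw [← mul_inv_eq_of_eq_mul e']; exact mul_mem b.2 (inv_mem d.2)) hjT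
      · exact absurd (by rw [eq_mul_inv_of_mul_eq e']; exact mul_mem d.2 (inv_mem b.2)) hjT
      · exact Prod.ext rfl e', by rw [Nat.card_prod, Nat.card_fin, hT2c, hcard]; ring⟩
    intro g hg
    obtain ⟨⟨e, b⟩, he⟩ := hf.2 ⟨g, Subgroup.mem_centralizer_singleton_iff.mpr hg.eq⟩
    obtain ⟨i, b', hb', eb⟩ := hsplit b b.2
    exact ⟨e, i, b', hb', by rw [← eb]; exact (congrArg Subtype.val he).symm⟩
  have h8 : ¬ 8 ∣ Nat.card PSL := by
    have h4 : Nat.card PSL = 4 * T.y * T.z * Fintype.card F := by exact_mod_cast T.card_psl.1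
    rintro ⟨k, hk⟩
    have ho : Odd (T.y * T.z * Fintype.card F) := (T.hy.mul hzo).mul T.odd_card
    obtain ⟨i, hi⟩ := ho
    have : T.y * T.z * Fintype.card F = 2 * k := by nlinarith [h4, hk]
    omega
  have hno2 : ∀ H : Subgroup PSL, H.index ≠ 2 := by
    intro H hH
    haveI : H.Normal := Subgroup.normal_of_index_eq_two hH
    rcases IsSimpleGroup.eq_bot_or_eq_top_of_normal H inferInstance with rfl | rfl
    · rw [Subgroup.index_bot] at hH
      have : T.y ∣ 2 := ((dvd_of_eq hY.symm).trans (Subgroup.card_subgroup_dvd_card Y)).trans (dvd_of_eq hH)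
      have := Nat.le_of_dvd (by norm_num) this
      omega
    · rw [Subgroup.index_top] at hH; omega
  obtain ⟨x, hx3, hxv, hxj⟩ := exists_rot hv (order_two hj1 hjj) hvj hjne h8 hno2 (fun g hgv hgj => by
    obtain ⟨e, i, b, hb, rfl⟩ := hcv g hgv
    have hjv : Commute j (v ^ (i : ℕ)) := hvj.symm.pow_right _
    have hjb : Commute j b := by
      have h1 := ((Commute.refl j).pow_left (e : ℕ)).inv_left.mul_left hgj
      rw [inv_mul_cancel_left] at h1
      have h2 := hjv.symm.inv_left.mul_left h1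
      rw [inv_mul_cancel_left] at h2
      exact h2.symm
    have hb1 : b = 1 := hYodd b hb (by
      have h' := hjY b hb
      rw [hjb.eq, mul_inv_cancel_right] at h'
      exact mul_eq_one_iff_eq_inv.mpr h')
    refine ⟨i, e, ?_⟩
    rw [hb1, mul_one]
    exact ((hvj.symm.pow_pow _ _)).eq)
  refine ⟨{
    v := v, j := j, x := x, hv := hv, hj := order_two hj1 hjj, vj := hvj, j_ne := hjne, x3 := hx3, x_v := hxv
    x_j := hxj, v_Y := hvY, j_Y := hjY, cent_Y := hcentY, cent_v := hcv, conj := ?_, conj_Y := ?_, three := ?_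
    card8 := h8 }⟩
  · intro u hu
    obtain ⟨a, ha, hay, hcon⟩ := T.invol_cases (u := u) (by rw [hu]; exact even_two)
    obtain ⟨k, hk⟩ := isConj_iff.mp hcon.symm
    have haT : π a ∈ T.tT := Subgroup.mem_map_of_mem _ ha
    have hv' : h⁻¹ * π a * h ∈ T2 := hcT.mpr (by rwa [show h * (h⁻¹ * π a * h) * h⁻¹ = π a by group])
    have ha2 : π a * π a = 1 := by
      have e : u * u = 1 := two_sq hu
      rw [← hk, show k * π a * k⁻¹ * (k * π a * k⁻¹) = k * (π a * π a) * k⁻¹ by group] at e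
      exact conj_eq_one_iff.mp e
    rcases huniq _ hv' (by
        rw [show h⁻¹ * π a * h * (h⁻¹ * π a * h) = h⁻¹ * (π a * π a) * h by group, ha2]; group) with e | e
    · exact absurd (by
        rw [show π a = h * (h⁻¹ * π a * h) * h⁻¹ by group, e]; simp) hay
    · exact ⟨k * h, by rw [← e, ← hk]; group⟩
  · intro g hg
    rcases hinA g (orderOf_dvd_iff_pow_eq_one.mp hg) with e | ⟨k, hk⟩
    · exact ⟨1, by simp [e]⟩
    · refine ⟨h⁻¹ * k, ?_⟩
      have hmem : h⁻¹ * k * g * (h⁻¹ * k)⁻¹ ∈ T2 := hcT.mpr (by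
        rwa [show h * (h⁻¹ * k * g * (h⁻¹ * k)⁻¹) * h⁻¹ = k * g * k⁻¹ by group])
      obtain ⟨i, b, hb, e⟩ := hsplit _ hmem
      have hpow : (h⁻¹ * k * g * (h⁻¹ * k)⁻¹) ^ T.y = 1 := by
        rw [conj_pow, orderOf_dvd_iff_pow_eq_one.mp hg, mul_one, mul_inv_cancel]
      rw [e] at hpow ⊢
      fin_cases i
      · simpa using hb
      · exfalso
        simp only [pow_one] at hpow
        rw [(hvY b hb).mul_pow, show b ^ T.y = 1 by
          rw [← hY]; exact congrArg Subtype.val (pow_card_eq_one' (G := Y) (x := ⟨b, hb⟩)), mul_one] at hpow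
        have := orderOf_dvd_of_pow_eq_one hpow
        rw [hv] at this
        exact Nat.not_even_iff_odd.mpr T.hy (even_iff_two_dvd.mpr this)
  · intro s hs
    have hs3 : s ^ 3 = 1 := hs ▸ pow_orderOf_eq_one s
    have conjC : ∀ {g : PSL}, IsConj s g → ∀ {N : ℕ},
        (Nat.card ↥(Subgroup.centralizer ({g} : Set PSL)) = N ∧ ∀ a b : PSL, Commute a g → Commute b g → Commute a b) →
        Nat.card ↥(Subgroup.centralizer ({s} : Set PSL)) = N ∧ ∀ a b : PSL, Commute a s → Commute b s → Commute a b := by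
      rintro g hg N ⟨hc, hab⟩
      obtain ⟨k, rfl⟩ := isConj_iff.mp hg
      refine ⟨?_, fun a b ha hb => ?_⟩
      · rw [← hc]
        refine Nat.card_congr (Equiv.subtypeEquiv (MulAut.conj k).toEquiv fun a => ?_)
        simp only [Subgroup.mem_centralizer_singleton_iff]
        exact ⟨fun e => (commute_conj e k).eq, fun e => by
          have e' := (commute_conj e k⁻¹).eq
          simpa [mul_assoc] using e'⟩
      · have e' := commute_conj (hab _ _ (commute_conj ha k) (commute_conj hb k)) k⁻¹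
        simpa [mul_assoc] using e'
    rcases T.kinds s with rfl | ⟨e, x', he, hx', hc⟩ | ⟨a, ha, -, hc⟩ | ⟨b, hb, hb1, hc⟩
    · rw [orderOf_one] at hs; omega
    · obtain ⟨h1, h2'⟩ := conjC hc (T.cent_unip he hx')
      refine Or.inr ⟨_, ?_, T.odd_card, Or.inl rfl, hcy, h1, h2'⟩
      rw [← hs]
      exact orderOf_dvd_of_pow_eq_one (isConj_pow_eq_one hc.symm (T.pow_unip he x'))
    · have : 3 ∣ 2 * T.y := hs ▸ orderOf_dvd_of_pow_eq_one (isConj_pow_eq_one hc.symm (T.pow_A ha))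
      exact Or.inl ((Nat.Coprime.dvd_mul_left (by norm_num)).mp this)
    · haveI := T.torB.isCyclic_map
      have hb2 : π b * π b ≠ 1 := fun e => hb1 (eq_one_of_pow_coprime (by rw [pow_two]; exact e) (T.pow_B hb)
        (Nat.coprime_two_left.mpr hzo))
      have hC := T.torB.centralizer_eq h2 (Subgroup.mem_map_of_mem _ hb) hb2
      obtain ⟨h1, h2'⟩ := conjC hc (N := T.z) ⟨by rw [hC]; exact T.card_tZ, fun p r hp hr => by
        letI := IsCyclic.commGroup (α := T.B.map π)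
        exact congrArg Subtype.val (mul_comm (⟨p, hC.le (Subgroup.mem_centralizer_singleton_iff.mpr hp.eq)⟩ : T.B.map π)
          ⟨r, hC.le (Subgroup.mem_centralizer_singleton_iff.mpr hr.eq)⟩)⟩
      refine Or.inr ⟨_, ?_, hzo, Or.inr rfl, hzy.symm, h1, h2'⟩
      rw [← hs]
      exact orderOf_dvd_of_pow_eq_one (isConj_pow_eq_one hc.symm (T.pow_B hb))

end Tbl

/-- The facts for every enumeration and every choice of the class functions. -/
theorem LData.exists_lFacts {K : Type*} [Field K] [Fintype K]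
    [Fintype (Matrix.ProjectiveSpecialLinearGroup (Fin 2) K)]
    (hq : Fintype.card K % 8 = 3 ∨ Fintype.card K % 8 = 5) (h11 : 11 ≤ Fintype.card K)
    (D : LData (Matrix.ProjectiveSpecialLinearGroup (Fin 2) K)) (hD : D.q = Fintype.card K) :
    Nonempty (LFacts (Matrix.ProjectiveSpecialLinearGroup (Fin 2) K) D.q D.y D.z D.Y) := by
  classical
  obtain ⟨T⟩ : Nonempty (Tbl K) := by
    rcases hq with h | h
    · obtain ⟨T, -⟩ := tbl_neg (F := K) (y := (Fintype.card K + 1) / 4) (Nat.odd_iff.mpr (by omega)) (by omega)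
      exact ⟨T⟩
    · obtain ⟨T, -⟩ := tbl_pos (F := K) (y := Fintype.card K / 4) (Nat.odd_iff.mpr (by omega)) (by omega)
      exact ⟨T⟩
  have e1 := D.hq
  have e2 := T.hq
  rw [hD] at e1
  have hy : D.y = T.y := by
    rcases D.hδ with a | a <;> rcases T.hδ with b | b <;> rw [a] at e1 <;> rw [b] at e2 <;> omega
  have hz : D.z = T.z := by
    have := D.hz
    have := T.hz
    omega
  have hsimple : IsSimpleGroup (Matrix.ProjectiveSpecialLinearGroup (Fin 2) K) :=
    Matrix.ProjectiveSpecialLinearGroup.rank_two_simple (by rw [Nat.card_eq_fintype_card]; omega)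
  have h3 : 3 ≤ T.y := by
    rcases T.hδ with b | b <;> rw [b] at e2 <;> have := T.hy <;> rw [Nat.odd_iff] at this <;> omega
  rw [hy, hz, hD]
  exact T.exists_lFacts hsimple D.Y D.cycY (by rw [D.cardY, hy]) h3

end CfsgLib.JankoThompson
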