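import Cfsg.Agent.Lib.JankoThompson.LocalKey
import Mathlib.GroupTheory.Transfer

/-!
The key lemma when the rotation has a centraliser of odd order in its copy of `L`: a normal complement and the
square formula give `l ∣ 8`.
-/

set_option autoImplicit false
set_option linter.unusedSectionVars false
set_option linter.style.haveILetI false
set_option maxHeartbeats 1600000

namespace CfsgLib.JankoThompson

universe u v

/-- The arithmetic: `l ∣ k² - 1`, `y ∣ 9 k² - 1`, `l ∣ y` and `l` odd are impossible. -/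
theorem arith_eight {l k y : ℕ} (hl : l.Prime) (hl2 : l ≠ 2) (hly : l ∣ y) (h1 : k ^ 2 ≡ 1 [MOD l])
    (h2 : (y : ℤ) ∣ ((3 * k : ℕ) : ℤ) ^ 2 - 1) : False := by
  have ha : (l : ℤ) ∣ (k : ℤ) ^ 2 - 1 := by
    have h := (Int.natCast_modEq_iff.mpr h1).symm.dvd
    push_cast at h
    exact h
  have hb : (l : ℤ) ∣ ((3 * k : ℕ) : ℤ) ^ 2 - 1 := (Int.natCast_dvd_natCast.mpr hly).trans h2
  have h8 : (l : ℤ) ∣ 8 := by
    have h := dvd_sub hb (dvd_mul_of_dvd_right ha 9)
    have e : ((3 * k : ℕ) : ℤ) ^ 2 - 1 - 9 * ((k : ℤ) ^ 2 - 1) = 8 := by push_cast; ring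
    rwa [e] at h
  have h8' : l ∣ 2 ^ 3 := by exact_mod_cast h8
  exact hl2 ((Nat.prime_dvd_prime_iff_eq hl Nat.prime_two).mp (hl.dvd_of_dvd_pow h8'))

namespace Hyp

variable {G : Type u} [Group G] [Finite G] {L : Type v} [Group L] {H : Hyp G L}

theorem y_dvd (H : Hyp G L) {N : ℕ} (h : N = H.q ∨ N = H.z) : (H.y : ℤ) ∣ (N : ℤ) ^ 2 - 1 := by
  have hd : H.δ * H.δ = 1 := by rcases H.hδ with e | e <;> rw [e] <;> norm_num
  rcases h with rfl | rfl
  · exact ⟨16 * H.y + 8 * H.δ, by rw [H.hq]; linear_combination hd⟩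
  · exact ⟨4 * H.y + 4 * H.δ, by rw [H.hz]; linear_combination hd⟩

namespace Rot

variable (R : H.Rot)

/-- The case of a torus of odd order. -/
theorem false_torus {a₀ : L} (ha₀ : a₀ ∈ H.Y) (h1₀ : a₀ ≠ 1) (hσ₀ : Commute R.σ (H.E a₀)) (h3 : ¬ 3 ∣ H.y)
    {N : ℕ} (hN3 : 3 ∣ N) (hNodd : Odd N) (hNqz : N = H.q ∨ N = H.z) (hNy : N.Coprime H.y)
    (hNc : Nat.card ↥(Subgroup.centralizer ({R.s} : Set L)) = N)
    (hNab : ∀ g h : L, Commute g R.s → Commute h R.s → Commute g h) : False := by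
  classical
  haveI : Fact (Nat.Prime 2) := ⟨Nat.prime_two⟩
  haveI : Finite L := Finite.of_injective _ (iota_inj H.e)
  -- an element of prime order
  obtain ⟨l, hl, hld⟩ := Nat.exists_prime_and_dvd (fun e : orderOf a₀ = 1 => h1₀ (orderOf_eq_one_iff.mp e))
  haveI : Fact l.Prime := ⟨hl⟩
  set a := a₀ ^ (orderOf a₀ / l) with hadef
  have hao : orderOf a = l := orderOf_pow_orderOf_div (orderOf_pos a₀).ne' hld
  have ha : a ∈ H.Y := pow_mem ha₀ _
  have h1 : a ≠ 1 := fun e => by rw [e, orderOf_one] at hao; exact hl.ne_one hao.symm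
  have hσa : Commute R.σ (H.E a) := R.σ_comm_pow hσ₀ _
  have hly : l ∣ H.y := hao ▸ orderOf_dvd_of_pow_eq_one (H.Y_pow ha)
  have hl2 : l ≠ 2 := fun e => (Nat.not_even_iff_odd.mpr H.hy) (even_iff_two_dvd.mpr (e ▸ hly))
  have hl3 : l ≠ 3 := fun e => h3 (e ▸ hly)
  have hw1 : R.w ≠ 1 := fun e => R.w_not (e ▸ H.inA_one)
  -- the centraliser of the rotation
  set C := Subgroup.centralizer ({R.σ} : Set G) with hC
  have hmC : ∀ {x : G}, x ∈ C ↔ Commute x R.σ := fun {x} =>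
    ⟨fun h => Subgroup.mem_centralizer_singleton_iff.mp h, fun h => Subgroup.mem_centralizer_singleton_iff.mpr h.eq⟩
  have hconjm : ∀ {x : G}, Commute x R.w → Commute x R.σ →
      ∃ (i : Fin 2) (r : L), Commute r R.s ∧ R.m⁻¹ * x * R.m = H.t ^ (i : ℕ) * H.E r := by
    intro x hxw hxσ
    have e1 : R.m⁻¹ * R.w * R.m⁻¹⁻¹ = H.t := by rw [← R.m_w]; group
    have e2 : R.m⁻¹ * R.σ * R.m⁻¹⁻¹ = H.E R.s := by rw [← R.m_s]; group
    have c1 := commute_conj hxw R.m⁻¹
    have c2 := commute_conj hxσ R.m⁻¹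
    rw [e1] at c1
    rw [e2] at c2
    rw [inv_inv] at c1 c2
    obtain ⟨i, r, hr⟩ := H.cent_fin c1
    refine ⟨i, r, ?_, hr⟩
    rw [hr] at c2
    have h := ((H.E_comm R.s).pow_left (i : ℕ)).inv_left.mul_left c2
    rw [inv_mul_cancel_left] at h
    exact iota_inj H.e (by rw [map_mul, map_mul]; exact h.eq)
  -- the torus
  set U := ((Subgroup.centralizer ({R.s} : Set L)).map ((MulAut.conj R.m).toMonoidHom.comp H.E)) with hU
  have hUmem : ∀ {x : G}, x ∈ U ↔ ∃ r : L, Commute r R.s ∧ x = R.m * H.E r * R.m⁻¹ := fun {x} => by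
    rw [hU, Subgroup.mem_map]
    exact ⟨fun ⟨r, hr, e⟩ => ⟨r, Subgroup.mem_centralizer_singleton_iff.mp hr, e.symm⟩,
      fun ⟨r, hr, e⟩ => ⟨r, Subgroup.mem_centralizer_singleton_iff.mpr hr.eq, e.symm⟩⟩
  have hUc : Nat.card U = N := by
    rw [hU, Subgroup.card_map_of_injective (f := (MulAut.conj R.m).toMonoidHom.comp H.E)
      ((MulAut.conj R.m).injective.comp (iota_inj H.e)), hNc]
  have hσU : R.σ ∈ U := hUmem.mpr ⟨R.s, Commute.refl _, R.m_s.symm⟩
  have hUcomm : ∀ {x : G}, x ∈ U → Commute x R.w ∧ Commute x R.σ := fun {x} hx => by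
    obtain ⟨r, hr, rfl⟩ := hUmem.mp hx
    constructor
    · rw [← R.m_w]; exact commute_conj (H.E_comm r).symm _
    · rw [← R.m_s]; exact commute_conj (hr.map H.E) _
  have hUN : ∀ {x : G}, x ∈ U → x ^ N = 1 := fun {x} hx => by
    rw [← hUc]; exact congrArg Subtype.val (pow_card_eq_one' (G := U) (x := ⟨x, hx⟩))
  -- the Sylow two-subgroup of the centraliser
  set wC : C := ⟨R.w, hmC.mpr R.w_σ⟩ with hwC
  have hwo : orderOf wC = 2 := by rw [← Subgroup.orderOf_coe]; exact order_two hw1 R.ww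
  obtain ⟨S, hS⟩ := (IsPGroup.of_card (p := 2) (n := 1) (by rw [Nat.card_zpowers, hwo, pow_one]) :
    IsPGroup 2 (Subgroup.zpowers wC)).exists_le_sylow
  have hScases : ∀ x ∈ (S : Subgroup C), x = 1 ∨ x = wC := by
    intro x hx
    obtain ⟨P, hP⟩ := (S.2.map C.subtype).exists_le_sylow
    have hxw : Commute (x : G) R.w := congrArg Subtype.val
      (H.hab P ⟨x, hP ⟨x, hx, rfl⟩⟩ ⟨R.w, hP ⟨wC, hS (Subgroup.mem_zpowers _), rfl⟩⟩)
    obtain ⟨i, r, hr, e⟩ := hconjm hxw (hmC.mp x.2)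
    obtain ⟨k, hk⟩ := IsPGroup.iff_orderOf.mp S.2 ⟨x, hx⟩
    rw [Subgroup.orderOf_mk] at hk
    have hxk : (x : G) ^ 2 ^ k = 1 := by
      rw [← hk, ← Subgroup.coe_pow, pow_orderOf_eq_one, Subgroup.coe_one]
    have h' : (H.t ^ (i : ℕ) * H.E r) ^ 2 ^ k = 1 := by
      rw [← e, show R.m⁻¹ * (x : G) * R.m = R.m⁻¹ * (x : G) * R.m⁻¹⁻¹ by group, conj_pow, hxk, mul_one,
        mul_inv_cancel]
    rw [((H.E_comm r).pow_left _).mul_pow, ← pow_mul, ← map_pow] at h'
    have hr2 : r ^ 2 ^ k = 1 := by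
      rcases Nat.even_or_odd ((i : ℕ) * 2 ^ k) with ⟨m, hm⟩ | ⟨m, hm⟩
      · rw [hm, ← two_mul, pow_mul, pow_two, H.tt, one_pow, one_mul] at h'
        exact iota_inj H.e (h'.trans (map_one _).symm)
      · rw [odd_pow_two ⟨m, hm⟩ H.tt] at h'
        exact absurd (by rw [map_inv]; exact (eq_inv_of_mul_eq_one_left h').symm) (H.t_not ((r ^ 2 ^ k)⁻¹))
    have hrN : r ^ N = 1 := by
      rw [← hNc]
      exact congrArg Subtype.val (pow_card_eq_one' (G := ↥(Subgroup.centralizer ({R.s} : Set L)))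
        (x := ⟨r, Subgroup.mem_centralizer_singleton_iff.mpr hr.eq⟩))
    have hr1 : r = 1 := eq_one_of_pow_coprime hr2 hrN
      (Nat.Coprime.pow_left k (Nat.coprime_two_left.mpr hNodd))
    rw [hr1, map_one, mul_one] at e
    have ex : (x : G) = R.m * H.t ^ (i : ℕ) * R.m⁻¹ := by rw [← e]; group
    fin_cases i
    · exact Or.inl (Subtype.ext (by simpa using ex))
    · exact Or.inr (Subtype.ext (by rw [hwC]; simpa [R.m_w] using ex))
  have hS2 : Nat.card (S : Subgroup C) = 2 := by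
    have : (S : Subgroup C) = Subgroup.zpowers wC := le_antisymm (fun x hx => by
      rcases hScases x hx with rfl | rfl
      exacts [one_mem _, Subgroup.mem_zpowers _]) hS
    rw [this, Nat.card_zpowers, hwo]
  haveI hScomm : IsMulCommutative (S : Subgroup C) := ⟨⟨fun p r => Subtype.ext (by
    show (p : C) * r = r * p
    rcases hScases p p.2 with e | e <;> rcases hScases r r.2 with e' | e' <;> rw [e, e'] <;> simp)⟩⟩
  have hNS : Subgroup.normalizer ((S : Subgroup C) : Set C) ≤ Subgroup.centralizer ((S : Subgroup C) : Set C) := by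
    intro x hx
    refine Subgroup.mem_centralizer_iff.mpr fun s hs => ?_
    have h' := (Subgroup.mem_normalizer_iff.mp hx s).mp hs
    rcases hScases s hs with rfl | rfl
    · simp
    · rcases hScases _ h' with e | e
      · rw [conj_eq_one_iff.mp e]; simp
      · exact (mul_inv_eq_iff_eq_mul.mp e).symm
  have hcompl := MonoidHom.ker_transferSylow_isComplement' S hNS
  set R0 := (MonoidHom.transferSylow S hNS).ker with hR0
  have hR0n : R0.Normal := MonoidHom.normal_ker _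
  have hR0odd : ¬ 2 ∣ Nat.card R0 := by
    intro h
    have hidx := S.not_dvd_index
    rw [hcompl.index_eq_card] at hidx
    exact hidx h
  have hR0mem : ∀ (x : C) (n : ℕ), Odd n → x ^ n = 1 → x ∈ R0 := by
    intro x n hn hxn
    rw [hR0, MonoidHom.mem_ker]
    refine eq_one_of_pow_coprime (m := n) (n := 2) ?_ ?_ (Nat.coprime_two_right.mpr hn)
    · rw [← map_pow, hxn, map_one]
    · have h := pow_card_eq_one' (G := (S : Subgroup C)) (x := MonoidHom.transferSylow S hNS x)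
      rwa [hS2] at h
  clear_value R0
  set X := R0.map C.subtype with hX
  have hXC : X ≤ C := Subgroup.map_subtype_le _
  have hXmem : ∀ {x : G}, Commute x R.σ → ∀ {n : ℕ}, Odd n → x ^ n = 1 → x ∈ X := fun {x} hx n hn hxn =>
    ⟨⟨x, hmC.mpr hx⟩, hR0mem _ n hn (Subtype.ext (by rw [Subgroup.coe_pow]; exact hxn)), rfl⟩
  have hXodd : ∀ {x : G}, x ∈ X → x ^ Nat.card R0 = 1 := fun {x} hx => by
    obtain ⟨x', hx', rfl⟩ := hx
    exact congrArg (fun p : R0 => ((p : C) : G)) (pow_card_eq_one' (G := R0) (x := ⟨x', hx'⟩))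
  have hXoddn : Odd (Nat.card R0) := Nat.odd_iff.mpr (Nat.two_dvd_ne_zero.mp hR0odd)
  set C0 := (H.Y.map H.E).subgroupOf X with hC0
  have hC0mem : ∀ {x : X}, x ∈ C0 ↔ ∃ c ∈ H.Y, H.E c = (x : G) := fun {x} =>
    Subgroup.mem_subgroupOf.trans Subgroup.mem_map
  have hC0σ : ∀ {x : X} {c : L}, H.E c = (x : G) → Commute R.σ (H.E c) := fun {x} {c} e => by
    rw [e]; exact (hmC.mp (hXC x.2)).symm
  haveI : IsMulCommutative C0 := ⟨⟨fun p r => by
    obtain ⟨c, hc, e⟩ := hC0mem.mp p.2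
    obtain ⟨d, hd, e'⟩ := hC0mem.mp r.2
    refine Subtype.ext (Subtype.ext ?_)
    show ((p : X) : G) * (r : X) = (r : X) * (p : X)
    rw [← e, ← e']
    exact (H.inA_comm (H.inA_E hc) (H.inA_E hd)).eq⟩⟩
  have hC0card : Nat.card C0 ∣ H.y := by
    have hle : (C0.map X.subtype) ≤ H.Y.map H.E := by
      rintro _ ⟨x, hx, rfl⟩
      exact hx
    have h' := Subgroup.card_dvd_of_le hle
    rwa [Subgroup.card_map_of_injective X.subtype_injective, Subgroup.card_map_of_injective (iota_inj H.e),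
      H.cardY] at h'
  -- an element of `X` centralising a non-trivial element of `C0`
  have hF1 : ∀ {c : L}, c ∈ H.Y → c ≠ 1 → Commute R.σ (H.E c) → ∀ {x : G}, x ∈ C → Commute x (H.E c) →
      ∃ (k : ℕ) (e : L), e ∈ H.Y ∧ Commute R.σ (H.E e) ∧ x = R.σ ^ k * H.E e := by
    intro c hc hc1 hσc x hx hxc
    obtain ⟨k, e, he, hσe, hxe⟩ := R.cent_σ hc hσc (R.alt hc hc1 hσc) hxc (hmC.mp hx)
    exact ⟨k, e, he, hσe, hxe⟩
  have hpure : ∀ {x : G} {k : ℕ} {e : L}, e ∈ H.Y → Commute R.σ (H.E e) → x = R.σ ^ k * H.E e → ∀ {n : ℕ},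
      x ^ n = 1 → n.Coprime 3 → x = H.E e := by
    intro x k e he hσe hx n hn hn3
    rw [hx, (hσe.pow_left k).mul_pow, ← pow_mul] at hn
    have hk := R.σ_pow_A (k := k * n) (by
      rw [eq_inv_of_mul_eq_one_left hn]; exact H.inA_inv (H.Asub.pow_mem (H.inA_E he) n))
    have h3k : 3 ∣ k := hn3.symm.dvd_of_dvd_mul_right (Nat.dvd_of_mod_eq_zero hk)
    obtain ⟨j, rfl⟩ := h3k
    rw [hx, pow_mul, R.σ3, one_pow, one_mul]
  have hcop : (Nat.card C0).Coprime C0.index := by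
    refine Nat.coprime_of_dvd fun p hp hp1 hp2 => ?_
    haveI : Fact p.Prime := ⟨hp⟩
    have hp3 : p.Coprime 3 := (Nat.coprime_primes hp Nat.prime_three).mpr fun e =>
      h3 (e ▸ hp1.trans hC0card)
    obtain ⟨c1, hc1⟩ := exists_prime_orderOf_dvd_card' (G := C0) p hp1
    obtain ⟨P, hP⟩ := (IsPGroup.of_card (p := p) (n := 1)
      (by rw [Nat.card_zpowers, Subgroup.orderOf_coe, hc1, pow_one]) :
        IsPGroup p (Subgroup.zpowers (c1 : X))).exists_le_sylow
    haveI : Nontrivial (P : Subgroup X) := by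
      refine ⟨⟨⟨c1, hP (Subgroup.mem_zpowers _)⟩, 1, fun e => ?_⟩⟩
      have : c1 = 1 := Subtype.ext (congrArg Subtype.val e : _)
      rw [this, orderOf_one] at hc1
      exact hp.ne_one hc1.symm
    have hZ := P.2.center_nontrivial
    obtain ⟨z, hz1⟩ := exists_ne (1 : Subgroup.center (P : Subgroup X))
    have hmem : ∀ {x : X} {c : L}, x ∈ (P : Subgroup X) → c ∈ H.Y → c ≠ 1 → Commute R.σ (H.E c) →
        Commute (x : G) (H.E c) → x ∈ C0 := by
      intro x c hx hc hc' hσc hxc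
      obtain ⟨k, e, he, hσe, hxe⟩ := hF1 hc hc' hσc (hXC x.2) hxc
      obtain ⟨i, hi⟩ := P.2 ⟨x, hx⟩
      exact hC0mem.mpr ⟨e, he, (hpure he hσe hxe (n := p ^ i)
        (congrArg (fun q : (P : Subgroup X) => ((q : X) : G)) hi) (hp3.pow_left i)).symm⟩
    obtain ⟨c, hc, ec⟩ := hC0mem.mp c1.2
    have hc' : c ≠ 1 := fun e => by
      rw [e, map_one] at ec
      have : c1 = 1 := Subtype.ext (Subtype.ext ec.symm)
      rw [this, orderOf_one] at hc1
      exact hp.ne_one hc1.symm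
    have hzc : Commute (((z : (P : Subgroup X)) : X) : G) (H.E c) := by
      rw [ec]
      exact congrArg (fun q : (P : Subgroup X) => ((q : X) : G))
        (Subgroup.mem_center_iff.mp z.2 ⟨c1, hP (Subgroup.mem_zpowers _)⟩).symm
    have hz0 : ((z : (P : Subgroup X)) : X) ∈ C0 := hmem (z : (P : Subgroup X)).2 hc hc' (hC0σ ec) hzc
    obtain ⟨d, hd, ed⟩ := hC0mem.mp hz0
    have hd1 : d ≠ 1 := fun e => hz1 (Subtype.ext (Subtype.ext (Subtype.ext (by rw [← ed, e, map_one]; rfl))))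
    have hPle : (P : Subgroup X) ≤ C0 := fun x hx => hmem hx hd hd1 (hC0σ ed) (by
      rw [ed]
      exact congrArg (fun q : (P : Subgroup X) => ((q : X) : G)) (Subgroup.mem_center_iff.mp z.2 ⟨x, hx⟩))
    exact P.not_dvd_index (hp2.trans (Subgroup.index_dvd_of_le hPle))
  have hfus : ∀ g : X, ∀ x ∈ C0, g * x * g⁻¹ ∈ C0 → g * x * g⁻¹ = x := by
    intro g x hx hgx
    obtain ⟨c, hc, ec⟩ := hC0mem.mp hx
    obtain ⟨d, hd, ed⟩ := hC0mem.mp hgx
    have hgd : (g : G) * H.E c * (g : G)⁻¹ = H.E d := by rw [ec, ed]; simp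
    by_cases hc1 : c = 1
    · rw [hc1, map_one] at ec
      rw [show x = 1 from Subtype.ext ec.symm]; simp
    have ho : orderOf c = orderOf d := by
      have h' := order_conj (g : G) (H.E c)
      rw [hgd, orderOf_injective H.E (iota_inj H.e), orderOf_injective H.E (iota_inj H.e)] at h'
      exact h'.symm
    obtain ⟨h', h''⟩ := H.zpowers_eq hc hd ho
    have := R.fusion hc hc1 (hC0σ ec) h' h'' hXoddn (hXodd g.2) hgd
    refine Subtype.ext ?_
    rw [← ed, this, ec]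
  obtain ⟨K0, hK0n, hK0c, hK0m⟩ := exists_complement C0 hcop hfus
  have hXn : ∀ (g : C) {x : G}, x ∈ X → (g : G) * x * (g : G)⁻¹ ∈ X := by
    rintro g _ ⟨x, hx, rfl⟩
    exact ⟨g * x * g⁻¹, hR0n.conj_mem x hx g, rfl⟩
  set K := (K0.map X.subtype).subgroupOf C with hK
  have hKmem : ∀ {x : C}, x ∈ K ↔ (x : G) ∈ X ∧ (x : G) ^ C0.index = 1 := by
    intro x
    rw [hK, Subgroup.mem_subgroupOf, Subgroup.mem_map]
    constructor
    · rintro ⟨y, hy, e⟩
      rw [← e]
      exact ⟨y.2, congrArg Subtype.val ((hK0m y).mp hy)⟩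
    · rintro ⟨hx, hp⟩
      exact ⟨⟨x, hx⟩, (hK0m _).mpr (Subtype.ext (by rw [Subgroup.coe_pow]; exact hp)), rfl⟩
  haveI hKn : K.Normal := ⟨fun x hx g => by
    obtain ⟨h1', h2'⟩ := hKmem.mp hx
    refine hKmem.mpr ⟨hXn g h1', ?_⟩
    rw [Subgroup.coe_mul, Subgroup.coe_mul, Subgroup.coe_inv, conj_pow, h2', mul_one, mul_inv_cancel]⟩
  have hKC : Nat.card K = C0.index := by
    rw [← hK0c, hK, Nat.card_congr (Subgroup.subgroupOfEquivOfLe
      ((Subgroup.map_subtype_le K0).trans hXC)).toEquiv, Subgroup.card_map_of_injective X.subtype_injective]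
  have hUK : ∀ {x : C}, (x : G) ∈ U → x ∈ K := by
    intro x hx
    have hxX : (x : G) ∈ X := hXmem (hUcomm hx).2 hNodd (hUN hx)
    refine hKmem.mpr ⟨hxX, ?_⟩
    have h2' : orderOf (⟨x, hxX⟩ : X) ∣ C0.index := by
      have hN' : orderOf (⟨x, hxX⟩ : X) ∣ N := orderOf_dvd_of_pow_eq_one
        (Subtype.ext (by rw [Subgroup.coe_pow]; exact hUN hx))
      have h' : orderOf (⟨x, hxX⟩ : X) ∣ Nat.card C0 * C0.index := by
        rw [C0.card_mul_index]; exact orderOf_dvd_natCard _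
      exact ((hNy.coprime_dvd_right hC0card).coprime_dvd_left hN').dvd_of_dvd_mul_left h'
    exact congrArg Subtype.val (orderOf_dvd_iff_pow_eq_one.mp h2')
  -- the quotient by the rotation
  set σC : C := ⟨R.σ, hmC.mpr (Commute.refl _)⟩ with hσC
  set Z := Subgroup.zpowers σC with hZ
  haveI hZn : Z.Normal := ⟨fun x hx g => by
    obtain ⟨i, rfl⟩ := Subgroup.mem_zpowers_iff.mp hx
    have hcm : Commute g σC := Subtype.ext (hmC.mp g.2).eq
    rw [(hcm.zpow_right i).eq, mul_inv_cancel_right]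
    exact hx⟩
  have hσne : R.σ ≠ 1 := fun e => H.v_ne_t (by rw [← R.σ_t, e, one_mul, inv_one, mul_one])
  have hZc : Nat.card Z = 3 := by
    rw [hZ, Nat.card_zpowers, ← Subgroup.orderOf_coe]
    exact orderOf_eq_prime R.σ3 hσne
  have hZ3 : ∀ {x : C}, x ∈ Z → x ^ 3 = 1 ∧ Commute x wC := by
    intro x hx
    obtain ⟨i, rfl⟩ := Subgroup.mem_zpowers_iff.mp hx
    constructor
    · rw [← zpow_natCast, ← zpow_mul, mul_comm, zpow_mul, zpow_natCast,
        show σC ^ 3 = 1 from Subtype.ext (by rw [Subgroup.coe_pow]; exact R.σ3), one_zpow]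
    · exact (show Commute σC wC from Subtype.ext R.w_σ.eq.symm).zpow_left i
  have hZK : Z ≤ K := by
    rw [hZ, Subgroup.zpowers_le]
    exact hUK hσU
  set π := QuotientGroup.mk' Z with hπ
  set aC : C := ⟨H.E a, hmC.mpr hσa.symm⟩ with haC
  haveI : (K.map π).Normal := hKn.map π (QuotientGroup.mk'_surjective Z)
  have hua : π wC * π aC * (π wC)⁻¹ = (π aC)⁻¹ := by
    rw [← map_inv, ← map_mul, ← map_mul, ← map_inv]
    congr 1
    exact Subtype.ext (by
      rw [Subgroup.coe_mul, Subgroup.coe_mul, Subgroup.coe_inv, Subgroup.coe_inv]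
      show R.w * H.E a * R.w⁻¹ = (H.E a)⁻¹
      rw [R.w_Y a ha, map_inv])
  have haCl : aC ^ l = 1 := Subtype.ext (by
    rw [Subgroup.coe_pow]
    show H.E a ^ l = 1
    rw [← map_pow, ← hao, pow_orderOf_eq_one, map_one])
  have hl3' : l.Coprime 3 := (Nat.coprime_primes hl Nat.prime_three).mpr hl3
  have hπa : orderOf (π aC) = l := by
    refine orderOf_eq_prime (by rw [← map_pow, haCl, map_one]) fun e => ?_
    have hm := (QuotientGroup.eq_one_iff aC).mp e
    have := eq_one_of_pow_coprime haCl (hZ3 hm).1 hl3'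
    exact h1 (iota_inj H.e ((congrArg Subtype.val this).trans (map_one _).symm))
  have hfpf : ∀ x ∈ K.map π, Commute x (π aC) → x = 1 := by
    rintro _ ⟨k, hk, rfl⟩ hkc
    have hm : k * aC * k⁻¹ * aC⁻¹ ∈ Z := by
      refine (QuotientGroup.eq_one_iff _).mp ?_
      show π (k * aC * k⁻¹ * aC⁻¹) = 1
      rw [map_mul, map_mul, map_mul, map_inv, map_inv, hkc.eq, mul_inv_cancel_right, mul_inv_cancel]
    set z := k * aC * k⁻¹ * aC⁻¹ with hz
    have hza : Commute z aC := by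
      obtain ⟨i, hi⟩ := Subgroup.mem_zpowers_iff.mp hm
      rw [← hi]
      exact (show Commute σC aC from Subtype.ext hσa.eq).zpow_left i
    have hzl : z ^ l = 1 := by
      have e : (k * aC * k⁻¹) ^ l = z ^ l * aC ^ l := by
        rw [← hza.mul_pow, hz, inv_mul_cancel_right]
      rw [conj_pow, haCl, mul_one, mul_one, mul_inv_cancel] at e
      exact e.symm
    have hz1 : z = 1 := eq_one_of_pow_coprime hzl (hZ3 hm).1 hl3'
    have hka : Commute (k : G) (H.E a) := by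
      have e : k * aC * k⁻¹ = aC := mul_inv_eq_one.mp hz1
      exact congrArg Subtype.val (mul_inv_eq_iff_eq_mul.mp e)
    obtain ⟨i, e, he, hσe, hke⟩ := hF1 ha h1 hσa k.2 hka
    have hkσ : (σC ^ i)⁻¹ * k ∈ K := mul_mem (inv_mem (pow_mem (hZK (Subgroup.mem_zpowers _)) i)) hk
    have hval : (((σC ^ i)⁻¹ * k : C) : G) = H.E e := by
      rw [Subgroup.coe_mul, Subgroup.coe_inv, Subgroup.coe_pow, hke, inv_mul_cancel_left]
    obtain ⟨hX', hp⟩ := hKmem.mp hkσ
    rw [hval] at hX' hp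
    have hC0e : (⟨H.E e, hX'⟩ : X) ∈ C0 := hC0mem.mpr ⟨e, he, rfl⟩
    have h1e : (⟨H.E e, hX'⟩ : X) = 1 := eq_one_of_pow_coprime (m := C0.index) (n := Nat.card C0)
      (Subtype.ext (by rw [Subgroup.coe_pow]; exact hp))
      (congrArg Subtype.val (pow_card_eq_one' (G := C0) (x := ⟨_, hC0e⟩))) hcop.symm
    have hk1 : k = σC ^ i := by
      refine (inv_mul_eq_one.mp (Subtype.ext ?_)).symm
      rw [hval]
      exact congrArg Subtype.val h1e
    rw [hk1]
    exact (QuotientGroup.eq_one_iff _).mpr (pow_mem (Subgroup.mem_zpowers _) i)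
  have hπw : π wC * π wC = 1 := by
    rw [← map_mul, show wC * wC = 1 from Subtype.ext R.ww, map_one]
  have hsq := card_eq_sq hπw hua (by rw [hπa]; exact hl.odd_of_ne_two hl2) hfpf
  -- the fixed points
  set U' := U.subgroupOf C with hU'
  have hUC : U ≤ C := fun x hx => hmC.mpr (hUcomm hx).2
  have hU'c : Nat.card U' = N := by rw [hU', Nat.card_congr (Subgroup.subgroupOfEquivOfLe hUC).toEquiv, hUc]
  have hZU : Z ≤ U' := by rw [hZ, Subgroup.zpowers_le]; exact hσU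
  have hfix : K.map π ⊓ Subgroup.centralizer ({π wC} : Set (C ⧸ Z)) = U'.map π := by
    ext x
    constructor
    · rintro ⟨⟨k, hk, rfl⟩, hc⟩
      have hm : k * wC * k⁻¹ * wC⁻¹ ∈ Z := by
        refine (QuotientGroup.eq_one_iff _).mp ?_
        show π (k * wC * k⁻¹ * wC⁻¹) = 1
        rw [map_mul, map_mul, map_mul, map_inv, map_inv,
          (Subgroup.mem_centralizer_singleton_iff.mp hc), mul_inv_cancel_right, mul_inv_cancel]
      set z := k * wC * k⁻¹ * wC⁻¹ with hz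
      have hww : wC ^ 2 = 1 := by rw [pow_two]; exact Subtype.ext R.ww
      have hz2 : z ^ 2 = 1 := by
        have e : (k * wC * k⁻¹) ^ 2 = z ^ 2 * wC ^ 2 := by
          rw [← (hZ3 hm).2.mul_pow, hz, inv_mul_cancel_right]
        rw [conj_pow, hww, mul_one, mul_one, mul_inv_cancel] at e
        exact e.symm
      have hkw : Commute (k : G) R.w := congrArg Subtype.val (mul_inv_eq_iff_eq_mul.mp
        (mul_inv_eq_one.mp (eq_one_of_pow_coprime hz2 (hZ3 hm).1 (by norm_num))))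
      obtain ⟨i, r, hr, e⟩ := hconjm hkw (hmC.mp k.2)
      have hodd : (H.t ^ (i : ℕ) * H.E r) ^ Nat.card R0 = 1 := by
        rw [← e, show R.m⁻¹ * (k : G) * R.m = R.m⁻¹ * (k : G) * R.m⁻¹⁻¹ by group, conj_pow,
          hXodd (hKmem.mp hk).1, mul_one, mul_inv_cancel]
      obtain ⟨r', -, er⟩ := H.odd_mem (((Commute.refl H.t).pow_left (i : ℕ)).mul_left (H.E_comm r).symm) hXoddn hodd
      obtain ⟨hi, -⟩ := H.pair_inj (i := i) (l := r) (k := 0) (r := r') (er.trans (by simp))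
      refine ⟨k, Subgroup.mem_subgroupOf.mpr (hUmem.mpr ⟨r, hr, ?_⟩), rfl⟩
      have e' : R.m⁻¹ * (k : G) * R.m = H.E r := by rw [e, hi]; simp
      rw [← e']; group
    · rintro ⟨k, hk, rfl⟩
      have hkU : (k : G) ∈ U := Subgroup.mem_subgroupOf.mp hk
      refine ⟨⟨k, hUK hkU, rfl⟩, Subgroup.mem_centralizer_singleton_iff.mpr ?_⟩
      rw [← map_mul, ← map_mul, show k * wC = wC * k from Subtype.ext (hUcomm hkU).1.eq]
  rw [hfix] at hsq
  have hmod := card_modEq_one hπa hfpf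
  rw [hsq] at hmod
  have hM := card_map_mk Z hZU
  rw [hU'c, hZc] at hM
  refine arith_eight hl hl2 hly hmod ?_
  rw [show 3 * Nat.card (U'.map π) = N by rw [← hM, hπ]; ring]
  exact H.y_dvd hNqz

/-- **The key lemma.** -/
theorem not_comm {a : L} (ha : a ∈ H.Y) (h1 : a ≠ 1) : ¬ Commute R.σ (H.E a) := by
  intro hσ
  by_cases h3 : 3 ∣ H.y
  · exact R.false_three ha h1 hσ h3
  · obtain ⟨N, hN3, hNodd, hNqz, hNy, hNc, hNab⟩ := (H.F.three R.s R.s_ord).resolve_left h3
    exact R.false_torus ha h1 hσ h3 hN3 hNodd hNqz hNy hNc hNab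

end Rot

end Hyp

end CfsgLib.JankoThompson
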