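import Cfsg.Agent.Lib.JankoThompson.PSLTorus

/-!
The part of the character table of `SL₂(q)` trivial on the centre that is needed for `q ≡ 3, 5 (mod 8)`,
written uniformly in `δ`, `q = 4 y + δ`.
-/

set_option autoImplicit false
set_option linter.unusedSectionVars false
set_option linter.style.haveILetI false

namespace CfsgLib.JankoThompson

open Matrix Cfsg CfsgLib.CharTheory CfsgLib.SL2Char CfsgLib.SL2Tori

variable {F : Type*} [Field F] [Fintype F] [DecidableEq F]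

local notation "SL2" => Matrix.SpecialLinearGroup (Fin 2) F
local notation "PSL" => Matrix.ProjectiveSpecialLinearGroup (Fin 2) F
local notation "qC" => (Fintype.card F : ℂ)
local notation "π" => (PSL2.mk : SL2 →* PSL)

/-- The table: `A` is the torus of order `q - δ`, `B` the one of order `q + δ`. -/
structure Tbl (F : Type*) [Field F] [Fintype F] [DecidableEq F] where
  δ : ℤ
  y : ℕ
  z : ℕ
  hδ : δ = 1 ∨ δ = -1
  hy : Odd y
  hq : (Fintype.card F : ℤ) = 4 * y + δ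
  hz : (z : ℤ) = 2 * y + δ
  A : Subgroup (Matrix.SpecialLinearGroup (Fin 2) F)
  B : Subgroup (Matrix.SpecialLinearGroup (Fin 2) F)
  torA : Tor A
  torB : Tor B
  cardA : Nat.card A = 4 * y
  cardB : Nat.card B = 2 * z
  cases : ∀ g, (∃ e : Fˣ, e ^ 2 = 1 ∧ g = bor e 0) ∨
    (∃ (e : Fˣ) (x : F), e ^ 2 = 1 ∧ x ≠ 0 ∧ IsConj g (bor e x)) ∨
    (∃ a ∈ A, (PSL2.mk : _ →* ProjectiveSpecialLinearGroup (Fin 2) F) a ≠ 1 ∧ IsConj g a) ∨
    (∃ b ∈ B, (PSL2.mk : _ →* ProjectiveSpecialLinearGroup (Fin 2) F) b ≠ 1 ∧ IsConj g b)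
  f : Fin 2 → Matrix.SpecialLinearGroup (Fin 2) F → ℂ
  f_irr : ∀ i, IsIrrCharacter (Matrix.SpecialLinearGroup (Fin 2) F) (f i)
  f_ne : f 0 ≠ f 1
  f_base : ∀ i, f i ≠ (fun _ => 1) ∧ f i ≠ st
  f_deg : ∀ i, 2 * f i 1 = (Fintype.card F : ℂ) + δ
  f_scalar : ∀ i, ∀ e : Fˣ, e ^ 2 = 1 → f i (bor e 0) = f i 1
  f_unip : ∀ (e : Fˣ) (x : F), e ^ 2 = 1 → x ≠ 0 → f 0 (bor e x) + f 1 (bor e x) = δ
  f_A : ∀ i, ∀ a ∈ A, (PSL2.mk : _ →* ProjectiveSpecialLinearGroup (Fin 2) F) a ≠ 1 →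
    f i a = (δ : ℂ) * if (PSL2.mk : _ →* ProjectiveSpecialLinearGroup (Fin 2) F) a ^ y = 1 then 1 else -1
  f_B : ∀ i, ∀ b ∈ B, (PSL2.mk : _ →* ProjectiveSpecialLinearGroup (Fin 2) F) b ≠ 1 → f i b = 0
  st_A : ∀ a ∈ A, (PSL2.mk : _ →* ProjectiveSpecialLinearGroup (Fin 2) F) a ≠ 1 → st a = (δ : ℂ)
  st_B : ∀ b ∈ B, (PSL2.mk : _ →* ProjectiveSpecialLinearGroup (Fin 2) F) b ≠ 1 → st b = -(δ : ℂ)
  lin : ∀ θ : B →* ℂˣ, θ ≠ 1 → (∀ b : B, (PSL2.mk : _ →* ProjectiveSpecialLinearGroup (Fin 2) F) b = 1 → θ b = 1) →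
    ∃ χ : Matrix.SpecialLinearGroup (Fin 2) F → ℂ,
      IsIrrCharacter (Matrix.SpecialLinearGroup (Fin 2) F) χ ∧ χ ≠ (fun _ => 1) ∧ χ ≠ st ∧ (∀ i, χ ≠ f i) ∧
      (∀ e : Fˣ, e ^ 2 = 1 → χ (bor e 0) = (Fintype.card F : ℂ) - δ) ∧
      (∀ (e : Fˣ) (x : F), e ^ 2 = 1 → x ≠ 0 → χ (bor e x) = -(δ : ℂ)) ∧
      (∀ a ∈ A, (PSL2.mk : _ →* ProjectiveSpecialLinearGroup (Fin 2) F) a ≠ 1 → χ a = 0) ∧
      (∀ b : B, (PSL2.mk : _ →* ProjectiveSpecialLinearGroup (Fin 2) F) b ≠ 1 →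
        χ b = -(δ : ℂ) * ((θ b : ℂ) + (θ b⁻¹ : ℂ)))

theorem ns_sq {a : Fˣ} (h : π (bor a 0) ≠ 1) : a ^ 2 ≠ 1 := fun e => h (mk_bor_scalar e)

theorem ell_of_mem {C : Subgroup SL2} (hcard : Nat.card C = Fintype.card F + 1) {c : SL2} (hc : c ∈ C)
    (h : π c ≠ 1) : Ell c :=
  (torus_cases C hcard hc).resolve_right fun e => h (mk_eq_one.mpr e)

/-- The three kinds of non-central elements. -/
theorem elem_kinds {C : Subgroup SL2} (hC : IsCyclic C) (hcard : Nat.card C = Fintype.card F + 1) (g : SL2) :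
    (∃ e : Fˣ, e ^ 2 = 1 ∧ g = bor e 0) ∨
    (∃ (e : Fˣ) (x : F), e ^ 2 = 1 ∧ x ≠ 0 ∧ IsConj g (bor e x)) ∨
    (∃ a ∈ (diagHom (F := F)).range, π a ≠ 1 ∧ IsConj g a) ∨
    (∃ b ∈ C, π b ≠ 1 ∧ IsConj g b) := by
  rcases elem_cases g with hg | ⟨a, x, hg⟩
  · obtain ⟨c, hc, hce, hcon⟩ := exists_conj_mem C hC hcard hg
    refine Or.inr (Or.inr (Or.inr ⟨c, hc, fun e => ?_, hcon⟩))
    obtain ⟨e', -, rfl⟩ := mk_eq_one.mp e
    exact not_ell_bor e' 0 hce
  · by_cases ha : a ^ 2 = 1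
    · by_cases hx : x = 0
      · subst hx
        exact Or.inl ⟨a, ha, scalar_conj_eq ha hg.symm⟩
      · exact Or.inr (Or.inl ⟨a, x, ha, hx, hg⟩)
    · refine Or.inr (Or.inr (Or.inl ⟨bor a 0, ⟨a, rfl⟩, fun e => ?_, hg.trans (isConj_bor_zero a ha x)⟩))
      obtain ⟨e', he', h⟩ := mk_eq_one.mp e
      exact ha ((bor_injective h).1 ▸ he')

theorem mk_pow_eq_one_iff (h2 : (2 : F) ≠ 0) {g : SL2} {n : ℕ} : π g ^ n = 1 ↔ g ^ (2 * n) = 1 := by
  rw [← map_pow, mk_eq_one, mul_comm, pow_mul, pow_two]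
  constructor
  · rintro ⟨e, he, h⟩
    rw [h, bor_mul, ← pow_two, he]
    simp [bor_one]
  · intro h
    rcases SL2Orders.eq_one_or_neg_one_of_sq h2 _ h with e | e
    · exact ⟨1, one_pow 2, by rw [e, bor_one]⟩
    · exact ⟨-1, by simp, by rw [e, bor_neg_one_eq]⟩

theorem hom_sq_ne_one {G : Type*} [Group G] [Finite G] {φ : G →* ℂˣ} (hφ : φ ≠ 1) {z : ℕ} (hz : Odd z)
    (hzφ : ∀ g, φ g ^ z = 1) : φ ^ 2 ≠ 1 := by
  intro h
  refine hφ (MonoidHom.ext fun g => ?_)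
  have h1 : φ g ^ 2 = 1 := by rw [← MonoidHom.pow_apply, h, MonoidHom.one_apply]
  obtain ⟨k, rfl⟩ := hz
  have h3 := hzφ g
  rw [pow_succ, pow_mul, h1, one_pow, one_mul] at h3
  exact h3

/-- `q ≡ 3 (mod 8)`. -/
theorem tbl_neg {y : ℕ} (hy : Odd y) (hq : Fintype.card F + 1 = 4 * y) :
    ∃ T : Tbl F, T.δ = -1 ∧ T.y = y := by
  have hodd : Odd (Fintype.card F) := ⟨2 * y - 1, by obtain ⟨k, hk⟩ := hy; omega⟩
  have h2 := SL2Orders.two_ne_zero_of_odd hodd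
  have hy1 : 0 < y := hy.pos
  obtain ⟨C, hC, hcard⟩ := exists_torus (F := F)
  obtain ⟨H⟩ := nonempty_halves C hC hcard h2
  obtain ⟨hS, hScard⟩ := tor_split (F := F) h2
  have hbase : ∀ χ, χ ∈ baseSet C → χ ≠ H.m₁ ∧ χ ≠ H.m₂ := fun χ hχ =>
    ⟨fun e => Finset.disjoint_left.mp H.not_base hχ (by simp [e]),
      fun e => Finset.disjoint_left.mp H.not_base hχ (by simp [e])⟩
  have hθA : ∀ c : C, π (c : SL2) ^ y = 1 ↔ H.θ₀ c = 1 := fun c => by
    rw [mk_pow_eq_one_iff h2, H.θ₀_eq_one_iff hC hcard h2 c, show (Fintype.card F + 1) / 2 = 2 * y by omega,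
      ← Subgroup.coe_pow, OneMemClass.coe_eq_one]
  have hθs : ∀ (e : Fˣ) (he : e ^ 2 = 1), H.θ₀ ⟨bor e 0, bor_scalar_mem C hC hcard e he⟩ = 1 :=
    fun e he => (hθA _).mp (by show π (bor e 0) ^ y = 1; rw [mk_bor_scalar he, one_pow])
  have hfA : ∀ c : C, -((H.θ₀ c : ℂˣ) : ℂ) = ((-1 : ℤ) : ℂ) * if π (c : SL2) ^ y = 1 then 1 else -1 := by
    intro c
    by_cases h : π (c : SL2) ^ y = 1
    · rw [if_pos h, (hθA c).mp h]; simp
    · rw [if_neg h, (H.θ₀_val c).resolve_left fun e => h ((hθA c).mpr (Units.ext e))]; simp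
  refine ⟨{
    δ := -1, y := y, z := 2 * y - 1, hδ := Or.inr rfl, hy := hy
    hq := by omega
    hz := by omega
    A := C, B := (diagHom (F := F)).range
    torA := tor_nonsplit hC hcard, torB := hS
    cardA := by omega
    cardB := by omega
    cases := fun g => ?_
    f := ![H.m₁, H.m₂]
    f_irr := fun i => by fin_cases i; exacts [H.irr_m₁, H.irr_m₂]
    f_ne := H.m_ne
    f_base := fun i => ?_
    f_deg := fun i => ?_
    f_scalar := fun i e he => ?_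
    f_unip := fun e x he hx => ?_
    f_A := fun i a ha h1 => ?_
    f_B := fun i b hb h1 => ?_
    st_A := fun a ha h1 => ?_
    st_B := fun b hb h1 => ?_
    lin := fun θ hθ hθ1 => ?_ }, rfl, rfl⟩
  · rcases elem_kinds hC hcard g with h | h | h | h
    exacts [Or.inl h, Or.inr (Or.inl h), Or.inr (Or.inr (Or.inr h)), Or.inr (Or.inr (Or.inl h))]
  · have m1 := hbase _ ((mem_baseSet C).mpr (Or.inl rfl))
    have m2 := hbase st ((mem_baseSet C).mpr (Or.inr (Or.inl rfl)))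
    fin_cases i
    exacts [⟨m1.1.symm, m2.1.symm⟩, ⟨m1.2.symm, m2.2.symm⟩]
  · fin_cases i
    · show 2 * H.m₁ 1 = _; rw [H.m₁_one]; push_cast; ring
    · show 2 * H.m₂ 1 = _; rw [H.m₂_one]; push_cast; ring
  · obtain ⟨-, -, e1, e2⟩ := H.values_scalar hC hcard h2 he
    rw [hθs e he, Units.val_one, one_mul] at e1 e2
    fin_cases i
    exacts [e1, e2]
  · show H.m₁ (bor e x) + H.m₂ (bor e x) = _
    rw [← Pi.add_apply, ← H.m_sum, ds_bor_unip C hC hcard _ he hx, hθs e he]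
    simp
  · obtain ⟨-, -, e1, e2⟩ := H.values_ell hC hcard h2 ⟨a, ha⟩ (ell_of_mem hcard ha h1)
    fin_cases i
    exacts [e1.trans (hfA ⟨a, ha⟩), e2.trans (hfA ⟨a, ha⟩)]
  · obtain ⟨u, rfl⟩ := hb
    obtain ⟨-, -, e1, e2⟩ := H.values_reg hC hcard h2 (ns_sq h1) 0
    fin_cases i
    exacts [e1, e2]
  · rw [st_ell (ell_of_mem hcard ha h1)]; simp
  · obtain ⟨u, rfl⟩ := hb
    show st (bor u 0) = _
    rw [st_bor_ne (ns_sq h1) 0]; simp
  · set φ : Fˣ →* ℂˣ := θ.comp (diagHom (F := F)).rangeRestrict with hφ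
    set α : MulChar F ℂ := MulChar.ofUnitHom φ with hα
    have hα1 : ∀ u : Fˣ, α (u : F) = (θ ⟨diagHom u, u, rfl⟩ : ℂ) := fun u => MulChar.ofUnitHom_coe φ u
    have hφ1 : φ ≠ 1 := fun e => hθ (MonoidHom.ext fun ⟨b, u, hu⟩ => by
      subst hu; exact DFunLike.congr_fun e u)
    have hφz : ∀ u, φ u ^ (2 * y - 1) = 1 := fun u => by
      rw [← map_pow]
      refine hθ1 _ ?_
      show π (diagHom (u ^ (2 * y - 1))) = 1
      refine mk_bor_scalar ?_
      rw [← pow_mul, show (2 * y - 1) * 2 = Fintype.card F - 1 by omega, ← Nat.card_eq_fintype_card,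
        ← Nat.card_units]
      exact pow_card_eq_one'
    have hα2 : α ^ 2 ≠ 1 := fun e => hom_sq_ne_one hφ1 ⟨y - 1, by omega⟩ hφz (MonoidHom.ext fun u => Units.ext (by
      have h := congrArg (fun c : MulChar F ℂ => c (u : F)) e
      simp only [MulChar.pow_apply_coe, hα, MulChar.ofUnitHom_coe, MulChar.one_apply_coe] at h
      simpa using h))
    have hsc : ∀ e : Fˣ, e ^ 2 = 1 → α (e : F) = 1 := fun e he => by
      rw [hα1, hθ1 ⟨diagHom e, e, rfl⟩ (mk_bor_scalar he), Units.val_one]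
    have hmem : ps α ∈ baseSet C := (mem_baseSet C).mpr (Or.inr (Or.inr (Or.inl ⟨α, hα2, rfl⟩)))
    refine ⟨ps α, isIrr_ps hα2, fun e => ?_, fun e => ?_, fun i => ?_, fun e he => ?_, fun e x he hx => ?_,
      fun a ha h1 => ?_, fun b hb => ?_⟩
    · have h := congrFun e 1
      rw [ps_one] at h
      exact qC_ne (F := F) (by linear_combination h)
    · have h := congrFun e 1
      rw [ps_one, st_one] at h
      exact one_ne_zero (α := ℂ) (by linear_combination h)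
    · fin_cases i
      exacts [(hbase _ hmem).1, (hbase _ hmem).2]
    · rw [ps_bor_scalar α he, hsc e he]; push_cast; ring
    · rw [ps_bor_unip α he hx, hsc e he]; simp
    · exact ps_ell α (ell_of_mem hcard ha h1)
    · obtain ⟨_, u, rfl⟩ := b
      show ps α (bor u 0) = _
      rw [ps_bor_ne α (ns_sq hb) 0, hα1, hα1]
      rw [show (⟨diagHom u⁻¹, u⁻¹, rfl⟩ : (diagHom (F := F)).range) = ⟨diagHom u, u, rfl⟩⁻¹ from
        Subtype.ext (map_inv _ u)]
      simp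

/-- `q ≡ 5 (mod 8)`. -/
theorem tbl_pos {y : ℕ} (hy : Odd y) (hq : Fintype.card F = 4 * y + 1) :
    ∃ T : Tbl F, T.δ = 1 ∧ T.y = y := by
  have hodd : Odd (Fintype.card F) := ⟨2 * y, by omega⟩
  have h2 := SL2Orders.two_ne_zero_of_odd hodd
  obtain ⟨C, hC, hcard⟩ := exists_torus (F := F)
  obtain ⟨H⟩ := nonempty_halves C hC hcard h2
  obtain ⟨hS, hScard⟩ := tor_split (F := F) h2
  have hbase : ∀ χ, χ ∈ baseSet C → χ ≠ H.p₁ ∧ χ ≠ H.p₂ := fun χ hχ =>
    ⟨fun e => Finset.disjoint_left.mp H.not_base hχ (by simp [e]),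
      fun e => Finset.disjoint_left.mp H.not_base hχ (by simp [e])⟩
  have hηA : ∀ u : Fˣ, π (bor u 0) ^ y = 1 ↔ eta F (u : F) = 1 := fun u => by
    rw [mk_pow_eq_one_iff h2, show bor u 0 = diagHom u from rfl, ← map_pow,
      map_eq_one_iff _ (fun a b h => (bor_injective h).1 : Function.Injective (diagHom (F := F))), eta_apply]
    have hsq := FiniteField.isSquare_iff (ringChar_ne h2) u.ne_zero
    rw [show Fintype.card F / 2 = 2 * y by omega] at hsq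
    rw [← Units.val_inj, Units.val_pow_eq_pow_val, Units.val_one, ← hsq,
      ← quadraticChar_one_iff_isSquare u.ne_zero]
    norm_cast
  have hηs : ∀ e : Fˣ, e ^ 2 = 1 → eta F (e : F) = 1 :=
    fun e he => (hηA e).mp (by rw [mk_bor_scalar he, one_pow])
  have hfA : ∀ u : Fˣ, eta F (u : F) = ((1 : ℤ) : ℂ) * if π (bor u 0) ^ y = 1 then 1 else -1 := by
    intro u
    by_cases h : π (bor u 0) ^ y = 1
    · rw [if_pos h, (hηA u).mp h]; simp
    · rw [if_neg h, (eta_unit u).resolve_left fun e => h ((hηA u).mpr e)]; simp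
  refine ⟨{
    δ := 1, y := y, z := 2 * y + 1, hδ := Or.inl rfl, hy := hy
    hq := by omega
    hz := by omega
    A := (diagHom (F := F)).range, B := C
    torA := hS, torB := tor_nonsplit hC hcard
    cardA := by omega
    cardB := by omega
    cases := elem_kinds hC hcard
    f := ![H.p₁, H.p₂]
    f_irr := fun i => by fin_cases i; exacts [H.irr_p₁, H.irr_p₂]
    f_ne := H.p_ne
    f_base := fun i => ?_
    f_deg := fun i => ?_
    f_scalar := fun i e he => ?_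
    f_unip := fun e x he hx => ?_
    f_A := fun i a ha h1 => ?_
    f_B := fun i b hb h1 => ?_
    st_A := fun a ha h1 => ?_
    st_B := fun b hb h1 => ?_
    lin := fun θ hθ hθ1 => ?_ }, rfl, rfl⟩
  · have m1 := hbase _ ((mem_baseSet C).mpr (Or.inl rfl))
    have m2 := hbase st ((mem_baseSet C).mpr (Or.inr (Or.inl rfl)))
    fin_cases i
    exacts [⟨m1.1.symm, m2.1.symm⟩, ⟨m1.2.symm, m2.2.symm⟩]
  · fin_cases i
    · show 2 * H.p₁ 1 = _; rw [H.p₁_one]; push_cast; ring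
    · show 2 * H.p₂ 1 = _; rw [H.p₂_one]; push_cast; ring
  · obtain ⟨e1, e2, -, -⟩ := H.values_scalar hC hcard h2 he
    rw [hηs e he, one_mul] at e1 e2
    fin_cases i
    exacts [e1, e2]
  · show H.p₁ (bor e x) + H.p₂ (bor e x) = _
    rw [← Pi.add_apply, ← H.p_sum, ps_bor_unip _ he hx, hηs e he]
    simp
  · obtain ⟨u, rfl⟩ := ha
    obtain ⟨e1, e2, -, -⟩ := H.values_reg hC hcard h2 (ns_sq h1) 0
    fin_cases i
    exacts [e1.trans (hfA u), e2.trans (hfA u)]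
  · obtain ⟨e1, e2, -, -⟩ := H.values_ell hC hcard h2 ⟨b, hb⟩ (ell_of_mem hcard hb h1)
    fin_cases i
    exacts [e1, e2]
  · obtain ⟨u, rfl⟩ := ha
    show st (bor u 0) = _
    rw [st_bor_ne (ns_sq h1) 0]; simp
  · rw [st_ell (ell_of_mem hcard hb h1)]; simp
  · have hθz : ∀ c : C, θ c ^ (2 * y + 1) = 1 := fun c => by
      rw [← map_pow]
      refine hθ1 _ ?_
      rw [Subgroup.coe_pow, map_pow, mk_pow_eq_one_iff h2, show 2 * (2 * y + 1) = Nat.card C by omega,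
        ← Subgroup.coe_pow, pow_card_eq_one', OneMemClass.coe_one]
    have hθ2 : θ ^ 2 ≠ 1 := hom_sq_ne_one hθ ⟨y, rfl⟩ hθz
    have hmem : ds C θ ∈ baseSet C := (mem_baseSet C).mpr (Or.inr (Or.inr (Or.inr ⟨θ, hθ2, rfl⟩)))
    have hsc : ∀ (e : Fˣ) (he : e ^ 2 = 1), θ ⟨bor e 0, bor_scalar_mem C hC hcard e he⟩ = 1 :=
      fun e he => hθ1 _ (mk_bor_scalar he)
    refine ⟨ds C θ, isIrr_ds C hC hcard hθ2, fun e => ?_, fun e => ?_, fun i => ?_, fun e he => ?_,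
      fun e x he hx => ?_, fun a ha h1 => ?_, fun b hb => ?_⟩
    · have h := congrFun e 1
      rw [ds_one C hC hcard] at h
      have h' : qC = 2 := by linear_combination h
      have : Fintype.card F = 2 := by exact_mod_cast h'
      omega
    · have h := congrFun e 1
      rw [ds_one C hC hcard, st_one] at h
      exact one_ne_zero (α := ℂ) (by linear_combination -h)
    · fin_cases i
      exacts [(hbase _ hmem).1, (hbase _ hmem).2]
    · rw [ds_bor_scalar C hC hcard θ he, hsc e he]; simp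
    · rw [ds_bor_unip C hC hcard θ he hx, hsc e he]; simp
    · obtain ⟨u, rfl⟩ := ha
      exact ds_bor_ne C hcard θ (ns_sq h1) 0
    · rw [ds_ell C hC hcard θ b (ell_of_mem hcard b.2 hb)]; simp

end CfsgLib.JankoThompson
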