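import Cfsg.Agent.Lib.SL2Char.Table
import Cfsg.Agent.Lib.SL2Char.Tori
import Cfsg.Agent.Lib.SCNonCyclic.Psl
import Cfsg.Agent.Lib.CharTheory.Monomial
import Cfsg.Agent.Lib.CharTheory.Schur
import Cfsg.Agent.Lib.JankoThompson.Interface

/-!
Tori of `SL₂(q)` and their images in `PSL₂(q)`, `q` odd: centralisers, inversion, induced functions.
-/

set_option autoImplicit false
set_option linter.unusedSectionVars false
set_option linter.style.haveILetI false

namespace CfsgLib.JankoThompson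

open Matrix Cfsg CfsgLib.CharTheory CfsgLib.SL2Char CfsgLib.SL2Tori

variable {F : Type*} [Field F] [Fintype F] [DecidableEq F]

local notation "SL2" => Matrix.SpecialLinearGroup (Fin 2) F
local notation "PSL" => Matrix.ProjectiveSpecialLinearGroup (Fin 2) F
local notation "π" => (PSL2.mk : SL2 →* PSL)

/-- A maximal torus. -/
structure Tor (A : Subgroup (Matrix.SpecialLinearGroup (Fin 2) F)) : Prop where
  cyc : IsCyclic A
  scalar : ∀ e : Fˣ, e ^ 2 = 1 → bor e 0 ∈ A
  cases : ∀ a ∈ A, (∃ e : Fˣ, e ^ 2 = 1 ∧ a = bor e 0) ∨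
    (a.1.trace ^ 2 ≠ 4 ∧ Subgroup.centralizer ({a} : Set SL2) = A)

theorem mk_surj : Function.Surjective π := QuotientGroup.mk'_surjective _

theorem bor_neg_one_eq : bor (-1 : Fˣ) (0 : F) = (-1 : SL2) :=
  Subtype.ext (by
    show !![(((-1 : Fˣ)) : F), 0; 0, (((-1 : Fˣ)⁻¹ : Fˣ) : F)] = -(1 : Matrix (Fin 2) (Fin 2) F)
    ext i j
    fin_cases i <;> fin_cases j <;> simp)

theorem mk_eq_iff' {g g' : SL2} : π g = π g' ↔ ∃ e : Fˣ, e ^ 2 = 1 ∧ g' = bor e 0 * g := by
  rw [PSL2Klein.mk_eq_iff]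
  constructor
  · rintro (rfl | rfl)
    · exact ⟨1, one_pow 2, by rw [bor_one, one_mul]⟩
    · exact ⟨-1, by simp, by rw [bor_neg_one_eq, neg_mul, one_mul]⟩
  · rintro ⟨e, he, rfl⟩
    rcases (CfsgLib.SL2Borel.units_sq_eq_one _).mp he with rfl | rfl
    · exact Or.inl (by rw [bor_one, one_mul])
    · exact Or.inr (by rw [bor_neg_one_eq, neg_mul, one_mul])

theorem mk_bor_scalar {e : Fˣ} (he : e ^ 2 = 1) : π (bor e 0) = 1 := by
  rw [← map_one π]
  exact (mk_eq_iff'.mpr ⟨e, he, (mul_one _).symm⟩).symm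

theorem mk_eq_one {g : SL2} : π g = 1 ↔ ∃ e : Fˣ, e ^ 2 = 1 ∧ g = bor e 0 := by
  constructor
  · intro h
    obtain ⟨e, he, hg⟩ := mk_eq_iff'.mp ((map_one π).trans h.symm)
    exact ⟨e, he, by rw [hg, mul_one]⟩
  · rintro ⟨e, he, rfl⟩
    exact mk_bor_scalar he

namespace Tor

variable {A : Subgroup (Matrix.SpecialLinearGroup (Fin 2) F)} (hA : Tor A)

include hA

theorem comap_map : (A.map π).comap π = A := by
  refine Subgroup.comap_map_eq_self fun g hg => ?_
  obtain ⟨e, he, rfl⟩ := mk_eq_one.mp hg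
  exact hA.scalar e he

theorem mem_map_iff {g : SL2} : π g ∈ A.map π ↔ g ∈ A := by
  rw [← Subgroup.mem_comap, hA.comap_map]

theorem card_map (hodd : Odd (Fintype.card F)) : 2 * Nat.card (A.map π) = Nat.card A := by
  rw [← SCNonCyclic.card_comap_mk hodd, hA.comap_map]

theorem isCyclic_map : IsCyclic (A.map π) :=
  haveI := hA.cyc
  isCyclic_of_surjective ((π).subgroupMap A) ((π).subgroupMap_surjective A)

theorem regular {a : SL2} (ha : a ∈ A) (h1 : π a ≠ 1) :
    a.1.trace ^ 2 ≠ 4 ∧ Subgroup.centralizer ({a} : Set SL2) = A :=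
  (hA.cases a ha).resolve_left fun h => h1 (mk_eq_one.mpr h)

theorem mem_of_commute {a g : SL2} (ha : a ∈ A) (h1 : π a ≠ 1) (h : Commute g a) : g ∈ A :=
  (hA.regular ha h1).2 ▸ mem_centralizer.mpr h

variable (h2 : (2 : F) ≠ 0)
include h2

/-- Conjugation inside the torus. -/
theorem conj_cases {x g : PSL} (hx : x ∈ A.map π) (hx1 : x ≠ 1) (hg : g * x * g⁻¹ ∈ A.map π) :
    g * x * g⁻¹ = x ∨ g * x * g⁻¹ = x⁻¹ := by
  obtain ⟨a, ha, rfl⟩ := hx
  obtain ⟨g, rfl⟩ := mk_surj g
  rw [← map_inv, ← map_mul, ← map_mul, hA.mem_map_iff] at hg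
  obtain ⟨ht, hc⟩ := hA.regular ha hx1
  rcases conj_mem_cases h2 ht (hc.ge hg) with h | h
  · exact Or.inl (by rw [← map_inv, ← map_mul, ← map_mul, h])
  · exact Or.inr (by rw [← map_inv, ← map_mul, ← map_mul, h, map_inv])

/-- Centralisers of the elements of the torus of order at least three. -/
theorem centralizer_eq {x : PSL} (hx : x ∈ A.map π) (hx2 : x * x ≠ 1) :
    Subgroup.centralizer ({x} : Set PSL) = A.map π := by
  obtain ⟨a, ha, rfl⟩ := hx
  have hx1 : π a ≠ 1 := fun h => hx2 (by rw [h, mul_one])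
  obtain ⟨ht, hc⟩ := hA.regular ha hx1
  ext g
  obtain ⟨g, rfl⟩ := mk_surj g
  rw [Subgroup.mem_centralizer_singleton_iff, hA.mem_map_iff]
  constructor
  · intro hg
    have h1 : g * a * g⁻¹ ∈ A := by
      rw [← hA.mem_map_iff, map_mul, map_mul, map_inv, hg, mul_inv_cancel_right]
      exact Subgroup.mem_map_of_mem _ ha
    rcases conj_mem_cases h2 ht (hc.ge h1) with h | h
    · exact hA.mem_of_commute ha hx1 (mul_inv_eq_iff_eq_mul.mp h)
    · exfalso
      refine hx2 (mul_eq_one_iff_eq_inv.mpr ?_)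
      have h3 := congrArg π h
      rw [map_mul, map_mul, map_inv, map_inv, hg, mul_inv_cancel_right] at h3
      exact h3
  · intro hg
    rw [← map_mul, ← map_mul]
    exact congrArg π (mem_centralizer.mp (hc.ge hg)).eq

theorem exists_inv {x : PSL} (hx : x ∈ A.map π) : ∃ w : PSL, w * x * w⁻¹ = x⁻¹ := by
  by_cases hx1 : x = 1
  · exact ⟨1, by simp [hx1]⟩
  obtain ⟨a, ha, rfl⟩ := hx
  obtain ⟨w, hw⟩ := exists_inverting (hA.regular ha hx1).1
  exact ⟨π w, by rw [← map_inv, ← map_mul, ← map_mul, hw, map_inv]⟩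

/-- An element inverting an element of order at least three is an involution. -/
theorem sq_eq_one_of_inverts {x u : PSL} (hx : x ∈ A.map π) (hx2 : x * x ≠ 1) (hu : u * x * u⁻¹ = x⁻¹) :
    u * u = 1 := by
  obtain ⟨a, ha, rfl⟩ := hx
  have hx1 : π a ≠ 1 := fun h => hx2 (by rw [h, mul_one])
  obtain ⟨ht, hc⟩ := hA.regular ha hx1
  obtain ⟨u, rfl⟩ := mk_surj u
  rw [← map_inv, ← map_mul, ← map_mul, ← map_inv] at hu
  have h1 : u * a * u⁻¹ ∈ A := by
    rw [← hA.mem_map_iff, hu]
    exact Subgroup.mem_map_of_mem _ (A.inv_mem ha)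
  rcases conj_mem_cases h2 ht (hc.ge h1) with h | h
  · exfalso
    rw [h, map_inv] at hu
    exact hx2 (mul_eq_one_iff_eq_inv.mpr hu)
  have hne : u * a * u⁻¹ ≠ a := fun e => ne_inv h2 ht (e.symm.trans h)
  have h4 : Commute (u * u) a := by
    refine mul_inv_eq_iff_eq_mul.mp ?_
    calc u * u * a * (u * u)⁻¹ = u * (u * a * u⁻¹) * u⁻¹ := by group
      _ = u * a⁻¹ * u⁻¹ := by rw [h]
      _ = (u * a * u⁻¹)⁻¹ := by group
      _ = a := by rw [h, inv_inv]
  have h5 : u * u ∈ A := hA.mem_of_commute ha hx1 h4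
  rw [← map_mul]
  by_contra h6
  exact hne (mul_inv_eq_iff_eq_mul.mpr
    (mem_centralizer.mp (hc.ge (hA.mem_of_commute h5 h6 ((Commute.refl u).mul_right (Commute.refl u))))).eq)

/-- Inverting involutions. -/
theorem invCount_eq {x : PSL} (hx : x ∈ A.map π) (hx2 : x * x ≠ 1) :
    invCount x = Nat.card (A.map π) := by
  obtain ⟨w, hw⟩ := hA.exists_inv h2 hx
  have hx1 : x ≠ x⁻¹ := fun e => hx2 (mul_eq_one_iff_eq_inv.mpr e)
  have hkey : ∀ u : PSL, (orderOf u = 2 ∧ u * x * u⁻¹ = x⁻¹) ↔ w⁻¹ * u ∈ A.map π := by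
    intro u
    rw [← hA.centralizer_eq h2 hx hx2, Subgroup.mem_centralizer_singleton_iff]
    constructor
    · rintro ⟨-, hu⟩
      refine mul_inv_eq_iff_eq_mul.mp ?_
      calc w⁻¹ * u * x * (w⁻¹ * u)⁻¹ = w⁻¹ * (u * x * u⁻¹) * w := by group
        _ = w⁻¹ * (w * x * w⁻¹) * w := by rw [hu, hw]
        _ = x := by group
    · intro h
      have hu : u * x * u⁻¹ = x⁻¹ := by
        calc u * x * u⁻¹ = w * (w⁻¹ * u * x) * (w⁻¹ * u)⁻¹ * w⁻¹ := by group
          _ = w * x * w⁻¹ := by rw [h]; group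
          _ = x⁻¹ := hw
      refine ⟨?_, hu⟩
      refine orderOf_eq_prime (by rw [pow_two]; exact hA.sq_eq_one_of_inverts h2 hx hx2 hu) fun e => hx1 ?_
      rw [e, one_mul, inv_one, mul_one] at hu
      exact hu
  rw [invCount]
  exact Nat.card_congr ((Equiv.mulLeft w⁻¹).subtypeEquiv hkey)

/-- Values of functions induced from a subgroup of the torus. -/
theorem indFun_apply (B : Subgroup PSL) (hB : B ≤ A.map π) (θ : B → ℂ) (x : B) (hx2 : (x : PSL) * x ≠ 1) :
    indFun B θ x = (Nat.card (A.map π) : ℂ) / (Nat.card B : ℂ) * (θ x + θ x⁻¹) := by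
  classical
  have hne : (x : PSL) ≠ (x : PSL)⁻¹ := fun e => hx2 (mul_eq_one_iff_eq_inv.mpr e)
  obtain ⟨w, hw⟩ := hA.exists_inv h2 (hB x.2)
  have hv : ∀ g : PSL, extendByZero B θ (g⁻¹ * (x : PSL) * g) =
      θ x * (if g⁻¹ * (x : PSL) * g = x then 1 else 0) +
        θ x⁻¹ * (if g⁻¹ * (x : PSL) * g = (x : PSL)⁻¹ then 1 else 0) := by
    intro g
    by_cases hm : g⁻¹ * (x : PSL) * g ∈ B
    · rw [extendByZero_of_mem _ _ hm]
      have h := hA.conj_cases h2 (hB x.2) (fun e => hx2 (by rw [e, mul_one]))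
        (g := g⁻¹) (by rw [inv_inv]; exact hB hm)
      rw [inv_inv] at h
      rcases h with h | h
      · rw [if_pos h, if_neg (fun h2 => hne (h.symm.trans h2)), mul_one, mul_zero, add_zero,
          show (⟨_, hm⟩ : B) = x from Subtype.ext h]
      · rw [if_pos h, if_neg (fun h2 => hne (h2.symm.trans h)), mul_one, mul_zero, zero_add,
          show (⟨_, hm⟩ : B) = x⁻¹ from Subtype.ext h]
    · rw [extendByZero_of_not_mem _ _ hm, if_neg, if_neg, mul_zero, mul_zero, add_zero]
      · exact fun h => hm (h.symm ▸ B.inv_mem x.2)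
      · exact fun h => hm (h.symm ▸ x.2)
  have hcount : ∀ k : PSL, (∑ g : PSL, if g⁻¹ * (x : PSL) * g = k * x * k⁻¹ then (1 : ℂ) else 0) =
      (Nat.card (A.map π) : ℂ) := by
    intro k
    rw [Finset.sum_boole, ← Fintype.card_subtype, ← Nat.card_eq_fintype_card,
      ← hA.centralizer_eq h2 (hB x.2) hx2]
    refine congrArg _ (Nat.card_congr (Equiv.subtypeEquiv (Equiv.mulRight k) fun g => ?_))
    rw [Equiv.coe_mulRight, Subgroup.mem_centralizer_singleton_iff]
    constructor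
    · intro h
      calc g * k * x = g * (k * x * k⁻¹) * k := by group
        _ = g * (g⁻¹ * x * g) * k := by rw [h]
        _ = (x : PSL) * (g * k) := by group
    · intro h
      calc g⁻¹ * (x : PSL) * g = g⁻¹ * ((x : PSL) * (g * k)) * k⁻¹ := by group
        _ = g⁻¹ * (g * k * x) * k⁻¹ := by rw [h]
        _ = k * x * k⁻¹ := by group
  have h1 := hcount 1
  rw [one_mul, inv_one, mul_one] at h1
  have h3 := hcount w
  rw [hw] at h3
  simp only [indFun, hv, Finset.sum_add_distrib, ← Finset.mul_sum, h1, h3]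
  ring

/-- The centraliser of an involution of the torus. -/
theorem card_centralizer_invol (hodd : Odd (Fintype.card F)) {x : PSL} (hx : x ∈ A.map π) (hx1 : orderOf x = 2) :
    Nat.card (Subgroup.centralizer ({x} : Set PSL)) = Nat.card A := by
  have hxne : x ≠ 1 := fun e => by rw [e, orderOf_one] at hx1; omega
  have hxx : x * x = 1 := by rw [← pow_two]; exact orderOf_dvd_iff_pow_eq_one.mp hx1.dvd
  obtain ⟨a, ha, rfl⟩ := hx
  obtain ⟨ht, hc⟩ := hA.regular ha hxne
  have h1 : (Subgroup.centralizer ({π a} : Set PSL)).comap π =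
      Subgroup.normalizer (Subgroup.centralizer ({a} : Set SL2) : Set SL2) := by
    ext g
    rw [Subgroup.mem_comap, Subgroup.mem_centralizer_singleton_iff]
    constructor
    · intro hg
      have h1 : g * a * g⁻¹ ∈ A := by
        rw [← hA.mem_map_iff, map_mul, map_mul, map_inv, hg, mul_inv_cancel_right]
        exact Subgroup.mem_map_of_mem _ ha
      exact mem_normalizer_centralizer (conj_mem_cases h2 ht (hc.ge h1))
    · intro hg
      have h3 := (Subgroup.mem_normalizer_iff.mp hg a).mp (mem_centralizer.mpr (Commute.refl a))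
      have h4 : π g * π a * (π g)⁻¹ = π a := by
        rcases conj_mem_cases h2 ht h3 with h | h
        · rw [← map_inv, ← map_mul, ← map_mul, h]
        · rw [← map_inv, ← map_mul, ← map_mul, h, map_inv]
          exact inv_eq_of_mul_eq_one_left hxx
      exact mul_inv_eq_iff_eq_mul.mp h4
  have h3 := SCNonCyclic.card_comap_mk hodd (Subgroup.centralizer ({π a} : Set PSL))
  rw [h1, card_normalizer h2 ht, hc] at h3
  omega

end Tor

/-- The split torus. -/
theorem tor_split (_h2 : (2 : F) ≠ 0) :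
    Tor (diagHom (F := F)).range ∧ Nat.card (diagHom (F := F)).range = Fintype.card F - 1 := by
  have hinj : Function.Injective (diagHom (F := F)) := fun a b h => (bor_injective h).1
  have hcard : Nat.card (diagHom (F := F)).range = Fintype.card F - 1 := by
    rw [← Nat.card_congr (MonoidHom.ofInjective hinj).toEquiv, Nat.card_units, Nat.card_eq_fintype_card]
  refine ⟨⟨isCyclic_of_surjective _ (diagHom (F := F)).rangeRestrict_surjective, fun e _ => ⟨e, rfl⟩, ?_⟩, hcard⟩
  rintro _ ⟨a, rfl⟩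
  by_cases ha : a ^ 2 = 1
  · exact Or.inl ⟨a, ha, rfl⟩
  · refine Or.inr ⟨bor_trace_sq a ha 0, ?_⟩
    refine (Subgroup.eq_of_le_of_card_ge ?_ (by rw [hcard]; exact (card_centralizer_bor ha 0).le)).symm
    rintro _ ⟨b, rfl⟩
    refine mem_centralizer.mpr ?_
    show diagHom b * diagHom a = diagHom a * diagHom b
    rw [← map_mul, ← map_mul, mul_comm]

/-- The non-split torus. -/
theorem tor_nonsplit {C : Subgroup SL2} (hC : IsCyclic C) (hcard : Nat.card C = Fintype.card F + 1) : Tor C := by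
  refine ⟨hC, bor_scalar_mem C hC hcard, fun a ha => ?_⟩
  rcases torus_cases C hcard ha with h | h
  · exact Or.inr ⟨ell_trace h, SL2Char.centralizer_eq C hC hcard ha h⟩
  · exact Or.inl h

end CfsgLib.JankoThompson
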