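import Cfsg.Agent.Lib.JankoThompson.Rem

/-!
The supports of the three columns `va`, `vb 0`, `vb 1`: two configurations.
-/

set_option autoImplicit false
set_option linter.unusedSectionVars false
set_option linter.style.haveILetI false

namespace CfsgLib.JankoThompson

open Cfsg CfsgLib CfsgLib.CharTheory

universe u v

section General

variable {I : Type*} [Fintype I]

/-- A vector with four non-zero entries, at the given places, each of them `±1`. -/
structure Supp4 (f : I → ℤ) (a b c d : I) : Prop where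
  ab : a ≠ b
  ac : a ≠ c
  ad : a ≠ d
  bc : b ≠ c
  bd : b ≠ d
  cd : c ≠ d
  ha : f a = 1 ∨ f a = -1
  hb : f b = 1 ∨ f b = -1
  hc : f c = 1 ∨ f c = -1
  hd : f d = 1 ∨ f d = -1
  cov : ∀ x, f x ≠ 0 → x = a ∨ x = b ∨ x = c ∨ x = d

namespace Supp4

variable {f : I → ℤ} {a b c d : I}

theorem swap12 (h : Supp4 f a b c d) : Supp4 f b a c d :=
  ⟨h.ab.symm, h.bc, h.bd, h.ac, h.ad, h.cd, h.hb, h.ha, h.hc, h.hd,
    fun x hx => by rcases h.cov x hx with r | r | r | r <;> simp [r]⟩

theorem swap34 (h : Supp4 f a b c d) : Supp4 f a b d c :=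
  ⟨h.ab, h.ad, h.ac, h.bd, h.bc, h.cd.symm, h.ha, h.hb, h.hd, h.hc,
    fun x hx => by rcases h.cov x hx with r | r | r | r <;> simp [r]⟩

theorem sum_eq {R : Type*} [CommRing R] (h : Supp4 f a b c d) (g : I → R) :
    ∑ x, (f x : R) * g x = f a * g a + f b * g b + f c * g c + f d * g d := by
  classical
  rw [← Finset.sum_subset (Finset.subset_univ ({a, b, c, d} : Finset I))]
  · simp [h.ab, h.ac, h.ad, h.bc, h.bd, h.cd, add_assoc]
  · intro x _ hx
    by_contra hne
    have hfx : f x ≠ 0 := fun e => hne (by rw [e, Int.cast_zero, zero_mul])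
    rcases h.cov x hfx with r | r | r | r <;> simp [r] at hx

theorem dot_eq (h : Supp4 f a b c d) (g : I → ℤ) :
    dotI f g = f a * g a + f b * g b + f c * g c + f d * g d := by
  have := h.sum_eq g
  simpa [dotI] using this

end Supp4

variable [DecidableEq I]

/-- The support. -/
def supp (f : I → ℤ) : Finset I := Finset.univ.filter fun x => f x ≠ 0

theorem mem_supp {f : I → ℤ} {x : I} : x ∈ supp f ↔ f x ≠ 0 := by simp [supp]

theorem entries_four {D f : I → ℤ} (hD : ∀ i, 0 < D i) (hn : dotI f f = 4) (hd : dotI f D = 0) :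
    (∀ x, f x = 0 ∨ f x = 1 ∨ f x = -1) ∧ (supp f).card = 4 := by
  have hone : ∀ x, f x = 0 ∨ f x = 1 ∨ f x = -1 := by
    intro x
    have h1 := Finset.single_le_sum (f := fun j => f j * f j) (fun j _ => mul_self_nonneg _)
      (Finset.mem_univ x)
    rw [← dotI, hn] at h1
    have ha : f x ≤ 2 := by nlinarith
    have hb : -2 ≤ f x := by nlinarith
    have hz : ∀ (e : f x = 2 ∨ f x = -2), False := by
      intro e
      have h0 : ∀ y, y ≠ x → f y = 0 := fun y hy => by
        have h2 := Finset.sum_le_sum_of_subset_of_nonneg (f := fun j => f j * f j)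
          (Finset.subset_univ ({y, x} : Finset I)) (fun j _ _ => mul_self_nonneg _)
        rw [Finset.sum_pair hy, ← dotI, hn] at h2
        rcases e with e | e <;> rw [e] at h2 <;>
          exact mul_self_eq_zero.1 (le_antisymm (by linarith) (mul_self_nonneg _))
      rw [dotI, Finset.sum_eq_single x (fun y _ hy => by rw [h0 y hy, zero_mul]) (by simp)] at hd
      have := hD x
      rcases e with e | e <;> rw [e] at hd <;> omega
    by_cases e2 : f x = 2
    · exact (hz (Or.inl e2)).elim
    by_cases e3 : f x = -2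
    · exact (hz (Or.inr e3)).elim
    omega
  refine ⟨hone, ?_⟩
  have h : ∀ x, f x * f x = if f x ≠ 0 then (1 : ℤ) else 0 := fun x => by
    rcases hone x with h | h | h <;> simp [h]
  rw [dotI, Finset.sum_congr rfl fun x _ => h x, Finset.sum_boole] at hn
  exact_mod_cast hn

theorem common_two {D f g : I → ℤ} (hD : ∀ i, 0 < D i) (hf : ∀ x, f x = 0 ∨ f x = 1 ∨ f x = -1)
    (hg : ∀ x, g x = 0 ∨ g x = 1 ∨ g x = -1) (hfc : (supp f).card = 4) (hgc : (supp g).card = 4)
    (hfd : dotI f D = 0) (hgd : dotI g D = 0) (h : dotI f g = 2) :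
    (supp f ∩ supp g).card = 2 ∧ ∀ x, f x ≠ 0 → g x ≠ 0 → f x = g x := by
  set S := supp f ∩ supp g with hS
  set M := S.filter fun x => f x ≠ g x with hM
  have hterm : ∀ x, f x * g x = (if x ∈ S then (1 : ℤ) else 0) - 2 * (if x ∈ M then 1 else 0) := fun x => by
    rcases hf x with a | a | a <;> rcases hg x with b | b | b <;> simp [hM, hS, mem_supp, a, b]
  have e : (S.card : ℤ) - 2 * M.card = 2 := by
    have h' := h
    rw [dotI, Finset.sum_congr rfl fun x _ => hterm x, Finset.sum_sub_distrib, ← Finset.mul_sum,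
      Finset.sum_boole, Finset.sum_boole] at h'
    simpa using h'
  have hle : S.card ≤ 4 := (Finset.card_le_card Finset.inter_subset_left).trans hfc.le
  have hMS : M.card ≤ S.card := Finset.card_filter_le _ _
  by_cases hm : M.card = 0
  · refine ⟨by omega, fun x hx hx' => ?_⟩
    by_contra hne
    have hxM : x ∈ M := by simp [hM, hS, mem_supp, hx, hx', hne]
    rw [Finset.card_eq_zero.1 hm] at hxM
    simp at hxM
  · exfalso
    have h4 : S.card = 4 := by omega
    obtain ⟨w, hw⟩ := Finset.card_eq_one.1 (show M.card = 1 by omega)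
    have h1 : S = supp f := Finset.eq_of_subset_of_card_le Finset.inter_subset_left (by omega)
    have h2 : S = supp g := Finset.eq_of_subset_of_card_le Finset.inter_subset_right (by omega)
    have hdiff : ∀ x, x ≠ w → f x = g x := by
      intro x hx
      have hnot : x ∉ M := by simp [hw, hx]
      by_cases hxS : x ∈ S
      · simpa [hM, hxS] using hnot
      · have a : f x = 0 := by simpa [h1, mem_supp] using hxS
        have b : g x = 0 := by simpa [h2, mem_supp] using hxS
        rw [a, b]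
    have hwne : f w ≠ g w := by
      have : w ∈ M := by simp [hw]
      exact (Finset.mem_filter.1 this).2
    have hsum : dotI (fun x => f x - g x) D = 0 := by rw [dotI_sub_left, hfd, hgd, sub_zero]
    rw [dotI, Finset.sum_eq_single w (fun x _ hx => by simp [hdiff x hx]) (by simp)] at hsum
    exact hwne (sub_eq_zero.1 ((mul_eq_zero.1 hsum).resolve_right (hD w).ne'))

theorem supp4_of {f : I → ℤ} {a b c d : I} (hf : ∀ x, f x = 0 ∨ f x = 1 ∨ f x = -1)
    (h : supp f = {a, b, c, d}) (hc : (supp f).card = 4) : Supp4 f a b c d := by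
  have hne : ∀ {x}, x ∈ ({a, b, c, d} : Finset I) → f x = 1 ∨ f x = -1 := fun {x} hx => by
    rw [← h, mem_supp] at hx
    exact (hf x).resolve_left hx
  rw [h] at hc
  have k : ∀ x y z : I, ({a, b, c, d} : Finset I) ⊆ {x, y, z} → False := fun x y z hs => by
    have := (Finset.card_le_card hs).trans Finset.card_le_three
    omega
  refine ⟨fun e => k b c d ?_, fun e => k b c d ?_, fun e => k b c d ?_, fun e => k a c d ?_,
    fun e => k a c d ?_, fun e => k a b d ?_, hne (by simp), hne (by simp), hne (by simp), hne (by simp),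
    fun x hx => by have hm : x ∈ supp f := mem_supp.2 hx; rw [h] at hm; simpa using hm⟩ <;>
  · intro x hx
    simp only [Finset.mem_insert, Finset.mem_singleton] at hx ⊢
    rcases hx with r | r | r | r <;> simp [r, e]

end General

namespace Cfg

variable {G : Type u} [Group G] [Fintype G] {L : Type v} [Group L] [Fintype L] (C : Cfg G L)

/-- Configuration (i): two characters in all three columns. -/
structure Conf1 (C : Cfg G L) (u v z : IrrCharacter G) (r s : Fin 2 → IrrCharacter G) : Prop where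
  sA : Supp4 C.va u v (Blocks.oneIrr G) z
  sB : ∀ i, Supp4 (C.vb i) u v (r i) (s i)
  u_eq : ∀ i, C.vb i u = C.va u
  v_eq : ∀ i, C.vb i v = C.va v
  z_b : ∀ i, C.vb i z = 0
  r_a : ∀ i, C.va (r i) = 0
  s_a : ∀ i, C.va (s i) = 0
  r_b : ∀ i j, i ≠ j → C.vb j (r i) = 0
  s_b : ∀ i j, i ≠ j → C.vb j (s i) = 0

/-- Configuration (ii): one character in all three columns. -/
structure Conf2 (C : Cfg G L) (u v : IrrCharacter G) (r s : Fin 2 → IrrCharacter G) : Prop where
  sA : Supp4 C.va u (Blocks.oneIrr G) (r 0) (r 1)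
  sB : ∀ i, Supp4 (C.vb i) u v (r i) (s i)
  u_eq : ∀ i, C.vb i u = C.va u
  v_eq : C.vb 1 v = C.vb 0 v
  v_a : C.va v = 0
  r_eq : ∀ i, C.vb i (r i) = C.va (r i)
  s_a : ∀ i, C.va (s i) = 0
  r_b : ∀ i j, i ≠ j → C.vb j (r i) = 0
  s_b : ∀ i j, i ≠ j → C.vb j (s i) = 0

theorem fin2_cases {i j : Fin 2} (h : i ≠ j) : (i = 0 ∧ j = 1) ∨ (i = 1 ∧ j = 0) := by
  revert i j
  decide

theorem exists_conf : (∃ u v z r s, Conf1 C u v z r s) ∨ ∃ u v r s, Conf2 C u v r s := by
  classical
  have hD : ∀ χ, 0 < C.deg χ := fun χ => (C.deg_spec χ).2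
  obtain ⟨ea, ca⟩ := entries_four hD C.va_va C.va_deg
  have eb' : ∀ i, (∀ x, C.vb i x = 0 ∨ C.vb i x = 1 ∨ C.vb i x = -1) ∧ (supp (C.vb i)).card = 4 :=
    fun i => entries_four hD (by rw [C.vb_vb, if_pos rfl]) (C.vb_deg i)
  have hab := fun i => common_two hD ea (eb' i).1 ca (eb' i).2 C.va_deg (C.vb_deg i) (C.va_vb i)
  have hbb := common_two hD (eb' 0).1 (eb' 1).1 (eb' 0).2 (eb' 1).2 (C.vb_deg 0) (C.vb_deg 1)
    (by rw [C.vb_vb, if_neg (by decide)])
  set A := supp C.va with hA
  set B := fun i => supp (C.vb i) with hB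
  set e := Blocks.oneIrr G with he
  have heA : e ∈ A := by rw [hA, mem_supp, C.va_one]; norm_num
  have heB : ∀ i, e ∉ B i := fun i => by simp [hB, mem_supp, C.vb_one, he]
  have hvb : ∀ i x, x ∈ B i ↔ C.vb i x ≠ 0 := fun i x => mem_supp
  have hva : ∀ x, x ∈ A ↔ C.va x ≠ 0 := fun x => mem_supp
  have hB01 : (B 0 ∩ B 1).card = 2 := hbb.1
  have hAB : ∀ i, (A ∩ B i).card = 2 := fun i => (hab i).1
  set T := A ∩ B 0 ∩ (A ∩ B 1) with hT
  have hTle : T.card ≤ 2 := (Finset.card_le_card Finset.inter_subset_left).trans (hAB 0).le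
  have hU : ((A ∩ B 0) ∪ (A ∩ B 1)).card + T.card = 4 := by
    rw [hT, Finset.card_union_add_card_inter, hAB, hAB]
  have hUA : (A ∩ B 0) ∪ (A ∩ B 1) ⊆ A.erase e := fun x hx => by
    simp only [Finset.mem_union, Finset.mem_inter] at hx
    refine Finset.mem_erase.2 ⟨fun e' => ?_, ?_⟩
    · subst e'
      rcases hx with h | h <;> exact heB _ h.2
    · rcases hx with h | h <;> exact h.1
  have hTpos : 1 ≤ T.card := by
    have := Finset.card_le_card hUA
    rw [Finset.card_erase_of_mem heA, ca] at this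
    omega
  have hTB : T ⊆ B 0 ∩ B 1 := fun x hx => by
    simp only [hT, Finset.mem_inter] at hx ⊢
    exact ⟨hx.1.2, hx.2.2⟩
  rcases eq_or_ne T.card 2 with h2 | h2
  · left
    obtain ⟨u, v, huv, hTuv⟩ := Finset.card_eq_two.1 h2
    have hA0 : T = A ∩ B 0 := Finset.eq_of_subset_of_card_le Finset.inter_subset_left (by rw [hAB, h2])
    have hA1 : T = A ∩ B 1 := Finset.eq_of_subset_of_card_le Finset.inter_subset_right (by rw [hAB, h2])
    have hB' : T = B 0 ∩ B 1 := Finset.eq_of_subset_of_card_le hTB (by rw [hB01, h2])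
    have hAi : ∀ i, A ∩ B i = {u, v} := fun i => by
      fin_cases i
      · exact hA0.symm.trans hTuv
      · exact hA1.symm.trans hTuv
    have memuv : ∀ x ∈ ({u, v} : Finset (IrrCharacter G)), x ∈ A ∧ ∀ i, x ∈ B i := fun x hx =>
      ⟨(Finset.mem_inter.1 ((hAi 0).symm ▸ hx : x ∈ A ∩ B 0)).1,
        fun i => (Finset.mem_inter.1 ((hAi i).symm ▸ hx : x ∈ A ∩ B i)).2⟩
    have hu := memuv u (by simp)
    have hv := memuv v (by simp)
    have hsubA : ({u, v} : Finset (IrrCharacter G)) ⊆ A := fun x hx => (memuv x hx).1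
    have heuv : e ∉ ({u, v} : Finset (IrrCharacter G)) := fun h => heB 0 ((memuv e h).2 0)
    have hrest : (A \ {u, v}).card = 2 := by
      rw [Finset.card_sdiff_of_subset hsubA, ca, Finset.card_pair huv]
    obtain ⟨z, hz⟩ := Finset.card_eq_one.1 (show ((A \ {u, v}).erase e).card = 1 by
      rw [Finset.card_erase_of_mem (Finset.mem_sdiff.2 ⟨heA, heuv⟩), hrest])
    have hzmem : z ∈ A ∧ z ≠ u ∧ z ≠ v ∧ z ≠ e := by
      have : z ∈ (A \ {u, v}).erase e := by simp [hz]
      simp only [Finset.mem_erase, Finset.mem_sdiff, Finset.mem_insert, Finset.mem_singleton, not_or] at this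
      exact ⟨this.2.1, this.2.2.1, this.2.2.2, this.1⟩
    have hAeq : A = {u, v, e, z} := by
      ext x
      simp only [Finset.mem_insert, Finset.mem_singleton]
      constructor
      · intro hx
        by_contra hh
        push Not at hh
        have : x ∈ (A \ {u, v}).erase e := by simp [hx, hh.1, hh.2.1, hh.2.2.1]
        rw [hz, Finset.mem_singleton] at this
        exact hh.2.2.2 this
      · rintro (rfl | rfl | rfl | rfl)
        exacts [hu.1, hv.1, heA, hzmem.1]
    have hBsub : ∀ i, ({u, v} : Finset (IrrCharacter G)) ⊆ B i := fun i x hx => (memuv x hx).2 i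
    have hBrest : ∀ i, ∃ r s, B i \ {u, v} = {r, s} := fun i => by
      obtain ⟨r, s, -, h⟩ := Finset.card_eq_two.1 (show (B i \ {u, v}).card = 2 by
        rw [Finset.card_sdiff_of_subset (hBsub i), (eb' i).2, Finset.card_pair huv])
      exact ⟨r, s, h⟩
    choose r s hrs using hBrest
    have hBeq : ∀ i, B i = {u, v, r i, s i} := fun i => by
      rw [← Finset.sdiff_union_of_subset (hBsub i), hrs i]
      ext x
      simp only [Finset.mem_union, Finset.mem_insert, Finset.mem_singleton]
      tauto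
    have hout : ∀ i, ∀ x ∈ ({r i, s i} : Finset (IrrCharacter G)),
        C.va x = 0 ∧ ∀ j, i ≠ j → C.vb j x = 0 := fun i x hx => by
      rw [← hrs i, Finset.mem_sdiff] at hx
      refine ⟨?_, fun j hj => ?_⟩
      · by_contra h
        exact hx.2 (hAi i ▸ Finset.mem_inter.2 ⟨(hva x).2 h, hx.1⟩)
      · by_contra h
        refine hx.2 (hTuv ▸ hB' ▸ Finset.mem_inter.2 ?_)
        rcases fin2_cases hj with ⟨rfl, rfl⟩ | ⟨rfl, rfl⟩
        exacts [⟨hx.1, (hvb _ x).2 h⟩, ⟨(hvb _ x).2 h, hx.1⟩]
    refine ⟨u, v, z, r, s, supp4_of ea hAeq ca, fun i => supp4_of (eb' i).1 (hBeq i) (eb' i).2,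
      fun i => ((hab i).2 u ((hva u).1 hu.1) ((hvb i u).1 (hu.2 i))).symm,
      fun i => ((hab i).2 v ((hva v).1 hv.1) ((hvb i v).1 (hv.2 i))).symm, fun i => ?_,
      fun i => (hout i _ (by simp)).1, fun i => (hout i _ (by simp)).1,
      fun i j => (hout i _ (by simp)).2 j, fun i j => (hout i _ (by simp)).2 j⟩
    by_contra h
    have : z ∈ A ∩ B i := Finset.mem_inter.2 ⟨hzmem.1, (hvb i z).2 h⟩
    rw [hAi] at this
    simp [hzmem.2.1, hzmem.2.2.1] at this
  · right
    obtain ⟨u, hTu⟩ := Finset.card_eq_one.1 (show T.card = 1 by omega)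
    have huT : u ∈ T := by simp [hTu]
    have huA : u ∈ A := (Finset.mem_inter.1 (Finset.mem_inter.1 huT).1).1
    have huB : ∀ i, u ∈ B i := fun i => by
      have h := Finset.mem_inter.1 (hTB huT)
      fin_cases i
      exacts [h.1, h.2]
    have hone : ∀ i, ∃ r, (A ∩ B i).erase u = {r} := fun i => Finset.card_eq_one.1 (by
      rw [Finset.card_erase_of_mem (Finset.mem_inter.2 ⟨huA, huB i⟩), hAB])
    choose r hr using hone
    obtain ⟨v, hv⟩ := Finset.card_eq_one.1 (show ((B 0 ∩ B 1).erase u).card = 1 by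
      rw [Finset.card_erase_of_mem (hTB huT), hB01])
    have hrm : ∀ i, r i ≠ u ∧ r i ∈ A ∧ r i ∈ B i := fun i => by
      have h : r i ∈ (A ∩ B i).erase u := by simp [hr i]
      simpa [and_assoc] using h
    have hvm : v ≠ u ∧ v ∈ B 0 ∧ v ∈ B 1 := by
      have h : v ∈ (B 0 ∩ B 1).erase u := by simp [hv]
      simpa [and_assoc] using h
    have honly : ∀ x, x ∈ A → x ∈ B 0 → x ∈ B 1 → x = u := fun x a b c => by
      have : x ∈ T := by simp [hT, a, b, c]
      simpa [hTu] using this
    have hrj : ∀ i j, i ≠ j → r i ∉ B j := fun i j hij h => by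
      refine (hrm i).1 (honly _ (hrm i).2.1 ?_ ?_)
      all_goals
        rcases fin2_cases hij with ⟨rfl, rfl⟩ | ⟨rfl, rfl⟩
        all_goals first | exact (hrm _).2.2 | exact h
    have hr01 : r 0 ≠ r 1 := fun h => hrj 0 1 (by decide) (h ▸ (hrm 1).2.2)
    have hre : ∀ i, r i ≠ e := fun i h => heB i (h ▸ (hrm i).2.2)
    have hue : u ≠ e := fun h => heB 0 (h ▸ huB 0)
    have hAeq : A = {u, e, r 0, r 1} := by
      refine (Finset.eq_of_subset_of_card_le ?_ ?_).symm
      · simp [Finset.insert_subset_iff, huA, heA, (hrm _).2.1]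
      · rw [ca]
        simp [hue, (hrm 0).1.symm, (hrm 1).1.symm, (hre 0).symm, (hre 1).symm, hr01]
    have hvr : ∀ i, v ≠ r i := fun i h => by
      subst h
      exact hvm.1 (honly _ (hrm i).2.1 hvm.2.1 hvm.2.2)
    have hBrest : ∀ i, ∃ s, B i \ {u, v, r i} = {s} := fun i => Finset.card_eq_one.1 (by
      have hv' : v ∈ B i := by fin_cases i; exacts [hvm.2.1, hvm.2.2]
      rw [Finset.card_sdiff_of_subset (by simp [Finset.insert_subset_iff, huB i, hv', (hrm i).2.2]), (eb' i).2]
      simp [hvm.1.symm, (hrm i).1.symm, hvr i])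
    choose s hs using hBrest
    have hBeq : ∀ i, B i = {u, v, r i, s i} := fun i => by
      have hv' : v ∈ B i := by fin_cases i; exacts [hvm.2.1, hvm.2.2]
      rw [← Finset.sdiff_union_of_subset (show ({u, v, r i} : Finset (IrrCharacter G)) ⊆ B i by
        simp [Finset.insert_subset_iff, huB i, hv', (hrm i).2.2]), hs i]
      ext x
      simp only [Finset.mem_union, Finset.mem_insert, Finset.mem_singleton]
      tauto
    have hsm : ∀ i, s i ∈ B i ∧ s i ≠ u ∧ s i ≠ v ∧ s i ≠ r i := fun i => by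
      have h : s i ∈ B i \ {u, v, r i} := by simp [hs i]
      simpa [not_or] using h
    refine ⟨u, v, r, s, supp4_of ea hAeq ca, fun i => supp4_of (eb' i).1 (hBeq i) (eb' i).2,
      fun i => ((hab i).2 u ((hva u).1 huA) ((hvb i u).1 (huB i))).symm,
      (hbb.2 v ((hvb 0 v).1 hvm.2.1) ((hvb 1 v).1 hvm.2.2)).symm, ?_,
      fun i => ((hab i).2 _ ((hva _).1 (hrm i).2.1) ((hvb i _).1 (hrm i).2.2)).symm,
      fun i => ?_, fun i j hij => ?_, fun i j hij => ?_⟩
    · by_contra h
      exact hvm.1 (honly v ((hva v).2 h) hvm.2.1 hvm.2.2)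
    · by_contra h
      have : s i ∈ (A ∩ B i).erase u := by simp [(hva _).2 h, hsm i]
      rw [hr i, Finset.mem_singleton] at this
      exact (hsm i).2.2.2 this
    · by_contra h
      exact hrj i j hij ((hvb j _).2 h)
    · by_contra h
      have : s i ∈ (B 0 ∩ B 1).erase u := by
        rcases fin2_cases hij with ⟨rfl, rfl⟩ | ⟨rfl, rfl⟩ <;> simp [(hvb _ _).2 h, hsm _]
      rw [hv, Finset.mem_singleton] at this
      exact (hsm i).2.2.1 this

end Cfg

end CfsgLib.JankoThompson
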