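import Cfsg.Agent.Lib.JankoThompson.Gram

/-!
The quartets of exceptional characters and the common remainder of the vectors.
-/

set_option autoImplicit false
set_option linter.unusedSectionVars false
set_option linter.style.haveILetI false

namespace CfsgLib.JankoThompson

open Cfsg CfsgLib CfsgLib.CharTheory

universe u v

section Vectors

variable {I : Type*} [Fintype I]

theorem eq_zero_of_dotI_self {v : I → ℤ} (h : dotI v v = 0) (i : I) : v i = 0 := by
  by_contra hi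
  have h1 := Finset.single_le_sum (f := fun j => v j * v j) (fun j _ => mul_self_nonneg _)
    (Finset.mem_univ i)
  rw [← dotI, h] at h1
  exact hi (mul_self_eq_zero.1 (le_antisymm h1 (mul_self_nonneg _)))

variable [DecidableEq I] {D : I → ℤ} (hD : ∀ i, 0 < D i)

include hD in
/-- A vector of norm two orthogonal to positive weights is a difference of two unit vectors. -/
theorem exists_pair {v : I → ℤ} (h2 : dotI v v = 2) (hd : dotI v D = 0) :
    ∃ p r, p ≠ r ∧ D p = D r ∧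
      ∀ i, v i = (if i = p then 1 else 0) - (if i = r then 1 else 0) := by
  have hone : ∀ i, v i = 0 ∨ v i = 1 ∨ v i = -1 := by
    intro i
    have h1 := Finset.single_le_sum (f := fun j => v j * v j) (fun j _ => mul_self_nonneg _)
      (Finset.mem_univ i)
    rw [← dotI, h2] at h1
    have ha : v i ≤ 1 := by nlinarith
    have hb : -1 ≤ v i := by nlinarith
    omega
  set S : Finset I := Finset.univ.filter fun i => v i ≠ 0 with hS
  have hcard : S.card = 2 := by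
    have e : ∀ i, v i * v i = if v i ≠ 0 then (1 : ℤ) else 0 := fun i => by
      rcases hone i with h | h | h <;> simp [h]
    rw [dotI, Finset.sum_congr rfl fun i _ => e i, Finset.sum_boole, ← hS] at h2
    exact_mod_cast h2
  obtain ⟨p, r, hpr, hSpr⟩ := Finset.card_eq_two.1 hcard
  have hz : ∀ i, i ≠ p → i ≠ r → v i = 0 := fun i h1 h2' => by
    by_contra h
    have : i ∈ S := by simp [hS, h]
    rw [hSpr] at this
    simp [h1, h2'] at this
  have hp : v p ≠ 0 := by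
    have : p ∈ S := by rw [hSpr]; simp
    simpa [hS] using this
  have hr : v r ≠ 0 := by
    have : r ∈ S := by rw [hSpr]; simp
    simpa [hS] using this
  have hsum : v p * D p + v r * D r = 0 := by
    rw [← hd, dotI, Finset.sum_eq_add p r hpr (fun i _ hi => by rw [hz i hi.1 hi.2, zero_mul])
      (by simp) (by simp)]
  have hDp := hD p
  have hDr := hD r
  rcases (hone p).resolve_left hp with h1 | h1 <;> rcases (hone r).resolve_left hr with h3 | h3 <;>
    rw [h1, h3] at hsum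
  · omega
  · refine ⟨p, r, hpr, by omega, fun i => ?_⟩
    rcases eq_or_ne i p with rfl | hip
    · simp [h1, hpr]
    rcases eq_or_ne i r with rfl | hir
    · simp [h3, hip]
    · simp [hz i hip hir, hip, hir]
  · refine ⟨r, p, hpr.symm, by omega, fun i => ?_⟩
    rcases eq_or_ne i p with rfl | hip
    · simp [h1, hpr]
    rcases eq_or_ne i r with rfl | hir
    · simp [h3, hip]
    · simp [hz i hip hir, hip, hir]
  · omega

theorem dotI_single {v w : I → ℤ} {p r : I}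
    (h : ∀ i, w i = (if i = p then (1 : ℤ) else 0) - (if i = r then 1 else 0)) :
    dotI v w = v p - v r := by
  simp [dotI, h, mul_sub, Finset.sum_sub_distrib]

include hD in
/-- Three vectors of norm two with all products one have a common end. -/
theorem exists_star {v : Fin 3 → I → ℤ} (h : ∀ k l, dotI (v k) (v l) = if k = l then 2 else 1)
    (hd : ∀ k, dotI (v k) D = 0) :
    ∃ (κ : ℤ) (p : I) (r : Fin 3 → I), (κ = 1 ∨ κ = -1) ∧ Function.Injective r ∧ (∀ k, p ≠ r k) ∧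
      (∀ k, D (r k) = D p) ∧
      ∀ k i, v k i = κ * ((if i = p then 1 else 0) - (if i = r k then 1 else 0)) := by
  choose P R hPR hDPR hv using fun k => exists_pair hD ((h k k).trans (if_pos rfl)) (hd k)
  have key : ∀ k l, k ≠ l → (P k = P l ∧ R k ≠ R l) ∨ (R k = R l ∧ P k ≠ P l) := by
    intro k l hkl
    have h1 := h k l
    rw [if_neg hkl, dotI_single (hv l), hv k (P l), hv k (R l)] at h1
    by_cases a : P k = P l <;> by_cases b : R k = R l
    · simp [a, b, (hPR l).symm, hPR l] at h1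
    · exact Or.inl ⟨a, b⟩
    · exact Or.inr ⟨b, a⟩
    · simp [Ne.symm a, Ne.symm b] at h1
      split_ifs at h1 <;> omega
  have hinj : ∀ {f : Fin 3 → I}, f 0 ≠ f 1 → f 0 ≠ f 2 → f 1 ≠ f 2 → Function.Injective f := by
    intro f h01 h02 h12 k l hkl
    fin_cases k <;> fin_cases l <;>
      first
        | rfl
        | exact absurd hkl h01 | exact absurd hkl h02 | exact absurd hkl h12
        | exact absurd hkl.symm h01 | exact absurd hkl.symm h02 | exact absurd hkl.symm h12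
  rcases key 0 1 (by decide) with ⟨a, a'⟩ | ⟨a, a'⟩ <;>
    rcases key 0 2 (by decide) with ⟨b, b'⟩ | ⟨b, b'⟩ <;>
    rcases key 1 2 (by decide) with ⟨c, c'⟩ | ⟨c, c'⟩
  · refine ⟨1, P 0, R, Or.inl rfl, hinj a' b' c', ?_, ?_, fun k i => ?_⟩
    · intro k; fin_cases k
      exacts [hPR 0, a ▸ hPR 1, b ▸ hPR 2]
    · intro k; fin_cases k
      exacts [(hDPR 0).symm, a ▸ (hDPR 1).symm, b ▸ (hDPR 2).symm]
    · rw [one_mul, hv k i]
      fin_cases k
      exacts [rfl, by rw [a]; rfl, by rw [b]; rfl]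
  · exact absurd (a.symm.trans b) c'
  · exact absurd (a.trans c) b'
  · exact absurd (b.trans c.symm) a'
  · exact absurd (b.trans c.symm) a'
  · exact absurd (a.trans c) b'
  · exact absurd (a.symm.trans b) c'
  · refine ⟨-1, R 0, P, Or.inr rfl, hinj a' b' c', ?_, ?_, fun k i => ?_⟩
    · intro k; fin_cases k
      exacts [(hPR 0).symm, a ▸ (hPR 1).symm, b ▸ (hPR 2).symm]
    · intro k; fin_cases k
      exacts [hDPR 0, a ▸ hDPR 1, b ▸ hDPR 2]
    · rw [hv k i]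
      fin_cases k
      · simp only [Fin.zero_eta]; ring
      · simp only [Fin.mk_one, a]; ring
      · simp only [show (⟨2, by omega⟩ : Fin 3) = 2 from rfl, b]; ring

end Vectors

namespace Cfg

variable {G : Type u} [Group G] [Fintype G] {L : Type v} [Group L] [Fintype L] (C : Cfg G L)

/-- The vector `c₁ - c₂ₖ - n`. -/
noncomputable def vZ (k : Fin 3) (θ : C.D.Y →* ℂˣ) (χ : IrrCharacter G) : ℤ :=
  C.vc none θ χ - C.vc (some k) θ χ - C.vn χ

theorem dotI_vZ (f : IrrCharacter G → ℤ) (k : Fin 3) (θ : C.D.Y →* ℂˣ) :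
    dotI f (C.vZ k θ) = dotI f (C.vc none θ) - dotI f (C.vc (some k) θ) - dotI f C.vn := by
  show dotI f (fun χ => C.vc none θ χ - C.vc (some k) θ χ - C.vn χ) = _
  rw [dotI_sub_right, dotI_sub_right]

variable {θ θ' : C.D.Y →* ℂˣ}

theorem va_vZ (h : θ ≠ 1) (k : Fin 3) : dotI C.va (C.vZ k θ) = 0 := by
  rw [dotI_vZ, dotI_comm, C.vc_va _ h, dotI_comm, C.vc_va _ h, dotI_comm, C.vn_va]
  norm_num

theorem vb_vZ (h : θ ≠ 1) (i : Fin 2) (k : Fin 3) : dotI (C.vb i) (C.vZ k θ) = 0 := by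
  rw [dotI_vZ, dotI_comm, C.vc_vb _ i h, dotI_comm, C.vc_vb _ i h, dotI_comm, C.vn_vb]
  simp

theorem vl_vZ (h : θ ≠ 1) {lam : C.D.Z →* ℂˣ} (hl : lam ≠ 1) (k : Fin 3) :
    dotI (C.vl lam) (C.vZ k θ) = 0 := by
  rw [dotI_vZ, dotI_comm, C.vc_vl _ h, dotI_comm, C.vc_vl _ h, dotI_comm, C.vn_vl hl]
  norm_num

theorem vc_vZ (h : θ ≠ 1) (l k : Fin 3) :
    dotI (C.vc (some l) θ) (C.vZ k θ) = if l = k then -1 else 0 := by
  rw [dotI_vZ, C.vc_vc_same _ _ h, C.vc_vc_same _ _ h, C.vc_vn _ h, muCount_eq, muCount_eq]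
  by_cases e : l = k <;> simp [e]

theorem vc_vZ_other (h : θ ≠ 1) (h' : θ' ≠ 1) (hne : ∀ s, C.thAct s θ' ≠ θ) (l k : Fin 3) :
    dotI (C.vc (some l) θ') (C.vZ k θ) = 0 := by
  rw [dotI_vZ, C.vc_vc_other _ _ h' h hne, C.vc_vc_other _ _ h' h hne, C.vc_vn _ h', muCount_eq,
    muCount_eq]
  simp

theorem vn_vZ (h : θ ≠ 1) (k : Fin 3) : dotI C.vn (C.vZ k θ) = 0 := by
  rw [dotI_vZ, dotI_comm, C.vc_vn _ h, dotI_comm, C.vc_vn _ h, C.vn_vn]
  simp

theorem vZ_vZ (h : θ ≠ 1) (k l : Fin 3) :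
    dotI (C.vZ k θ) (C.vZ l θ) = if k = l then 2 else 1 := by
  have e : dotI (C.vZ k θ) (C.vZ l θ) = dotI (C.vc none θ) (C.vZ l θ) -
      dotI (C.vc (some k) θ) (C.vZ l θ) - dotI C.vn (C.vZ l θ) := by
    rw [dotI_comm (C.vZ k θ), dotI_comm (C.vc none θ), dotI_comm (C.vc (some k) θ), dotI_comm C.vn]
    exact C.dotI_vZ _ k θ
  rw [e, C.vn_vZ h, C.vc_vZ h, dotI_vZ, C.vc_vc_same _ _ h, C.vc_vc_same _ _ h, C.vc_vn _ h,
    muCount_eq, muCount_eq]
  by_cases e' : k = l <;> simp [e']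

theorem vZ_deg (k : Fin 3) : dotI (C.vZ k θ) C.deg = 0 := by
  rw [dotI_comm, dotI_vZ, dotI_comm, C.vc_deg, dotI_comm, C.vc_deg, dotI_comm, C.vn_deg]
  norm_num

theorem vZ_vc_other (h : θ ≠ 1) (h' : θ' ≠ 1) (hne : ∀ s, C.thAct s θ' ≠ θ) (k l : Fin 3) :
    dotI (C.vZ l θ') (C.vZ k θ) = 0 := by
  have e : dotI (C.vZ l θ') (C.vZ k θ) = dotI (C.vc none θ') (C.vZ k θ) -
      dotI (C.vc (some l) θ') (C.vZ k θ) - dotI C.vn (C.vZ k θ) := by
    rw [dotI_comm (C.vZ l θ'), dotI_comm (C.vc none θ'), dotI_comm (C.vc (some l) θ'), dotI_comm C.vn]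
    exact C.dotI_vZ _ l θ'
  rw [e, C.vn_vZ h, C.vc_vZ_other h h' hne, dotI_vZ, C.vc_vc_other _ _ h' h hne,
    C.vc_vc_other _ _ h' h hne, C.vc_vn _ h', muCount_eq, muCount_eq]
  simp

/-- A quartet. -/
structure Quart (θ : C.D.Y →* ℂˣ) where
  κ : ℤ
  p : IrrCharacter G
  r : Fin 3 → IrrCharacter G
  hκ : κ = 1 ∨ κ = -1
  hr : Function.Injective r
  hp : ∀ k, p ≠ r k
  hdeg : ∀ k, C.deg (r k) = C.deg p
  spec : ∀ k χ, (χ = p → C.vZ k θ χ = κ) ∧ (χ = r k → C.vZ k θ χ = -κ) ∧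
    (χ ≠ p → χ ≠ r k → C.vZ k θ χ = 0)

theorem nonempty_quart (h : θ ≠ 1) : Nonempty (C.Quart θ) := by
  classical
  obtain ⟨κ, p, r, hκ, hr, hp, hd, hv⟩ := exists_star (D := C.deg) (fun χ => (C.deg_spec χ).2)
    (v := fun k => C.vZ k θ) (fun k l => C.vZ_vZ h k l) (fun k => C.vZ_deg k)
  exact ⟨⟨κ, p, r, hκ, hr, hp, hd, fun k χ => ⟨fun e => by simp [hv, e, hp k],
    fun e => by simp [hv, e, (hp k).symm], fun e1 e2 => by simp [hv, e1, e2]⟩⟩⟩

namespace Quart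

variable {C} (Q : C.Quart θ)

theorem κ_sq : Q.κ * Q.κ = 1 := by rcases Q.hκ with h | h <;> rw [h] <;> rfl

theorem dot_vZ (f : IrrCharacter G → ℤ) (k : Fin 3) :
    dotI f (C.vZ k θ) = Q.κ * (f Q.p - f (Q.r k)) := by
  classical
  rw [dotI, Finset.sum_eq_add Q.p (Q.r k) (Q.hp k)
    (fun χ _ hχ => by rw [(Q.spec k χ).2.2 hχ.1 hχ.2, mul_zero]) (by simp) (by simp),
    (Q.spec k _).1 rfl, (Q.spec k _).2.1 rfl]
  ring

theorem const {f : IrrCharacter G → ℤ} {k : Fin 3} (h : dotI f (C.vZ k θ) = 0) : f (Q.r k) = f Q.p := by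
  rw [Q.dot_vZ] at h
  rcases Q.hκ with e | e <;> rw [e] at h <;> linarith

/-- The vanishing lemma. -/
theorem vanish (Q : C.Quart θ) {f : IrrCharacter G → ℤ} (hn : dotI f f ≤ 4)
    (hd : dotI f C.deg = 0) (h : ∀ k, dotI f (C.vZ k θ) = 0) :
    f Q.p = 0 ∧ ∀ k, f (Q.r k) = 0 := by
  classical
  suffices h0 : f Q.p = 0 from ⟨h0, fun k => by rw [Q.const (h k), h0]⟩
  by_contra h0
  let S : Finset (IrrCharacter G) := insert Q.p (Finset.univ.image Q.r)
  have hp : Q.p ∉ Finset.univ.image Q.r := by simpa using fun k => (Q.hp k).symm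
  have hS : ∀ (g : IrrCharacter G → ℤ), ∑ χ ∈ S, g χ = g Q.p + ∑ k, g (Q.r k) := fun g => by
    rw [Finset.sum_insert hp, Finset.sum_image fun a _ b _ e => Q.hr e]
  have hz : ∀ χ, χ ∉ S → f χ = 0 := by
    intro χ hχ
    by_contra hne
    have hsub := Finset.sum_le_sum_of_subset_of_nonneg (f := fun x => f x * f x)
      (Finset.subset_univ (insert χ S)) (fun x _ _ => mul_self_nonneg _)
    rw [Finset.sum_insert hχ, hS, Fin.sum_univ_three, Q.const (h 0), Q.const (h 1), Q.const (h 2)]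
      at hsub
    have h1 : 0 < f Q.p * f Q.p := mul_self_pos.2 h0
    have h2 : 0 < f χ * f χ := mul_self_pos.2 hne
    rw [dotI] at hn
    linarith
  have h4 : f Q.p * C.deg Q.p * 4 = 0 := by
    rw [← hd, dotI, ← Finset.sum_subset (Finset.subset_univ S) fun χ _ hχ => by rw [hz χ hχ, zero_mul],
      hS, Fin.sum_univ_three, Q.const (h 0), Q.const (h 1), Q.const (h 2), Q.hdeg, Q.hdeg, Q.hdeg]
    ring
  have := (C.deg_spec Q.p).2
  simp only [mul_eq_zero] at h4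
  omega

theorem va_zero (Q : C.Quart θ) (h : θ ≠ 1) : C.va Q.p = 0 ∧ ∀ k, C.va (Q.r k) = 0 :=
  Q.vanish C.va_va.le C.va_deg (C.va_vZ h)

theorem vb_zero (Q : C.Quart θ) (h : θ ≠ 1) (i : Fin 2) :
    C.vb i Q.p = 0 ∧ ∀ k, C.vb i (Q.r k) = 0 :=
  Q.vanish (by rw [C.vb_vb, if_pos rfl]) (C.vb_deg i) (C.vb_vZ h i)

theorem vl_zero (Q : C.Quart θ) (h : θ ≠ 1) {lam : C.D.Z →* ℂˣ} (hl : lam ≠ 1) :
    C.vl lam Q.p = 0 ∧ ∀ k, C.vl lam (Q.r k) = 0 :=
  Q.vanish (by rw [C.vl_vl hl]; norm_num) (C.vl_deg lam) (C.vl_vZ h hl)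

theorem vn_zero (Q : C.Quart θ) (h : θ ≠ 1) : C.vn Q.p = 0 ∧ ∀ k, C.vn (Q.r k) = 0 :=
  ⟨by rw [vn, (Q.va_zero h).1, (Q.vb_zero h 0).1, (Q.vb_zero h 1).1]; rfl,
    fun k => by rw [vn, (Q.va_zero h).2, (Q.vb_zero h 0).2, (Q.vb_zero h 1).2]; rfl⟩

/-- The vectors `c₂` on their own quartet. -/
theorem vc_some_quart (Q : C.Quart θ) (h : θ ≠ 1) (l : Fin 3) :
    C.vc (some l) θ Q.p = 0 ∧ ∀ k, C.vc (some l) θ (Q.r k) = if l = k then Q.κ else 0 := by
  classical
  set f := C.vc (some l) θ with hf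
  have hk : ∀ k, f (Q.r k) = f Q.p + if l = k then Q.κ else 0 := by
    intro k
    have h1 := C.vc_vZ h l k
    rw [← hf, Q.dot_vZ] at h1
    rcases Q.hκ with e | e <;> rw [e] at h1 ⊢ <;> split_ifs at h1 ⊢ <;> linarith
  suffices h0 : f Q.p = 0 from ⟨h0, fun k => by rw [hk, h0, zero_add]⟩
  by_contra h0
  have h3 : dotI f f = 3 := by rw [hf, C.vc_vc_same _ _ h, muCount_eq, if_pos rfl]; rfl
  let S : Finset (IrrCharacter G) := insert Q.p (Finset.univ.image Q.r)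
  have hp : Q.p ∉ Finset.univ.image Q.r := by simpa using fun k => (Q.hp k).symm
  have hS : ∀ (g : IrrCharacter G → ℤ), ∑ χ ∈ S, g χ = g Q.p + ∑ k, g (Q.r k) := fun g => by
    rw [Finset.sum_insert hp, Finset.sum_image fun a _ b _ e => Q.hr e]
  have hz : ∀ χ, χ ∉ S → f χ = 0 := by
    intro χ hχ
    by_contra hne
    have hsub := Finset.sum_le_sum_of_subset_of_nonneg (f := fun x => f x * f x)
      (Finset.subset_univ (insert χ S)) (fun x _ _ => mul_self_nonneg _)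
    rw [Finset.sum_insert hχ, hS, Fin.sum_univ_three, hk 0, hk 1, hk 2] at hsub
    have h1 : 0 < f Q.p * f Q.p := mul_self_pos.2 h0
    have h2 : 0 < f χ * f χ := mul_self_pos.2 hne
    rw [dotI] at h3
    fin_cases l <;> simp at hsub <;> rcases Q.hκ with e | e <;> rw [e] at hsub <;>
      nlinarith [mul_self_nonneg (f Q.p + Q.κ), mul_self_nonneg (f Q.p)]
  have h1 : dotI f (C.vb 0) = 0 := by
    rw [dotI, ← Finset.sum_subset (Finset.subset_univ S) fun χ _ hχ => by rw [hz χ hχ, zero_mul], hS]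
    simp [(Q.vb_zero h 0).1, (Q.vb_zero h 0).2]
  rw [hf, C.vc_vb _ _ h] at h1
  simp at h1

theorem vc_none_eq (_Q : C.Quart θ) (l : Fin 3) (χ : IrrCharacter G) :
    C.vc none θ χ = C.vZ l θ χ + C.vc (some l) θ χ + C.vn χ := by
  rw [vZ]; ring

theorem vc_none_quart (Q : C.Quart θ) (h : θ ≠ 1) :
    C.vc none θ Q.p = Q.κ ∧ ∀ k, C.vc none θ (Q.r k) = 0 := by
  constructor
  · rw [Q.vc_none_eq 0, (Q.spec 0 _).1 rfl, (Q.vc_some_quart h 0).1, (Q.vn_zero h).1]; ring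
  · intro k
    rw [Q.vc_none_eq k, (Q.spec k _).2.1 rfl, (Q.vc_some_quart h k).2, if_pos rfl, (Q.vn_zero h).2]
    ring

/-- The vectors of another orbit vanish on the quartet. -/
theorem vc_other_zero (Q : C.Quart θ) (h : θ ≠ 1) (h' : θ' ≠ 1) (hne : ∀ s, C.thAct s θ' ≠ θ) :
    (∀ μ, C.vc μ θ' Q.p = 0) ∧ ∀ μ k, C.vc μ θ' (Q.r k) = 0 := by
  have hs : ∀ l : Fin 3, C.vc (some l) θ' Q.p = 0 ∧ ∀ k, C.vc (some l) θ' (Q.r k) = 0 := fun l =>
    Q.vanish (by rw [C.vc_vc_same _ _ h', muCount_eq, if_pos rfl]; norm_num) (C.vc_deg _ _)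
      (fun k => C.vc_vZ_other h h' hne l k)
  have hZ : C.vZ 0 θ' Q.p = 0 ∧ ∀ k, C.vZ 0 θ' (Q.r k) = 0 :=
    Q.vanish (by rw [C.vZ_vZ h', if_pos rfl]; norm_num) (C.vZ_deg 0)
      (fun k => C.vZ_vc_other h h' hne k 0)
  have hn : C.vc none θ' Q.p = 0 ∧ ∀ k, C.vc none θ' (Q.r k) = 0 := by
    constructor
    · have := hZ.1
      rw [vZ, (hs 0).1, (Q.vn_zero h).1] at this
      linarith
    · intro k
      have := hZ.2 k
      rw [vZ, (hs 0).2, (Q.vn_zero h).2] at this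
      linarith
  refine ⟨fun μ => ?_, fun μ k => ?_⟩ <;> rcases μ with _ | l
  exacts [hn.1, (hs l).1, hn.2 k, (hs l).2 k]

/-- The remainder `c₂ₗ - κ rₗ`. -/
noncomputable def rest (Q : C.Quart θ) (l : Fin 3) (χ : IrrCharacter G) : ℤ :=
  C.vc (some l) θ χ - (open Classical in if χ = Q.r l then Q.κ else 0)

theorem rest_quart (Q : C.Quart θ) (h : θ ≠ 1) (l : Fin 3) :
    Q.rest l Q.p = 0 ∧ ∀ k, Q.rest l (Q.r k) = 0 := by
  classical
  constructor
  · rw [rest, (Q.vc_some_quart h l).1, if_neg (Q.hp l)]; ring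
  · intro k
    rw [rest, (Q.vc_some_quart h l).2]
    by_cases e : l = k
    · subst e; simp
    · rw [if_neg e, if_neg fun e' => e (Q.hr e').symm]; ring

theorem dot_rest (Q : C.Quart θ) (l : Fin 3) (f : IrrCharacter G → ℤ) :
    dotI f (Q.rest l) = dotI f (C.vc (some l) θ) - Q.κ * f (Q.r l) := by
  classical
  unfold rest dotI
  simp only [mul_sub, Finset.sum_sub_distrib, mul_ite, mul_zero, Finset.sum_ite_eq', Finset.mem_univ,
    if_true]
  ring

theorem rest_rest (Q : C.Quart θ) (h : θ ≠ 1) (l m : Fin 3) : dotI (Q.rest l) (Q.rest m) = 2 := by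
  rw [dot_rest, (Q.rest_quart h l).2, mul_zero, sub_zero, dotI_comm, dot_rest, C.vc_vc_same _ _ h,
    (Q.vc_some_quart h m).2, muCount_eq]
  by_cases e : l = m
  · subst e
    simp [Q.κ_sq]
  · simp [Ne.symm e]

theorem rest_eq_of_two {f g : IrrCharacter G → ℤ} (hf : dotI f f = 2) (hg : dotI g g = 2)
    (hfg : dotI f g = 2) : f = g := by
  funext χ
  have h0 : dotI (fun x => f x - g x) (fun x => f x - g x) = 0 := by
    rw [dotI_sub_left, dotI_sub_right, dotI_sub_right, hf, hg, hfg, dotI_comm g f, hfg]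
    norm_num
  linarith [eq_zero_of_dotI_self h0 χ]

theorem rest_indep (Q : C.Quart θ) (h : θ ≠ 1) (l : Fin 3) : Q.rest l = Q.rest 0 :=
  rest_eq_of_two (Q.rest_rest h l l) (Q.rest_rest h 0 0) (Q.rest_rest h l 0)

theorem rest_other (Q : C.Quart θ) (Q' : C.Quart θ') (h : θ ≠ 1) (h' : θ' ≠ 1)
    (hne : ∀ s, C.thAct s θ' ≠ θ) (hne' : ∀ s, C.thAct s θ ≠ θ') : Q'.rest 0 = Q.rest 0 := by
  refine rest_eq_of_two (Q'.rest_rest h' 0 0) (Q.rest_rest h 0 0) ?_
  have hA : C.vc (some 0) θ (Q'.r 0) = 0 := (Q'.vc_other_zero h' h hne').2 _ _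
  have hA' : C.vc (some 0) θ' (Q.r 0) = 0 := (Q.vc_other_zero h h' hne).2 _ _
  have hdis : Q.r 0 ≠ Q'.r 0 := fun e => by
    have h1 := (Q'.vc_some_quart h' 0).2 0
    rw [if_pos rfl, ← e, hA'] at h1
    rcases Q'.hκ with e' | e' <;> omega
  have hr : Q.rest 0 (Q'.r 0) = 0 := by
    classical
    rw [rest, hA, if_neg hdis.symm]; ring
  rw [dotI_comm, dot_rest, hr, mul_zero, sub_zero, dotI_comm, dot_rest,
    C.vc_vc_other _ _ h' h hne, hA', muCount_eq]
  ring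

end Quart

end Cfg

end CfsgLib.JankoThompson
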