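import Cfsg.Agent.Lib.JankoThompson.Quartet

/-!
The characters outside the quartets, the values at `t`, and the formula for `|G|`.
-/

set_option autoImplicit false
set_option linter.unusedSectionVars false
set_option linter.style.haveILetI false

namespace CfsgLib.JankoThompson

open Cfsg CfsgLib CfsgLib.CharTheory

universe u v

theorem sum_mu_iterate : ∀ μ : Option (Fin 3),
    ∑ s : Fin 3 × Fin 2, mu (muStep^[(s.1 : ℕ)] μ) pt = if μ = none then 6 else -2 := by decide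

theorem muStep_iterate_some : ∀ (k : Fin 3) (l : Fin 3),
    ∃ l', muStep^[(k : ℕ)] (some l') = some l := by decide

theorem muStep_iterate_none : ∀ k : Fin 3, muStep^[(k : ℕ)] none = none := by decide

theorem muStep_iterate_bijective : ∀ k : Fin 3, Function.Bijective (muStep^[(k : ℕ)]) := by decide

namespace Cfg

variable {G : Type u} [Group G] [Fintype G] {L : Type v} [Group L] [Fintype L] (C : Cfg G L)

theorem card_dual : Fintype.card (C.D.Y →* ℂˣ) = C.D.y := by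
  classical
  have h := sum_dual C.D.cycY (1 : C.D.Y)
  simp only [map_one, Units.val_one, if_true, Finset.sum_const, Finset.card_univ, nsmul_eq_mul,
    mul_one, C.D.cardY] at h
  exact_mod_cast h

theorem exists_ne_one : ∃ θ : C.D.Y →* ℂˣ, θ ≠ 1 := by
  haveI : Nontrivial (C.D.Y →* ℂˣ) := Fintype.one_lt_card_iff_nontrivial.1 (by
    rw [C.card_dual]; have := C.seven_le; omega)
  exact exists_ne 1

/-- A fixed non-trivial character of `Y`. -/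
noncomputable def θ₀ : C.D.Y →* ℂˣ := C.exists_ne_one.choose

theorem θ₀_ne : C.θ₀ ≠ 1 := C.exists_ne_one.choose_spec

/-- Its quartet. -/
noncomputable def Q₀ : C.Quart C.θ₀ := (C.nonempty_quart C.θ₀_ne).some

/-- The common remainder. -/
noncomputable def P : IrrCharacter G → ℤ := C.Q₀.rest 0

/-- The signed degree of the quartet. -/
noncomputable def Qv : ℤ := C.Q₀.κ * C.deg C.Q₀.p

/-- The characters outside all quartets. -/
def Free (χ : IrrCharacter G) : Prop :=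
  ∀ θ : C.D.Y →* ℂˣ, θ ≠ 1 → ∀ k, C.vZ k θ χ = 0

theorem free_of_vanish {f : IrrCharacter G → ℤ} (hn : dotI f f ≤ 4) (hd : dotI f C.deg = 0)
    (h : ∀ θ : C.D.Y →* ℂˣ, θ ≠ 1 → ∀ k, dotI f (C.vZ k θ) = 0) {χ : IrrCharacter G} (hχ : f χ ≠ 0) :
    C.Free χ := by
  intro θ hθ k
  obtain ⟨Q⟩ := C.nonempty_quart hθ
  obtain ⟨h1, h2⟩ := Q.vanish hn hd (h θ hθ)
  exact (Q.spec k χ).2.2 (fun e => hχ (e ▸ h1)) (fun e => hχ (e ▸ h2 k))

theorem free_va {χ : IrrCharacter G} (h : C.va χ ≠ 0) : C.Free χ :=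
  C.free_of_vanish C.va_va.le C.va_deg (fun _ hθ k => C.va_vZ hθ k) h

theorem free_vb (i : Fin 2) {χ : IrrCharacter G} (h : C.vb i χ ≠ 0) : C.Free χ :=
  C.free_of_vanish (by rw [C.vb_vb, if_pos rfl]) (C.vb_deg i) (fun _ hθ k => C.vb_vZ hθ i k) h

theorem free_one : C.Free (Blocks.oneIrr G) := C.free_va (by rw [C.va_one]; norm_num)

theorem yAct_inverse (s : Fin 3 × Fin 2) : ∃ s', ∀ y, C.yAct s' (C.yAct s y) = y := by
  obtain ⟨k, e⟩ := s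
  refine ⟨(-k, e), fun y => ?_⟩
  fin_cases k <;> fin_cases e <;>
    simp [yAct_apply, invHom, map_inv, C.α_cube, show (-1 : Fin 3) = 2 from rfl,
      show (-2 : Fin 3) = 1 from rfl]

theorem not_orbit {θ θ' : C.D.Y →* ℂˣ} (h : ∀ s, C.thAct s θ ≠ θ') : ∀ s, C.thAct s θ' ≠ θ := by
  intro s hs
  obtain ⟨s', hs'⟩ := C.yAct_inverse s
  refine h s' (MonoidHom.ext fun y => ?_)
  obtain ⟨y, rfl⟩ := (C.yAct_bijective s).2 y
  rw [← hs]
  exact congrArg (fun z => θ' (C.yAct s z)) (hs' y)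

/-- Inside the orbit of `θ₀` the vectors are those of `θ₀`. -/
theorem orbit_vc (s : Fin 3 × Fin 2) (μ : Option (Fin 3)) (χ : IrrCharacter G) :
    C.vc (muStep^[(s.1 : ℕ)] μ) (C.thAct s C.θ₀) χ = C.vc μ C.θ₀ χ := C.vc_act s μ _ χ

theorem free_vc {χ : IrrCharacter G} (hχ : C.Free χ) {θ : C.D.Y →* ℂˣ} (hθ : θ ≠ 1) (l : Fin 3) :
    C.vc (some l) θ χ = C.P χ := by
  classical
  have key : ∀ {θ : C.D.Y →* ℂˣ}, θ ≠ 1 → ∀ (Q : C.Quart θ) (l : Fin 3),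
      C.vc (some l) θ χ = Q.rest 0 χ := by
    intro θ hθ Q l
    rw [← Q.rest_indep hθ l]
    have hne : χ ≠ Q.r l := fun e => by
      have h0 := hχ θ hθ l
      rw [(Q.spec l χ).2.1 e] at h0
      rcases Q.hκ with e' | e' <;> omega
    rw [Quart.rest, if_neg hne, sub_zero]
  by_cases ho : ∃ s, C.thAct s C.θ₀ = θ
  · obtain ⟨s, rfl⟩ := ho
    obtain ⟨l', hl'⟩ := muStep_iterate_some s.1 l
    rw [← hl', C.orbit_vc, key C.θ₀_ne C.Q₀ l']
    rfl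
  · push Not at ho
    obtain ⟨Q⟩ := C.nonempty_quart hθ
    rw [key hθ Q l, Quart.rest_other C.Q₀ Q C.θ₀_ne hθ (C.not_orbit ho) ho]
    rfl

theorem free_vc_none {χ : IrrCharacter G} (hχ : C.Free χ) {θ : C.D.Y →* ℂˣ} (hθ : θ ≠ 1) :
    C.vc none θ χ = C.P χ + C.vn χ := by
  have h := hχ θ hθ 0
  rw [vZ, C.free_vc hχ hθ 0] at h
  linarith

theorem vc_trivial (μ : Option (Fin 3)) (χ : IrrCharacter G) : C.vc μ 1 χ = 0 := by
  apply Int.cast_injective (α := ℂ)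
  rw [← C.vc_spec]
  simp [cv, gfun]

theorem free_vq {χ : IrrCharacter G} (hχ : C.Free χ) {θ : C.D.Y →* ℂˣ} (hθ : θ ≠ 1) :
    C.vq θ χ = C.vn χ := by
  rw [vq, Fintype.sum_option, Fin.sum_univ_three, C.free_vc_none hχ hθ, C.free_vc hχ hθ,
    C.free_vc hχ hθ, C.free_vc hχ hθ, mu_pt, mu_pt, mu_pt, mu_pt]
  simp

theorem vl_trivial (χ : IrrCharacter G) : C.vl 1 χ = C.va χ := by
  apply Int.cast_injective (α := ℂ)
  rw [← C.vl_spec, ← C.va_spec]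
  congr 1
  funext x
  simp only [φl, indFun, MonoidHom.one_apply, Units.val_one, sub_self, extendByZero]
  simp
  refine Finset.sum_eq_zero fun z _ => ?_
  classical
  rw [Function.extend_def]
  split_ifs <;> rfl

open Classical in
/-- The value at `t` outside the quartets. -/
theorem T_free {χ : IrrCharacter G} (hχ : C.Free χ) :
    C.T χ = C.va χ - C.D.δ * C.D.z * (C.vb 0 χ + C.vb 1 χ) -
      2 * C.D.δ * C.D.y * ∑ lam ∈ Finset.univ.erase (1 : C.D.Z →* ℂˣ), C.vl lam χ := by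
  have h1 : ∑ θ : C.D.Y →* ℂˣ, C.vq θ χ = ((C.D.y : ℤ) - 1) * C.vn χ := by
    rw [← Finset.add_sum_erase _ _ (Finset.mem_univ (1 : C.D.Y →* ℂˣ)),
      Finset.sum_congr rfl fun θ hθ => C.free_vq hχ (Finset.ne_of_mem_erase hθ), Finset.sum_const,
      Finset.card_erase_of_mem (Finset.mem_univ _), Finset.card_univ, C.card_dual, nsmul_eq_mul,
      Nat.cast_sub (by have := C.seven_le; omega)]
    simp [vq, C.vc_trivial]
  have h2 := Finset.add_sum_erase (Finset.univ : Finset (C.D.Z →* ℂˣ)) (fun lam => C.vl lam χ)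
    (Finset.mem_univ 1)
  rw [C.T_eq, h1, ← h2, C.vl_trivial]
  ring

/-- The congruence outside the quartets. -/
theorem congr_free {χ : IrrCharacter G} (hχ : C.Free χ) :
    ∃ M : ℤ, C.deg χ + 3 * C.T χ - 4 * (C.P χ + C.vn χ) = C.D.y * M := by
  classical
  obtain ⟨M, hM⟩ := C.congr_A χ
  rw [← Finset.add_sum_erase _ _ (Finset.mem_univ (1 : C.D.Y →* ℂˣ)),
    Finset.sum_congr rfl fun θ hθ => C.free_vc_none hχ (Finset.ne_of_mem_erase hθ), Finset.sum_const,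
    Finset.card_erase_of_mem (Finset.mem_univ _), Finset.card_univ, C.card_dual, nsmul_eq_mul,
    Nat.cast_sub (by have := C.seven_le; omega), C.vc_trivial] at hM
  refine ⟨4 * M - 4 * (C.P χ + C.vn χ), ?_⟩
  rw [hM]; push_cast; ring

theorem sum_vq_quart {χ : IrrCharacter G} (μ₀ : Option (Fin 3))
    (h1 : ∀ θ : C.D.Y →* ℂˣ, θ ≠ 1 → (∀ s, C.thAct s C.θ₀ ≠ θ) → ∀ μ, C.vc μ θ χ = 0)
    (h2 : ∀ μ, μ ≠ μ₀ → C.vc μ C.θ₀ χ = 0) :
    ∑ θ : C.D.Y →* ℂˣ, C.vq θ χ = (if μ₀ = none then 6 else -2) * C.vc μ₀ C.θ₀ χ := by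
  classical
  have hs : ∀ s : Fin 3 × Fin 2,
      C.vq (C.thAct s C.θ₀) χ = mu (muStep^[(s.1 : ℕ)] μ₀) pt * C.vc μ₀ C.θ₀ χ := by
    intro s
    rw [vq, ← Fintype.sum_bijective _ (muStep_iterate_bijective s.1)
      (fun μ => mu (muStep^[(s.1 : ℕ)] μ) pt * C.vc μ C.θ₀ χ) _ (fun μ => by rw [C.orbit_vc]),
      Finset.sum_eq_single μ₀ (fun μ _ hμ => by rw [h2 μ hμ, mul_zero]) (by simp)]
  rw [← Fintype.sum_of_injective (fun s => C.thAct s C.θ₀) (fun s s' h => C.thAct_inj C.θ₀_ne h)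
    (fun s => mu (muStep^[(s.1 : ℕ)] μ₀) pt * C.vc μ₀ C.θ₀ χ) (fun θ => C.vq θ χ) ?_
    (fun s => (hs s).symm), ← Finset.sum_mul, sum_mu_iterate]
  intro θ hθ
  rcases eq_or_ne θ 1 with rfl | h
  · simp [vq, C.vc_trivial]
  · simp [vq, h1 θ h fun s hs => hθ ⟨s, hs⟩]

theorem T_quart {χ : IrrCharacter G} (ha : C.va χ = 0) (hb : ∀ i, C.vb i χ = 0)
    (hl : ∀ lam : C.D.Z →* ℂˣ, lam ≠ 1 → C.vl lam χ = 0) :
    C.T χ = -(C.D.δ * C.D.z * ∑ θ : C.D.Y →* ℂˣ, C.vq θ χ) := by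
  have : ∑ lam : C.D.Z →* ℂˣ, C.vl lam χ = 0 := Finset.sum_eq_zero fun lam _ => by
    rcases eq_or_ne lam 1 with rfl | h
    exacts [(C.vl_trivial χ).trans ha, hl lam h]
  rw [C.T_eq, this, vn, ha, hb, hb]
  ring

theorem T_p : C.T C.Q₀.p = -(6 * C.D.δ * C.D.z * C.Q₀.κ) := by
  have h := C.θ₀_ne
  rw [C.T_quart (C.Q₀.va_zero h).1 (fun i => (C.Q₀.vb_zero h i).1) (fun lam hl => (C.Q₀.vl_zero h hl).1),
    C.sum_vq_quart none (fun θ hθ hne μ => (C.Q₀.vc_other_zero h hθ (C.not_orbit hne)).1 μ)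
      (fun μ hμ => ?_), (C.Q₀.vc_none_quart h).1, if_pos rfl]
  · ring
  · rcases μ with _ | l
    exacts [absurd rfl hμ, (C.Q₀.vc_some_quart h l).1]

theorem T_r (k : Fin 3) : C.T (C.Q₀.r k) = 2 * C.D.δ * C.D.z * C.Q₀.κ := by
  have h := C.θ₀_ne
  rw [C.T_quart ((C.Q₀.va_zero h).2 k) (fun i => (C.Q₀.vb_zero h i).2 k)
      (fun lam hl => (C.Q₀.vl_zero h hl).2 k),
    C.sum_vq_quart (some k) (fun θ hθ hne μ => (C.Q₀.vc_other_zero h hθ (C.not_orbit hne)).2 μ k)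
      (fun μ hμ => ?_), (C.Q₀.vc_some_quart h k).2, if_pos rfl, if_neg (by simp)]
  · ring
  · rcases μ with _ | l
    · exact (C.Q₀.vc_none_quart h).2 k
    · rw [(C.Q₀.vc_some_quart h l).2, if_neg fun e => hμ (by rw [e])]

theorem free_P {χ : IrrCharacter G} (hχ : C.P χ ≠ 0) : C.Free χ := by
  classical
  intro θ hθ k
  by_contra hne
  obtain ⟨Q⟩ := C.nonempty_quart hθ
  have hq : χ = Q.p ∨ χ = Q.r k := by
    by_contra hq
    push Not at hq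
    exact hne ((Q.spec k χ).2.2 hq.1 hq.2)
  by_cases ho : ∃ s, C.thAct s C.θ₀ = θ
  · obtain ⟨s, rfl⟩ := ho
    obtain ⟨k', hk'⟩ := muStep_iterate_some s.1 k
    have e : C.vZ k (C.thAct s C.θ₀) χ = C.vZ k' C.θ₀ χ := by
      have h1 := C.orbit_vc s none χ
      rw [muStep_iterate_none] at h1
      rw [vZ, vZ, h1, ← hk', C.orbit_vc]
    rw [e] at hne
    by_cases h1 : χ = C.Q₀.p
    · exact hχ (h1 ▸ (C.Q₀.rest_quart C.θ₀_ne 0).1)
    · by_cases h2 : χ = C.Q₀.r k'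
      · exact hχ (h2 ▸ (C.Q₀.rest_quart C.θ₀_ne 0).2 k')
      · exact hne ((C.Q₀.spec k' χ).2.2 h1 h2)
  · push Not at ho
    obtain ⟨z1, z2⟩ := Q.vc_other_zero hθ C.θ₀_ne ho
    have h0 : C.vc (some 0) C.θ₀ χ = 0 := by
      rcases hq with rfl | rfl
      exacts [z1 _, z2 _ k]
    have hr : χ ≠ C.Q₀.r 0 := fun e => by
      rw [e, (C.Q₀.vc_some_quart C.θ₀_ne 0).2, if_pos rfl] at h0
      rcases C.Q₀.hκ with e' | e' <;> omega
    exact hχ (by rw [P, Quart.rest, h0, if_neg hr]; rfl)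

theorem dot_P (f : IrrCharacter G → ℤ) :
    dotI f C.P = dotI f (C.vc (some 0) C.θ₀) - C.Q₀.κ * f (C.Q₀.r 0) := C.Q₀.dot_rest 0 f

theorem P_P : dotI C.P C.P = 2 := C.Q₀.rest_rest C.θ₀_ne 0 0

theorem P_va : dotI C.va C.P = 0 := by
  rw [dot_P, dotI_comm, C.vc_va _ C.θ₀_ne, (C.Q₀.va_zero C.θ₀_ne).2, mul_zero, sub_zero]

theorem P_vb (i : Fin 2) : dotI (C.vb i) C.P = 1 := by
  rw [dot_P, dotI_comm, C.vc_vb _ i C.θ₀_ne, (C.Q₀.vb_zero C.θ₀_ne i).2, mul_zero, sub_zero]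
  simp

theorem P_vl {lam : C.D.Z →* ℂˣ} (hl : lam ≠ 1) : dotI (C.vl lam) C.P = 0 := by
  rw [dot_P, dotI_comm, C.vc_vl _ C.θ₀_ne, (C.Q₀.vl_zero C.θ₀_ne hl).2, mul_zero, sub_zero]

theorem P_deg : dotI C.deg C.P = -C.Qv := by
  rw [dot_P, dotI_comm, C.vc_deg, C.Q₀.hdeg, Qv]; ring

theorem P_T : dotI C.T C.P = -(2 * C.D.δ * C.D.z) := by
  rw [dot_P, dotI_comm, C.vc_T, C.T_r]
  linear_combination (-2 * C.D.δ * (C.D.z : ℤ)) * C.Q₀.κ_sq

theorem P_one : C.P (Blocks.oneIrr G) = 0 := by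
  classical
  have hr : Blocks.oneIrr G ≠ C.Q₀.r 0 := fun e => by
    have := (C.Q₀.va_zero C.θ₀_ne).2 0
    rw [← e, C.va_one] at this
    omega
  rw [P, Quart.rest, C.vc_one _ C.θ₀_ne, if_neg hr]
  simp

theorem Qv_ne : C.Qv ≠ 0 := by
  have := (C.deg_spec C.Q₀.p).2
  rcases C.Q₀.hκ with e | e <;> rw [Qv, e] <;> omega

theorem div_deg_eq (k : Fin 3) (c : ℚ) :
    (C.Q₀.κ : ℚ) * (c / (C.deg (C.Q₀.r k) : ℚ)) = c / (C.Qv : ℚ) := by
  have hD : (C.deg C.Q₀.p : ℚ) ≠ 0 := Int.cast_ne_zero.2 (C.deg_spec _).2.ne'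
  rw [C.Q₀.hdeg, Qv]
  rcases C.Q₀.hκ with e | e <;> simp [e, div_neg]

theorem wsum_P : C.wsum C.P = -(4 * (C.D.z : ℚ) ^ 2 / (C.Qv : ℚ)) := by
  classical
  have h : C.wsum C.P = C.wsum (C.vc (some 0) C.θ₀) -
      (C.Q₀.κ : ℚ) * ((C.T (C.Q₀.r 0) : ℚ) ^ 2 / (C.deg (C.Q₀.r 0) : ℚ)) := by
    rw [wsum, wsum]
    simp only [P, Quart.rest, Int.cast_sub, sub_mul, Finset.sum_sub_distrib, Int.cast_ite, Int.cast_zero,
      ite_mul, zero_mul, Finset.sum_ite_eq', Finset.mem_univ, if_true]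
  rw [h, C.wsum_vc _ C.θ₀_ne, if_neg (by simp), C.div_deg_eq, C.T_r]
  have hk : (C.Q₀.κ : ℚ) * C.Q₀.κ = 1 := by exact_mod_cast C.Q₀.κ_sq
  have hd : (C.D.δ : ℚ) * C.D.δ = 1 := by rcases C.D.hδ with e | e <;> simp [e]
  push_cast
  rw [mul_pow, mul_pow, mul_pow, pow_two (C.Q₀.κ : ℚ), hk, pow_two (C.D.δ : ℚ), hd]
  ring

/-- The formula for `K`. -/
theorem K_eq : C.Kq * ((C.D.q : ℚ) * C.Qv) =
    -(4 * (C.D.δ : ℚ) * (C.D.z : ℚ) ^ 2 * ((C.D.q : ℚ) - C.D.δ)) := by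
  classical
  have hZ : C.wsum (C.vZ 0 C.θ₀) = 32 * (C.D.z : ℚ) ^ 2 / (C.Qv : ℚ) := by
    have hd : (C.D.δ : ℚ) * C.D.δ = 1 := by rcases C.D.hδ with e | e <;> simp [e]
    have hk : (C.Q₀.κ : ℚ) * C.Q₀.κ = 1 := by exact_mod_cast C.Q₀.κ_sq
    rw [wsum, Finset.sum_eq_add C.Q₀.p (C.Q₀.r 0) (C.Q₀.hp 0)
      (fun χ _ hχ => by rw [(C.Q₀.spec 0 χ).2.2 hχ.1 hχ.2, Int.cast_zero, zero_mul]) (by simp) (by simp),
      (C.Q₀.spec 0 _).1 rfl, (C.Q₀.spec 0 _).2.1 rfl, Int.cast_neg, neg_mul, ← C.Q₀.hdeg 0,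
      C.div_deg_eq, C.div_deg_eq, C.T_p, C.T_r]
    push_cast
    field_simp
    linear_combination (32 * (C.D.z : ℚ) ^ 2 * C.D.δ ^ 2 / (C.Qv : ℚ)) * hk + (32 * (C.D.z : ℚ) ^ 2 / (C.Qv : ℚ)) * hd
  have h := C.wsum_sub (fun χ => C.vc none C.θ₀ χ - C.vc (some 0) C.θ₀ χ) C.vn
  rw [show (fun χ => C.vc none C.θ₀ χ - C.vc (some 0) C.θ₀ χ - C.vn χ) = C.vZ 0 C.θ₀ from rfl, hZ,
    C.wsum_sub, C.wsum_vc _ C.θ₀_ne, C.wsum_vc _ C.θ₀_ne, if_pos rfl, if_neg (by simp),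
    show C.vn = fun χ => (fun χ => C.va χ - C.vb 0 χ) χ - C.vb 1 χ from rfl, C.wsum_sub, C.wsum_sub,
    C.wsum_va, C.wsum_vb, C.wsum_vb] at h
  have hQ : (C.Qv : ℚ) ≠ 0 := Int.cast_ne_zero.2 C.Qv_ne
  have hq : (C.D.q : ℚ) = 4 * C.D.y + C.D.δ := by exact_mod_cast C.D.hq
  have hy := C.y_ne
  have hy' : (C.D.y : ℚ) ≠ 0 := by exact_mod_cast hy
  rw [hq] at h ⊢
  simp only [add_sub_cancel_right] at h ⊢
  field_simp at h
  rcases C.D.hδ with e | e <;> rw [e] at h ⊢ <;> push_cast at h ⊢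
  · apply mul_left_cancel₀ (by norm_num : (8 : ℚ) ≠ 0)
    linear_combination h
  · apply mul_left_cancel₀ (by norm_num : (8 : ℚ) ≠ 0)
    linear_combination -h

/-- The partners under a vector `φ_l`. -/
theorem exists_partner {lam : C.D.Z →* ℂˣ} (hl : lam ≠ 1) {χ : IrrCharacter G}
    (hχ : C.vl lam χ ≠ 0) :
    C.P χ = 0 ∧ ∃ χ', χ' ≠ χ ∧ C.deg χ' = C.deg χ ∧ C.va χ' = C.va χ ∧
      (∀ i, C.vb i χ' = C.vb i χ) ∧ C.vl lam χ' = -C.vl lam χ ∧ C.P χ' = 0 := by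
  classical
  obtain ⟨a, b, hab, hd, hv⟩ := exists_pair (D := C.deg) (fun χ => (C.deg_spec χ).2) (C.vl_vl hl)
    (C.vl_deg lam)
  have eq_ab : ∀ f : IrrCharacter G → ℤ, dotI f (C.vl lam) = 0 → f a = f b := fun f hf => by
    rw [dotI_single hv] at hf
    exact sub_eq_zero.1 hf
  have hP : C.P a = C.P b := eq_ab _ (by rw [dotI_comm]; exact C.P_vl hl)
  have h0 : C.P a = 0 := by
    by_contra hne
    have hone : ∀ x, x ≠ a → x ≠ b → C.P x = 0 := by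
      intro x hxa hxb
      by_contra hx
      have h := Finset.sum_le_sum_of_subset_of_nonneg (f := fun i => C.P i * C.P i)
        (Finset.subset_univ ({x, a, b} : Finset (IrrCharacter G))) (fun i _ _ => mul_self_nonneg _)
      rw [Finset.sum_insert (by simp [hxa, hxb]), Finset.sum_pair hab, ← hP, ← dotI, C.P_P] at h
      have h1 : 0 < C.P x * C.P x := mul_self_pos.2 hx
      have h2 : 0 < C.P a * C.P a := mul_self_pos.2 hne
      omega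
    have hdot : ∀ f : IrrCharacter G → ℤ, dotI f C.P = (f a + f b) * C.P a := fun f => by
      rw [dotI, Finset.sum_eq_add a b hab (fun x _ hx => by rw [hone x hx.1 hx.2, mul_zero])
        (by simp) (by simp), ← hP]
      ring
    have h2 := C.P_vb 0
    rw [hdot, ← eq_ab _ (C.vl_vb 0 hl)] at h2
    have h3 : (2 : ℤ) ∣ 1 := ⟨C.vb 0 a * C.P a, by linarith⟩
    omega
  rcases eq_or_ne χ a with rfl | hxa
  · exact ⟨h0, b, hab.symm, hd.symm, (eq_ab _ (C.vl_va hl)).symm,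
      fun i => (eq_ab _ (C.vl_vb i hl)).symm, by simp [hv, hab, hab.symm], hP ▸ h0⟩
  rcases eq_or_ne χ b with rfl | hxb
  · exact ⟨hP ▸ h0, a, hab, hd, eq_ab _ (C.vl_va hl), fun i => eq_ab _ (C.vl_vb i hl),
      by simp [hv, hab, hab.symm], h0⟩
  · exact absurd (by simp [hv, hxa, hxb]) hχ

/-- Without a partner the value at `t` is read off the three columns. -/
theorem T_of_unique {χ : IrrCharacter G} (hχ : C.Free χ)
    (h : C.P χ ≠ 0 ∨ ∀ χ', C.P χ' = 0 → C.deg χ' = C.deg χ → C.va χ' = C.va χ →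
      (∀ i, C.vb i χ' = C.vb i χ) → χ' = χ) :
    C.T χ = C.va χ - C.D.δ * C.D.z * (C.vb 0 χ + C.vb 1 χ) := by
  classical
  rw [C.T_free hχ, Finset.sum_eq_zero, mul_zero, sub_zero]
  intro lam hlam
  by_contra hne
  obtain ⟨h0, χ', hne', hd, ha, hb, -, h0'⟩ :=
    C.exists_partner (Finset.ne_of_mem_erase hlam) hne
  rcases h with h | h
  exacts [h h0, hne' (h χ' h0' hd ha hb)]

end Cfg

end CfsgLib.JankoThompson
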