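import Cfsg.Agent.Lib.JankoThompson.Cols

/-!
The integral vectors on the irreducible characters and the decomposition of the values at `t`.
-/

set_option autoImplicit false
set_option linter.unusedSectionVars false
set_option linter.style.haveILetI false

namespace CfsgLib.JankoThompson

open Cfsg CfsgLib CfsgLib.CharTheory
open scoped ComplexConjugate

universe u v

noncomputable instance homFintype {H : Type v} [Group H] [Finite H] : Fintype (H →* ℂˣ) :=
  haveI : Finite (H →* ℂˣ) := by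
    haveI : ∀ h : H, Finite {z : ℂˣ // z ^ Nat.card H = 1} := fun _ => by
      haveI : NeZero (Nat.card H) := ⟨Nat.card_pos.ne'⟩
      exact Finite.of_equiv (rootsOfUnity (Nat.card H) ℂ)
        (Equiv.subtypeEquivRight fun z => mem_rootsOfUnity _ z)
    exact Finite.of_injective
      (fun (θ : H →* ℂˣ) (h : H) => (⟨θ h, by rw [← map_pow, pow_card_eq_one', map_one]⟩ :
        {z : ℂˣ // z ^ Nat.card H = 1}))
      fun θ θ' h => MonoidHom.ext fun x => congrArg Subtype.val (congrFun h x)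
  Fintype.ofFinite _

/-- Orthogonality over the dual of a cyclic group. -/
theorem sum_dual {H : Type v} [Group H] [Fintype H] [DecidableEq H] (hH : IsCyclic H) (h : H) :
    ∑ θ : H →* ℂˣ, (θ h : ℂ) = if h = 1 then (Nat.card H : ℂ) else 0 := by
  letI : CommGroup H := hH.commGroup
  split_ifs with h1
  · subst h1
    simp only [map_one, Units.val_one, Finset.sum_const, Finset.card_univ, nsmul_eq_mul, mul_one]
    obtain ⟨e⟩ := CommGroup.monoidHom_mulEquiv_of_hasEnoughRootsOfUnity H ℂ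
    rw [← Nat.card_congr e.toEquiv, Nat.card_eq_fintype_card]
  · obtain ⟨φ, hφ⟩ := CommGroup.exists_apply_ne_one_of_hasEnoughRootsOfUnity H ℂ h1
    have e : (φ h : ℂ) * ∑ θ : H →* ℂˣ, (θ h : ℂ) = ∑ θ : H →* ℂˣ, (θ h : ℂ) := by
      rw [Finset.mul_sum]
      exact Fintype.sum_bijective (φ * ·) (Group.mulLeft_bijective φ) _ _ fun θ => by
        simp [Units.val_mul]
    have h2 : ((φ h : ℂ) - 1) * ∑ θ : H →* ℂˣ, (θ h : ℂ) = 0 := by rw [sub_mul, e, one_mul, sub_self]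
    exact (mul_eq_zero.1 h2).resolve_left fun e1 => hφ (Units.ext (sub_eq_zero.1 e1))

theorem mu_sum_pt : ∀ p : V4, ∑ μ : Option (Fin 3), mu μ pt * mu μ p = if p = pt then 4 else 0 := by
  decide

namespace Cfg

variable {G : Type u} [Group G] [Fintype G] {L : Type v} [Group L] [Fintype L] (C : Cfg G L)

noncomputable instance fintypeZ : Fintype C.D.Z := Fintype.ofFinite _

theorem isClassFun_tE (χ : IrrCharacter G) :
    IsClassFunction L (fun x => (χ : G → ℂ) (C.t * C.E x)) := fun x l => by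
  have e : C.t * C.E (l * x * l⁻¹) = C.E l * (C.t * C.E x) * (C.E l)⁻¹ := by
    rw [map_mul, map_mul, map_inv, ← mul_assoc, ← mul_assoc, ← mul_assoc, (C.E_comm l).eq]
  show (χ : G → ℂ) (C.t * C.E (l * x * l⁻¹)) = (χ : G → ℂ) (C.t * C.E x)
  rw [e]
  exact isClassFunction_irr χ.2 _ _

/-- The coefficient of an induced class function. -/
theorem coef_indFun (H : Subgroup L) [Fintype H] (f : H → ℂ) (χ : IrrCharacter G) :
    C.coef (indFun H f) (χ : G → ℂ) =
      (Nat.card H : ℂ)⁻¹ * ∑ h : H, f h * conj ((χ : G → ℂ) (C.t * C.E h)) :=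
  frobenius_reciprocity H f (C.isClassFun_tE χ)

theorem t_real (χ : IrrCharacter G) : conj ((χ : G → ℂ) C.t) = (χ : G → ℂ) C.t := by
  rw [← char_apply_inv (isCharacter_of_irr χ.2), C.t_inv]

theorem exists_int_t (χ : IrrCharacter G) : ∃ T : ℤ, (χ : G → ℂ) C.t = T := by
  obtain ⟨n, hn⟩ := classInner_char_nat (isCharacter_of_irr (isIrrCharacter_linear (1 : M2 →* ℂˣ)))
    (isCharacter_comp (isCharacter_of_irr χ.2) (twoHom C.t C.t_sq))
  obtain ⟨d, -, hd⟩ := irr_degree_pos χ.2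
  refine ⟨2 * (n : ℤ) - d, ?_⟩
  have hn' : (2 : ℂ)⁻¹ * ((χ : G → ℂ) 1 + (χ : G → ℂ) C.t) = n := by
    rw [← hn]
    simp [classInner, sum_M2, M2, C.t_real, hd, mul_add]
  rw [hd] at hn'
  push_cast
  rw [← hn']
  ring

/-- The degree. -/
noncomputable def deg (_C : Cfg G L) (χ : IrrCharacter G) : ℤ := (irr_degree_pos χ.2).choose

theorem deg_spec (χ : IrrCharacter G) : (χ : G → ℂ) 1 = (C.deg χ : ℂ) ∧ 0 < C.deg χ := by
  obtain ⟨h1, h2⟩ := (irr_degree_pos χ.2).choose_spec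
  exact ⟨by rw [h2, deg, Int.cast_natCast], Int.natCast_pos.2 h1⟩

/-- The value at `t`. -/
noncomputable def T (χ : IrrCharacter G) : ℤ := (C.exists_int_t χ).choose

theorem T_spec (χ : IrrCharacter G) : (χ : G → ℂ) C.t = (C.T χ : ℂ) := (C.exists_int_t χ).choose_spec

/-- The class function `φ_l`. -/
noncomputable def φl (lam : C.D.Z →* ℂˣ) : L → ℂ :=
  fun x => C.D.φa x + indFun C.D.Z (fun h => (lam h : ℂ) - 1) x

theorem Z_odd : Odd C.D.z := by
  have h := C.D.hz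
  rcases C.D.hδ with h1 | h1 <;> rw [h1] at h
  · exact ⟨C.D.y, by omega⟩
  · exact ⟨C.D.y - 1, by have := C.seven_le; omega⟩

theorem φl_gen (lam : C.D.Z →* ℂˣ) : IsGeneralizedCharacter L (C.φl lam) :=
  isGenChar_add C.D.gen_a (isGenChar_indFun C.D.Z (isGenChar_sub
    (isGenChar_of_char (isCharacter_of_irr (isIrrCharacter_linear lam)))
    (isGenChar_of_char isCharacter_one)))

theorem φl_even (lam : C.D.Z →* ℂˣ) (x : L) (hx : Even (orderOf x)) : C.φl lam x = 0 := by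
  classical
  rw [φl, C.D.even_a x hx, zero_add, indFun]
  refine mul_eq_zero_of_right _ (Finset.sum_eq_zero fun l _ => ?_)
  refine Function.extend_apply' _ _ _ ?_
  rintro ⟨h, hh⟩
  have h1 : orderOf (h : L) ∣ C.D.z := C.D.cardZ ▸ Subgroup.orderOf_dvd_natCard C.D.Z h.2
  have h2 : orderOf x = orderOf (h : L) := by
    rw [hh]
    exact (orderOf_injective (MulAut.conj l⁻¹).toMonoidHom (MulAut.conj l⁻¹).injective x).symm.trans
      (congrArg orderOf (show l⁻¹ * x * l⁻¹⁻¹ = l⁻¹ * x * l by group))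
  rw [h2] at hx
  exact Nat.not_even_iff_odd.2 (C.Z_odd.of_dvd_nat h1) hx

/-- The column of `φ_a`. -/
noncomputable def va (χ : IrrCharacter G) : ℤ := (C.coef_int C.D.gen_a χ).choose

theorem va_spec (χ : IrrCharacter G) : C.coef C.D.φa (χ : G → ℂ) = (C.va χ : ℂ) :=
  (C.coef_int C.D.gen_a χ).choose_spec

/-- The aligned column `-δ φ_b`. -/
noncomputable def vb (i : Fin 2) (χ : IrrCharacter G) : ℤ :=
  -C.D.δ * (C.coef_int (C.D.gen_b i) χ).choose

theorem vb_spec (i : Fin 2) (χ : IrrCharacter G) :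
    -(C.D.δ : ℂ) * C.coef (C.D.φb i) (χ : G → ℂ) = (C.vb i χ : ℂ) := by
  rw [vb, Int.cast_mul, Int.cast_neg, ← (C.coef_int (C.D.gen_b i) χ).choose_spec]

theorem delta_sq : (C.D.δ : ℂ) * C.D.δ = 1 := by
  rcases C.D.hδ with h | h <;> simp [h]

theorem coef_b (i : Fin 2) (χ : IrrCharacter G) :
    C.coef (C.D.φb i) (χ : G → ℂ) = -(C.D.δ : ℂ) * C.vb i χ := by
  rw [← C.vb_spec, ← mul_assoc, neg_mul_neg, C.delta_sq, one_mul]

/-- The vector `n`. -/
noncomputable def vn (χ : IrrCharacter G) : ℤ := C.va χ - C.vb 0 χ - C.vb 1 χ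

/-- The vectors of the functions on `A`. -/
noncomputable def vc (μ : Option (Fin 3)) (θ : C.D.Y →* ℂˣ) (χ : IrrCharacter G) : ℤ :=
  (C.cv_int μ θ χ).choose

theorem vc_spec (μ : Option (Fin 3)) (θ : C.D.Y →* ℂˣ) (χ : IrrCharacter G) :
    C.cv μ θ (χ : G → ℂ) = (C.vc μ θ χ : ℂ) := (C.cv_int μ θ χ).choose_spec

/-- The vectors of `φ_l`. -/
noncomputable def vl (lam : C.D.Z →* ℂˣ) (χ : IrrCharacter G) : ℤ :=
  (C.coef_int (C.φl_gen lam) χ).choose

theorem vl_spec (lam : C.D.Z →* ℂˣ) (χ : IrrCharacter G) :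
    C.coef (C.φl lam) (χ : G → ℂ) = (C.vl lam χ : ℂ) :=
  (C.coef_int (C.φl_gen lam) χ).choose_spec

/-- The signed sum of the four vectors over one character of `Y`. -/
noncomputable def vq (θ : C.D.Y →* ℂˣ) (χ : IrrCharacter G) : ℤ :=
  ∑ μ : Option (Fin 3), mu μ pt * C.vc μ θ χ

theorem ΦA_pt (y : C.D.Y) : C.ΦA (Multiplicative.ofAdd 1, 1, y) = C.t * C.E (y : L) := by
  rw [ΦA_eq, twoHom_one, map_one, map_one, mul_one]

/-- Inducing from `Y` is a combination of the vectors on `A`. -/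
theorem vq_eq (θ : C.D.Y →* ℂˣ) (χ : IrrCharacter G) :
    (C.vq θ χ : ℂ) = (Nat.card C.D.Y : ℂ)⁻¹ *
      ∑ y : C.D.Y, (1 - (θ y : ℂ)) * conj ((χ : G → ℂ) (C.t * C.E (y : L))) := by
  classical
  have h1 : (C.vq θ χ : ℂ) = (Nat.card C.AG : ℂ)⁻¹ * ∑ a : C.AG,
      ((∑ μ : Option (Fin 3), mu μ pt * mu μ a.p : ℤ) : ℂ) * ((1 - (θ a.2.2 : ℂ)) *
        conj ((χ : G → ℂ) (C.ΦA a))) := by
    simp only [vq, Int.cast_sum, Int.cast_mul, ← C.vc_spec, cv, gfun, Finset.mul_sum, Finset.sum_mul]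
    rw [Finset.sum_comm]
    exact Finset.sum_congr rfl fun a _ => Finset.sum_congr rfl fun μ _ => by ring
  rw [h1, Fintype.sum_prod_type, sum_M2, Fintype.sum_prod_type, Fintype.sum_prod_type, sum_M2, sum_M2]
  simp only [mu_sum_pt, AG.p]
  rw [if_neg (by decide), if_neg (by decide), if_pos (by rfl), if_neg (by decide)]
  simp only [Int.cast_zero, zero_mul, Finset.sum_const_zero, add_zero, zero_add]
  rw [C.cardAG, C.D.cardY, Finset.mul_sum, Finset.mul_sum]
  refine Finset.sum_congr rfl fun y _ => ?_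
  rw [← C.ΦA_pt y, show (Multiplicative.ofAdd (0 : ZMod 2) : M2) = 1 from rfl]
  have := C.y_ne
  push_cast
  field_simp

theorem sum_vq (χ : IrrCharacter G) :
    (∑ θ : C.D.Y →* ℂˣ, C.vq θ χ : ℤ) =
      (C.D.y : ℂ) * C.coef (indFun C.D.Y fun _ => 1) (χ : G → ℂ) - (C.T χ : ℂ) := by
  classical
  rw [Int.cast_sum]
  simp only [C.vq_eq, ← Finset.mul_sum]
  rw [Finset.sum_comm]
  simp only [← Finset.sum_mul, Finset.sum_sub_distrib, sum_dual C.D.cycY]
  have hcard : (Fintype.card (C.D.Y →* ℂˣ) : ℂ) = C.D.y := by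
    have h := sum_dual C.D.cycY (1 : C.D.Y)
    simp only [map_one, Units.val_one, if_true, Finset.sum_const, Finset.card_univ, nsmul_eq_mul,
      mul_one] at h
    rw [h, C.D.cardY]
  simp only [Finset.sum_const, Finset.card_univ, nsmul_eq_mul, mul_one, hcard, sub_mul, ite_mul,
    zero_mul, Finset.sum_sub_distrib, Finset.sum_ite_eq', Finset.mem_univ, if_true, C.D.cardY,
    C.coef_indFun, one_mul, Subgroup.coe_one, map_one, mul_one]
  rw [C.t_real, C.T_spec, ← Finset.mul_sum]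
  have := C.y_ne
  field_simp

theorem sum_vl (χ : IrrCharacter G) :
    (∑ lam : C.D.Z →* ℂˣ, C.vl lam χ : ℤ) = (C.D.z : ℂ) * (C.va χ : ℂ) + (C.T χ : ℂ) -
      (C.D.z : ℂ) * C.coef (indFun C.D.Z fun _ => 1) (χ : G → ℂ) := by
  classical
  have hz : (C.D.z : ℂ) ≠ 0 := Nat.cast_ne_zero.2 C.Z_odd.pos.ne'
  have h1 : ∀ lam : C.D.Z →* ℂˣ, (C.vl lam χ : ℂ) = (C.va χ : ℂ) + (C.D.z : ℂ)⁻¹ *
      ∑ h : C.D.Z, ((lam h : ℂ) - 1) * conj ((χ : G → ℂ) (C.t * C.E (h : L))) := by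
    intro lam
    rw [← C.vl_spec, ← C.va_spec, show C.φl lam = C.D.φa + indFun C.D.Z (fun h => (lam h : ℂ) - 1)
      from rfl, C.coef_add, C.coef_indFun, C.D.cardZ]
  rw [Int.cast_sum]
  simp only [h1, Finset.sum_add_distrib, ← Finset.mul_sum]
  rw [Finset.sum_comm]
  simp only [← Finset.sum_mul, Finset.sum_sub_distrib, sum_dual C.D.cycZ]
  have hcard : (Fintype.card (C.D.Z →* ℂˣ) : ℂ) = C.D.z := by
    have h := sum_dual C.D.cycZ (1 : C.D.Z)
    simp only [map_one, Units.val_one, if_true, Finset.sum_const, Finset.card_univ, nsmul_eq_mul,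
      mul_one] at h
    rw [h, C.D.cardZ]
  simp only [Finset.sum_const, Finset.card_univ, nsmul_eq_mul, mul_one, hcard, sub_mul, ite_mul,
    zero_mul, Finset.sum_sub_distrib, Finset.sum_ite_eq', Finset.mem_univ, if_true, C.D.cardZ,
    C.coef_indFun, one_mul, Subgroup.coe_one, map_one, mul_one]
  rw [C.t_real, C.T_spec, ← Finset.mul_sum]
  field_simp
  ring

/-- The value at `t` as a combination of the columns. -/
theorem T_eq (χ : IrrCharacter G) :
    C.T χ = C.va χ - C.D.δ * C.D.z * (C.vb 0 χ + C.vb 1 χ) +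
      C.D.δ * C.D.z * ((((C.D.y : ℤ) - 1) * C.vn χ) - ∑ θ : C.D.Y →* ℂˣ, C.vq θ χ) -
      2 * C.D.δ * C.D.y * ((∑ lam : C.D.Z →* ℂˣ, C.vl lam χ) - C.va χ) := by
  have hsum : ∀ f g : L → ℂ, C.coef (fun x => f x + g x) (χ : G → ℂ) =
      C.coef f (χ : G → ℂ) + C.coef g (χ : G → ℂ) := fun f g => C.coef_add f g _
  have hid : C.coef C.D.φa (χ : G → ℂ) +
      (C.D.δ : ℂ) * (C.coef (C.D.φb 0) (χ : G → ℂ) + C.coef (C.D.φb 1) (χ : G → ℂ)) -
      C.coef (indFun C.D.Y fun _ => 1) (χ : G → ℂ) =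
      2 * (C.coef C.D.φa (χ : G → ℂ) - C.coef (indFun C.D.Z fun _ => 1) (χ : G → ℂ)) := by
    simp only [coef, ← mul_add, ← mul_sub, mul_left_comm (C.D.δ : ℂ), mul_left_comm (2 : ℂ)]
    congr 1
    simp only [mul_add, mul_sub, Finset.mul_sum, ← Finset.sum_add_distrib, ← Finset.sum_sub_distrib]
    refine Finset.sum_congr rfl fun x _ => ?_
    linear_combination (conj ((χ : G → ℂ) (C.t * C.E x))) * C.D.ident x
  rw [C.va_spec, C.coef_b, C.coef_b] at hid
  apply Int.cast_injective (α := ℂ)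
  have hs1 := C.sum_vq χ
  have hs2 := C.sum_vl χ
  push_cast at hs1 hs2 ⊢
  rw [hs1, hs2, vn]
  push_cast
  have hz : (C.D.z : ℂ) = 2 * C.D.y + C.D.δ := by exact_mod_cast C.D.hz
  have hd := C.delta_sq
  rw [hz]
  linear_combination (-(C.D.δ : ℂ) * C.D.y * (2 * C.D.y + C.D.δ)) * hid +
    (-((C.T χ : ℂ) + (2 * (C.D.δ : ℂ) * C.D.y ^ 2 + (C.D.δ : ℂ) ^ 2 * C.D.y) *
      ((C.vb 0 χ : ℂ) + C.vb 1 χ) - C.va χ)) * hd

/-- The multiplicity congruence on `A`. -/
theorem congr_A (χ : IrrCharacter G) : ∃ M : ℤ,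
    C.deg χ + 3 * C.T χ = 4 * (C.D.y * M - ∑ θ : C.D.Y →* ℂˣ, C.vc none θ χ) := by
  classical
  obtain ⟨M, hM⟩ := classInner_char_nat (isCharacter_of_irr (isIrrCharacter_linear (1 : C.AG →* ℂˣ)))
    (isCharacter_comp (isCharacter_of_irr χ.2) C.ΦA)
  refine ⟨M, Int.cast_injective (α := ℂ) ?_⟩
  simp only [classInner, MonoidHom.one_apply, Units.val_one, one_mul] at hM
  push_cast
  rw [← (C.deg_spec χ).1, ← C.T_spec, ← hM]
  simp only [← C.vc_spec, cv, gfun, ← Finset.mul_sum]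
  rw [Finset.sum_comm]
  simp only [show ∀ p, mu none p = 1 from fun _ => rfl, Int.cast_one, one_mul, ← Finset.sum_mul,
    Finset.sum_sub_distrib, sum_dual C.D.cycY]
  have hcard : (Fintype.card (C.D.Y →* ℂˣ) : ℂ) = C.D.y := by
    have h := sum_dual C.D.cycY (1 : C.D.Y)
    simp only [map_one, Units.val_one, if_true, Finset.sum_const, Finset.card_univ, nsmul_eq_mul,
      mul_one] at h
    rw [h, C.D.cardY]
  simp only [Finset.sum_const, Finset.card_univ, nsmul_eq_mul, mul_one, hcard, C.D.cardY, sub_mul,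
    ite_mul, zero_mul, Finset.sum_sub_distrib, ← Finset.mul_sum]
  have hV : ∑ a : C.AG, (if a.2.2 = 1 then (C.D.y : ℂ) * conj ((χ : G → ℂ) (C.ΦA a)) else 0) =
      (C.D.y : ℂ) * ((χ : G → ℂ) 1 + 3 * (χ : G → ℂ) C.t) := by
    have hv : ∀ i j : M2, conj ((χ : G → ℂ) (C.ΦA (i, j, 1))) =
        if ((i, j) : V4) = 1 then (χ : G → ℂ) 1 else (χ : G → ℂ) C.t := by
      intro i j
      split_ifs with hp
      · rw [show ((i, j, 1) : C.AG) = 1 from Prod.ext ((congrArg Prod.fst hp :) : i = 1) (Prod.ext ((congrArg Prod.snd hp :) : j = 1) rfl),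
          map_one, (C.deg_spec χ).1, map_intCast]
      · obtain ⟨k, hk⟩ := exists_tau_pt (i, j) hp
        have e : C.ΦA (i, j, 1) = C.σ ^ (k : ℕ) * C.t * (C.σ ^ (k : ℕ))⁻¹ := by
          have h := C.conj_σ_pow k (Multiplicative.ofAdd 1, 1, 1)
          rw [show AG.p (C := C) (Multiplicative.ofAdd (1 : ZMod 2), (1 : M2), (1 : C.D.Y)) = pt
            from rfl, hk, Function.iterate_fixed (map_one C.α)] at h
          rw [← h, C.ΦA_pt]
          simp
        rw [e, isClassFunction_irr χ.2, C.t_real]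
    rw [Fintype.sum_prod_type]
    simp only [Fintype.sum_prod_type, Finset.sum_ite_eq', Finset.mem_univ, if_true, hv, sum_M2]
    rw [if_pos (by rfl), if_neg (by decide), if_neg (by decide), if_neg (by decide)]
    ring
  rw [hV, C.cardAG]
  have := C.y_ne
  push_cast
  field_simp
  ring

end Cfg

end CfsgLib.JankoThompson
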